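import Cfsg.Agent.PermutationGroups.Subdegree
import Cfsg.Agent.S0669
set_option linter.all false

/-!
# Multiplicity-freeness of permutation characters of small rank
-/

set_option autoImplicit false

namespace Cfsg.Agent.PermutationGroups.MultFree
open Cfsg Representation PermChar IrrSum Subdegree

section general
variable {G : Type*} [Group G]

theorem isIrr_one : IsIrrCharacter G (fun _ => 1) := by
  have h : (Representation.trivial ℂ G ℂ).IsIrreducible := by
    have hne : (⊥ : Subrepresentation (Representation.trivial ℂ G ℂ)) ≠ ⊤ := by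
      intro h
      have h1 : (1 : ℂ) ∈ (⊤ : Subrepresentation (Representation.trivial ℂ G ℂ)) := Submodule.mem_top
      rw [← h] at h1
      exact one_ne_zero h1
    refine { exists_pair_ne := ⟨⊥, ⊤, hne⟩, eq_bot_or_eq_top := fun A => ?_ }
    rcases eq_bot_or_eq_top A.toSubmodule with h | h
    · exact Or.inl (Subrepresentation.toSubmodule_injective h)
    · exact Or.inr (Subrepresentation.toSubmodule_injective h)
  have h2 := isIrr_of_rep (Representation.trivial ℂ G ℂ) h
  have h3 : (Representation.trivial ℂ G ℂ).character = fun _ => 1 := by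
    funext g
    have : (Representation.trivial ℂ G ℂ) g = 1 := rfl
    rw [Representation.character, this, LinearMap.trace_one]
    simp
  rwa [h3] at h2

theorem classInner_conj_symm [Fintype G] (φ ψ : G → ℂ) :
    (starRingEnd ℂ) (classInner φ ψ) = classInner ψ φ := by
  change (starRingEnd ℂ) (_ * _) = _ * _
  rw [map_mul, map_inv₀, map_natCast, map_sum]
  congr 1
  refine Finset.sum_congr rfl fun g _ => ?_
  rw [map_mul, Complex.conj_conj, mul_comm]

/-- norm of a sum of irreducible characters -/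
theorem classInner_self_eq_sum_sq [Fintype G] (m : IrrCharacter G →₀ ℕ) :
    classInner (m.sum (fun ψ n => n • (ψ : G → ℂ))) (m.sum (fun ψ n => n • (ψ : G → ℂ))) =
      ((∑ ψ ∈ m.support, m ψ ^ 2 : ℕ) : ℂ) := by
  conv_lhs => enter [1]; rw [Finsupp.sum]
  rw [classInner_sum_left]
  push_cast
  refine Finset.sum_congr rfl fun ψ _ => ?_
  rw [classInner_nsmul_left, ← classInner_conj_symm, classInner_finsupp_sum, map_natCast, sq]

end general

section perm

variable {G : Type*} [Group G] [Fintype G] {Ω : Type*} [Fintype Ω] [MulAction G Ω]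

omit [Fintype G] [Fintype Ω] in
theorem card_fixedBy_prod (g : G) :
    Nat.card (MulAction.fixedBy (Ω × Ω) g) = Nat.card (MulAction.fixedBy Ω g) ^ 2 := by
  rw [sq, ← Nat.card_prod]
  refine Nat.card_congr
    { toFun := fun p => (⟨p.1.1, congrArg Prod.fst p.2⟩, ⟨p.1.2, congrArg Prod.snd p.2⟩)
      invFun := fun p => ⟨(p.1.1, p.2.1), Prod.ext p.1.2 p.2.2⟩
      left_inv := fun p => rfl
      right_inv := fun p => rfl }

theorem classInner_self_eq_card_orbits :
    classInner (fun g : G => (Nat.card (MulAction.fixedBy Ω g) : ℂ))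
      (fun g : G => (Nat.card (MulAction.fixedBy Ω g) : ℂ)) =
      (Nat.card (MulAction.orbitRel.Quotient G (Ω × Ω)) : ℂ) := by
  classical
  have h0 : (Nat.card G : ℂ) ≠ 0 := by exact_mod_cast Nat.card_pos.ne'
  change (Nat.card G : ℂ)⁻¹ * ∑ g : G, _ = _
  rw [inv_mul_eq_iff_eq_mul₀ h0]
  have h1 := MulAction.sum_card_fixedBy_eq_card_orbits_mul_card_group G (Ω × Ω)
  rw [← Nat.card_eq_fintype_card, ← Nat.card_eq_fintype_card] at h1
  rw [mul_comm, ← Nat.cast_mul, MulAction.orbitRel.Quotient, ← h1]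
  push_cast
  refine Finset.sum_congr rfl fun g _ => ?_
  rw [← Nat.card_eq_fintype_card, card_fixedBy_prod, map_natCast]
  push_cast
  ring

variable [MulAction.IsPretransitive G Ω]

/-- Everything we need to know about the decomposition of a transitive permutation character. -/
theorem exists_decomp (a : Ω) : ∃ m : IrrCharacter G →₀ ℕ,
    (∀ ψ : IrrCharacter G,
      classInner (fun g : G => (Nat.card (MulAction.fixedBy Ω g) : ℂ)) (ψ : G → ℂ) = m ψ) ∧
    m ⟨_, isIrr_one⟩ = 1 ∧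
    ∑ ψ ∈ m.support, m ψ ^ 2 =
      Nat.card (MulAction.orbitRel.Quotient (MulAction.stabilizer G a) Ω) ∧
    (Nat.card Ω : ℂ) = ∑ ψ ∈ m.support, m ψ * (ψ : G → ℂ) 1 := by
  obtain ⟨m, hm⟩ := exists_sum_irr (isCharacter_of_rep (permRep ℂ G Ω))
  rw [← permChar_eq] at hm
  have h1 : ∀ ψ : IrrCharacter G,
      classInner (fun g : G => (Nat.card (MulAction.fixedBy Ω g) : ℂ)) (ψ : G → ℂ) = m ψ := by
    intro ψ
    rw [hm, classInner_finsupp_sum]
  refine ⟨m, h1, ?_, ?_, ?_⟩
  · have h2 := h1 ⟨_, isIrr_one⟩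
    rw [permChar_eq, classInner_one_eq_finrank, Nat.cast_inj] at h2
    rw [← h2]
    have hmem : (fun _ => 1 : Ω → ℂ) ∈ invariants (permRep ℂ G Ω) := by
      rw [mem_invariants]
      intro g
      rfl
    refine (finrank_eq_one_iff_of_nonzero' ⟨_, hmem⟩ ?_).mpr ?_
    · intro h
      have := congrFun (congrArg Subtype.val h) a
      exact one_ne_zero this
    · rintro ⟨w, hw⟩
      rw [mem_invariants] at hw
      refine ⟨w a, Subtype.ext (funext fun x => ?_)⟩
      change w a * 1 = w x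
      rw [mul_one]
      exact eq_of_fixed w hw a x
  · have h2 := classInner_self_eq_card_orbits (G := G) (Ω := Ω)
    rw [Cfsg.Agent.S0669.result a] at h2
    rw [hm, classInner_self_eq_sum_sq] at h2
    exact_mod_cast h2
  · have h2 := congrFun hm 1
    have h3 : Nat.card (MulAction.fixedBy Ω (1 : G)) = Nat.card Ω := by
      refine Nat.card_congr (_root_.Equiv.subtypeUnivEquiv fun x => ?_)
      exact one_smul G x
    rw [h3, Finsupp.sum, Finset.sum_apply] at h2
    rw [h2]
    refine Finset.sum_congr rfl fun ψ _ => ?_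
    rw [Pi.smul_apply, nsmul_eq_mul]

omit [Fintype G] [MulAction.IsPretransitive G Ω] in
/-- the degree is the sum of the sizes of the suborbits -/
theorem card_eq_sum_orbits (a : Ω) [Fintype (MulAction.orbitRel.Quotient (MulAction.stabilizer G a) Ω)] :
    Nat.card Ω = ∑ q : MulAction.orbitRel.Quotient (MulAction.stabilizer G a) Ω, Nat.card q.orbit := by
  rw [Nat.card_congr (MulAction.selfEquivSigmaOrbits' (MulAction.stabilizer G a) Ω), Nat.card_sigma]

theorem main_a (a : Ω) (f : ℕ) (hf : ∀ χ : G → ℂ, Cfsg.IsIrrCharacter G χ → χ ≠ (fun _ => 1) →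
      Cfsg.classInner (fun g : G => (Nat.card (MulAction.fixedBy Ω g) : ℂ)) χ ≠ 0 → χ 1 = f) :
    (∀ χ : G → ℂ, Cfsg.IsIrrCharacter G χ →
      Cfsg.classInner (fun g : G => (Nat.card (MulAction.fixedBy Ω g) : ℂ)) χ = 0 ∨
      Cfsg.classInner (fun g : G => (Nat.card (MulAction.fixedBy Ω g) : ℂ)) χ = 1) ∧
    ∀ b : Ω, b ≠ a → Nat.card (MulAction.orbit (MulAction.stabilizer G a) b) = f := by
  classical
  obtain ⟨m, h1, h2, h3, h4⟩ := exists_decomp (G := G) a
  let H := MulAction.stabilizer G a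
  let Q := MulAction.orbitRel.Quotient H Ω
  have : Fintype Q := Fintype.ofFinite Q
  let q₀ : Q := Quotient.mk (MulAction.orbitRel H Ω) a
  let ψ₀ : IrrCharacter G := ⟨_, isIrr_one⟩
  have hdvd : ∀ b : Ω, b ≠ a → f ∣ Nat.card (MulAction.orbit H b) := by
    intro b hb
    refine dvd_subdegree f (fun χ h1 h2 h3 => ⟨1, ?_⟩) a b hb
    rw [hf χ h1 h2 h3, Nat.cast_one, mul_one]
  have horb : ∀ b : Ω, MulAction.orbitRel.Quotient.orbit
      (Quotient.mk (MulAction.orbitRel H Ω) b : Q) = MulAction.orbit H b :=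
    fun b => MulAction.orbitRel.Quotient.orbit_mk b
  have hpos : ∀ b : Ω, 0 < Nat.card (MulAction.orbit H b) := by
    intro b
    have : Nonempty (MulAction.orbit H b) := ⟨⟨b, MulAction.mem_orbit_self b⟩⟩
    exact Nat.card_pos
  have hq₀ : Nat.card q₀.orbit = 1 := by
    rw [horb, Nat.card_eq_one_iff_unique]
    constructor
    · constructor
      rintro ⟨x, g, hg⟩ ⟨y, g', hg'⟩
      apply Subtype.ext
      change x = y
      rw [← hg, ← hg']
      exact (g.2 : (g : G) • a = a).trans (g'.2 : (g' : G) • a = a).symm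
    · exact ⟨⟨a, MulAction.mem_orbit_self a⟩⟩
  have hk : ∀ q : Q, q ≠ q₀ → ∃ k, 0 < k ∧ Nat.card q.orbit = f * k := by
    intro q hq
    induction q using Quotient.inductionOn with | _ b => ?_
    have hb : b ≠ a := by
      rintro rfl
      exact hq rfl
    rw [horb]
    obtain ⟨k, hk⟩ := hdvd b hb
    refine ⟨k, ?_, hk⟩
    rw [Nat.pos_iff_ne_zero]
    rintro rfl
    have := hpos b
    omega
  choose! k hk0 hk using hk
  -- the two countings
  have hmem : ψ₀ ∈ m.support := by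
    rw [Finsupp.mem_support_iff, h2]; exact one_ne_zero
  have hsq : Fintype.card Q = 1 + ∑ ψ ∈ m.support.erase ψ₀, m ψ ^ 2 := by
    rw [← Nat.card_eq_fintype_card, ← h3, ← Finset.add_sum_erase _ _ hmem, h2, one_pow]
  have hcard1 : Nat.card Ω = 1 + f * ∑ q ∈ Finset.univ.erase q₀, k q := by
    rw [card_eq_sum_orbits (G := G) a, ← Finset.add_sum_erase _ _ (Finset.mem_univ q₀), hq₀,
      Finset.mul_sum]
    congr 1
    exact Finset.sum_congr rfl fun q hq => hk q (Finset.ne_of_mem_erase hq)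
  have hcard2 : Nat.card Ω = 1 + f * ∑ ψ ∈ m.support.erase ψ₀, m ψ := by
    apply Nat.cast_injective (R := ℂ)
    rw [h4, ← Finset.add_sum_erase _ _ hmem, h2]
    push_cast
    rw [Finset.mul_sum]
    congr 1
    · simp [ψ₀]
    · refine Finset.sum_congr rfl fun ψ hψ => ?_
      rw [hf ψ ψ.2 (fun h => Finset.ne_of_mem_erase hψ (Subtype.ext h)) (by
        rw [h1, Nat.cast_ne_zero]
        exact Finsupp.mem_support_iff.mp (Finset.mem_of_mem_erase hψ))]
      ring
  have hle1 : Fintype.card Q ≤ 1 + ∑ q ∈ Finset.univ.erase q₀, k q := by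
    have h5 : (Finset.univ.erase q₀ : Finset Q).card ≤ ∑ q ∈ Finset.univ.erase q₀, k q := by
      rw [Finset.card_eq_sum_ones]
      exact Finset.sum_le_sum fun q hq => hk0 q (Finset.ne_of_mem_erase hq)
    rw [Finset.card_erase_of_mem (Finset.mem_univ _), Finset.card_univ] at h5
    omega
  have hle2 : ∀ ψ ∈ m.support.erase ψ₀, m ψ ≤ m ψ ^ 2 := fun ψ _ =>
    Nat.le_self_pow two_ne_zero _
  have hle3 := Finset.sum_le_sum hle2
  by_cases hex : ∃ b : Ω, b ≠ a
  · obtain ⟨b₀, hb₀⟩ := hex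
    have hf0 : 0 < f := by
      rw [Nat.pos_iff_ne_zero]
      rintro rfl
      have := hpos b₀
      rw [zero_dvd_iff.mp (hdvd b₀ hb₀)] at this
      exact lt_irrefl _ this
    have hKM : ∑ q ∈ Finset.univ.erase q₀, k q = ∑ ψ ∈ m.support.erase ψ₀, m ψ := by
      apply Nat.eq_of_mul_eq_mul_left hf0
      omega
    have heq1 : ∑ ψ ∈ m.support.erase ψ₀, m ψ = ∑ ψ ∈ m.support.erase ψ₀, m ψ ^ 2 := by omega
    have heq2 : ∑ q ∈ (Finset.univ.erase q₀ : Finset Q), 1 = ∑ q ∈ Finset.univ.erase q₀, k q := by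
      rw [← Finset.card_eq_sum_ones, Finset.card_erase_of_mem (Finset.mem_univ _), Finset.card_univ]
      omega
    have h5 := (Finset.sum_eq_sum_iff_of_le hle2).mp heq1
    have h6 := (Finset.sum_eq_sum_iff_of_le
      (fun q (hq : q ∈ Finset.univ.erase q₀) => hk0 q (Finset.ne_of_mem_erase hq))).mp heq2
    constructor
    · intro χ hχ
      have h7 := h1 ⟨χ, hχ⟩
      rw [h7]
      by_cases h8 : (⟨χ, hχ⟩ : IrrCharacter G) ∈ m.support
      · right
        by_cases h9 : (⟨χ, hχ⟩ : IrrCharacter G) = ψ₀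
        · rw [h9, h2, Nat.cast_one]
        · have h10 := h5 ⟨χ, hχ⟩ (Finset.mem_erase.mpr ⟨h9, h8⟩)
          rw [Finsupp.mem_support_iff] at h8
          rw [sq] at h10
          have h11 : m ⟨χ, hχ⟩ = 1 := by
            have h12 : m ⟨χ, hχ⟩ * 1 = m ⟨χ, hχ⟩ * m ⟨χ, hχ⟩ := by rw [mul_one]; exact h10
            exact (Nat.eq_of_mul_eq_mul_left (Nat.pos_of_ne_zero h8) h12).symm
          rw [h11, Nat.cast_one]
      · left
        rw [Finsupp.notMem_support_iff.mp h8, Nat.cast_zero]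
    · intro b hb
      have hbq : (Quotient.mk (MulAction.orbitRel H Ω) b : Q) ≠ q₀ := by
        intro h
        have h7 : b ∈ MulAction.orbit H a := Quotient.exact h
        obtain ⟨g, hg⟩ := h7
        apply hb
        rw [← hg]
        exact g.2
      have h7 := h6 _ (Finset.mem_erase.mpr ⟨hbq, Finset.mem_univ _⟩)
      have h8 := hk _ hbq
      rw [horb, ← h7, mul_one] at h8
      exact h8
  · push Not at hex
    have hQ : Fintype.card Q = 1 := by
      rw [Fintype.card_eq_one_iff]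
      refine ⟨q₀, fun q => ?_⟩
      induction q using Quotient.inductionOn with | _ b => ?_
      rw [hex b]
    have h5 : ∑ ψ ∈ m.support.erase ψ₀, m ψ ^ 2 = 0 := by omega
    rw [Finset.sum_eq_zero_iff] at h5
    refine ⟨?_, fun b hb => absurd (hex b) hb⟩
    intro χ hχ
    have h7 := h1 ⟨χ, hχ⟩
    rw [h7]
    by_cases h9 : (⟨χ, hχ⟩ : IrrCharacter G) = ψ₀
    · right
      rw [h9, h2, Nat.cast_one]
    · left
      by_contra h8
      rw [Nat.cast_eq_zero] at h8
      have h10 := h5 ⟨χ, hχ⟩ (Finset.mem_erase.mpr ⟨h9, Finsupp.mem_support_iff.mpr h8⟩)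
      exact h8 (pow_eq_zero_iff two_ne_zero |>.mp h10)

theorem main_b (a : Ω)
    (hr : Nat.card (MulAction.orbitRel.Quotient (MulAction.stabilizer G a) Ω) ≤ 5) :
    ∀ χ : G → ℂ, Cfsg.IsIrrCharacter G χ →
      Cfsg.classInner (fun g : G => (Nat.card (MulAction.fixedBy Ω g) : ℂ)) χ = 0 ∨
      Cfsg.classInner (fun g : G => (Nat.card (MulAction.fixedBy Ω g) : ℂ)) χ = 1 := by
  classical
  obtain ⟨m, h1, h2, h3, h4⟩ := exists_decomp (G := G) a
  let ψ₀ : IrrCharacter G := ⟨_, isIrr_one⟩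
  have hmem : ψ₀ ∈ m.support := by
    rw [Finsupp.mem_support_iff, h2]; exact one_ne_zero
  have hr1 : 1 + ∑ ψ ∈ m.support.erase ψ₀, m ψ ^ 2 ≤ 5 := by
    have h5 := Finset.add_sum_erase m.support (fun ψ => m ψ ^ 2) hmem
    have h6 : m ψ₀ ^ 2 = 1 := by rw [h2, one_pow]
    simp only [h6] at h5
    omega
  intro χ hχ
  by_cases hm : m ⟨χ, hχ⟩ ≤ 1
  · rw [h1 ⟨χ, hχ⟩]
    interval_cases (m ⟨χ, hχ⟩) <;> simp
  push Not at hm
  have hne : (⟨χ, hχ⟩ : IrrCharacter G) ≠ ψ₀ := by
    intro h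
    rw [h, h2] at hm
    exact lt_irrefl _ hm
  have hmemχ : (⟨χ, hχ⟩ : IrrCharacter G) ∈ m.support.erase ψ₀ :=
    Finset.mem_erase.mpr ⟨hne, Finsupp.mem_support_iff.mpr (by omega)⟩
  have hsq : 4 ≤ m ⟨χ, hχ⟩ ^ 2 := by nlinarith
  have h5 : ∑ ψ ∈ (m.support.erase ψ₀).erase ⟨χ, hχ⟩, m ψ ^ 2 = 0 := by
    have h6 := Finset.add_sum_erase (m.support.erase ψ₀) (fun ψ => m ψ ^ 2) hmemχ
    omega
  rw [Finset.sum_eq_zero_iff] at h5
  obtain ⟨n, ρ, hρ, hρχ⟩ := id hχ
  refine (main_a a n (fun χ' hχ' h' h'' => ?_)).1 χ hχ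
  have h6 : (⟨χ', hχ'⟩ : IrrCharacter G) = ⟨χ, hχ⟩ := by
    by_contra h7
    rw [h1 ⟨χ', hχ'⟩, Nat.cast_ne_zero] at h''
    have h8 := h5 ⟨χ', hχ'⟩ (Finset.mem_erase.mpr ⟨h7, Finset.mem_erase.mpr
      ⟨fun h => h' (congrArg Subtype.val h), Finsupp.mem_support_iff.mpr h''⟩⟩)
    exact h'' (pow_eq_zero_iff two_ne_zero |>.mp h8)
  have h7 : χ' = χ := congrArg Subtype.val h6
  rw [h7, ← hρχ, Representation.char_one, Module.finrank_fin_fun]

end perm

end Cfsg.Agent.PermutationGroups.MultFree
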