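import Mathlib
import Cfsg.Agent.PermutationGroups.MultTrans
set_option linter.all false

/-!
A `k`-transitive group, `4 ≤ k < n`, in which only the identity fixes more than `k` points,
induces at least the alternating group on some `(k+1)`-set.
-/

set_option autoImplicit false

namespace Cfsg.Agent.PermutationGroups.InducedAlt

open MulAction Equiv

variable {α : Type*} [Fintype α] [DecidableEq α]

/-- Transpositions on `Δ` induced by `G`: enough to get the whole symmetric group. -/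
theorem exists_of_forall_swap (G : Subgroup (Perm α)) (Δ : Finset α)
    (h : ∀ x ∈ Δ, ∀ y ∈ Δ, x ≠ y → ∃ g ∈ G, ∀ z ∈ Δ, g z = swap x y z) (σ : Perm ↥Δ) :
    ∃ g ∈ G, ∀ x : ↥Δ, g (x : α) = σ x := by
  induction σ using Equiv.Perm.swap_induction_on with
  | one => exact ⟨1, G.one_mem, fun x => rfl⟩
  | swap_mul f x y hxy ih =>
    obtain ⟨g, hg, hgf⟩ := ih
    obtain ⟨t, ht, htx⟩ := h x x.2 y y.2 (fun hh => hxy (Subtype.ext hh))
    refine ⟨t * g, G.mul_mem ht hg, fun z => ?_⟩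
    rw [Perm.mul_apply, hgf, htx _ (f z).2, Perm.mul_apply]
    by_cases h1 : f z = x
    · rw [h1, swap_apply_left, swap_apply_left]
    by_cases h2 : f z = y
    · rw [h2, swap_apply_right, swap_apply_right]
    rw [swap_apply_of_ne_of_ne h1 h2, swap_apply_of_ne_of_ne (fun hh => h1 (Subtype.ext hh))
      (fun hh => h2 (Subtype.ext hh))]

/-- Induced transpositions compose transitively. -/
theorem swap_trans (G : Subgroup (Perm α)) (Δ : Finset α) {x y z : α} (hx : x ∈ Δ) (hy : y ∈ Δ)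
    (hz : z ∈ Δ)
    (h1 : ∃ g ∈ G, ∀ w ∈ Δ, g w = swap x y w) (h2 : ∃ g ∈ G, ∀ w ∈ Δ, g w = swap y z w) :
    ∃ g ∈ G, ∀ w ∈ Δ, g w = swap x z w := by
  obtain ⟨g, hg, hg'⟩ := h1
  obtain ⟨t, ht, ht'⟩ := h2
  by_cases hxy : x = y
  · subst hxy; exact ⟨t, ht, ht'⟩
  by_cases hxz : x = z
  · subst hxz
    exact ⟨1, G.one_mem, fun w _ => by simp⟩
  have hm1 : ∀ w ∈ Δ, swap y z w ∈ Δ := by
    intro w hw
    by_cases h1 : w = y
    · rw [h1, swap_apply_left]; exact hz
    by_cases h2 : w = z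
    · rw [h2, swap_apply_right]; exact hy
    rwa [swap_apply_of_ne_of_ne h1 h2]
  have hm2 : ∀ w ∈ Δ, swap x y w ∈ Δ := by
    intro w hw
    by_cases h1 : w = x
    · rw [h1, swap_apply_left]; exact hy
    by_cases h2 : w = y
    · rw [h2, swap_apply_right]; exact hx
    rwa [swap_apply_of_ne_of_ne h1 h2]
  refine ⟨t * g * t, G.mul_mem (G.mul_mem ht hg) ht, fun w hw => ?_⟩
  rw [Perm.mul_apply, Perm.mul_apply, ht' w hw, hg' _ (hm1 w hw), ht' _ (hm2 _ (hm1 w hw)),
    swap_comm x z, ← swap_mul_swap_mul_swap hxy hxz]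
  rfl

/-- If the elements of `G` of order `2` do not fix `Γ` pointwise then the elements of `G` fixing
`Γ` pointwise have odd order. -/
theorem odd_orderOf (G : Subgroup (Perm α)) (Γ : Finset α)
    (hodd : ∀ g ∈ G, g * g = 1 → (∀ x ∈ Γ, g x = x) → g = 1) (g : Perm α) (hg : g ∈ G)
    (hgΓ : ∀ x ∈ Γ, g x = x) : Odd (orderOf g) := by
  by_contra hne
  rw [Nat.not_odd_iff_even] at hne
  obtain ⟨r, hr⟩ := hne
  have h1 : (g ^ r) * (g ^ r) = 1 := by rw [← pow_add, ← hr, pow_orderOf_eq_one]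
  have hfix : ∀ j : ℕ, ∀ x ∈ Γ, (g ^ j) x = x := by
    intro j
    induction j with
    | zero => intro x _; rfl
    | succ j ih => intro x hx; rw [pow_succ, Perm.mul_apply, hgΓ x hx, ih x hx]
  have h2 := hodd (g ^ r) (G.pow_mem hg r) h1 (hfix r)
  have h3 := orderOf_dvd_of_pow_eq_one h2
  have h4 : 0 < orderOf g := orderOf_pos g
  have h5 := Nat.le_of_dvd (by omega) h3
  omega

/-- Two involutions inducing the same permutation of `Γ` are conjugate under the pointwise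
stabiliser of `Γ`. -/
theorem exists_conj (G : Subgroup (Perm α)) (Γ : Finset α)
    (hodd : ∀ g ∈ G, g * g = 1 → (∀ x ∈ Γ, g x = x) → g = 1) {z z' : Perm α} (hz : z ∈ G)
    (hz' : z' ∈ G) (h2 : z * z = 1) (h2' : z' * z' = 1) (hmap : ∀ x ∈ Γ, z x ∈ Γ)
    (heq : ∀ x ∈ Γ, z' x = z x) :
    ∃ a ∈ G, (∀ x ∈ Γ, a x = x) ∧ a * z * a⁻¹ = z' := by
  set ρ : Perm α := z' * z with hρ
  have hρΓ : ∀ x ∈ Γ, ρ x = x := by
    intro x hx
    rw [hρ, Perm.mul_apply, heq _ (hmap x hx), ← Perm.mul_apply, h2]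
    rfl
  have hρG : ρ ∈ G := G.mul_mem hz' hz
  obtain ⟨j, hj⟩ := odd_orderOf G Γ hodd ρ hρG hρΓ
  have hzinv : z⁻¹ = z := inv_eq_of_mul_eq_one_left h2
  have hz'inv : z'⁻¹ = z' := inv_eq_of_mul_eq_one_left h2'
  have hconj : z * ρ * z⁻¹ = ρ⁻¹ := by
    rw [hρ, mul_inv_rev, hzinv, hz'inv, ← mul_assoc, mul_assoc, h2, mul_one]
  have hconjpow : ∀ i : ℕ, z * ρ ^ i * z⁻¹ = (ρ ^ i)⁻¹ := by
    intro i
    rw [← conj_pow, hconj, inv_pow]
  have hfix : ∀ i : ℕ, ∀ x ∈ Γ, (ρ ^ i) x = x := by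
    intro i
    induction i with
    | zero => intro x _; rfl
    | succ i ih => intro x hx; rw [pow_succ, Perm.mul_apply, hρΓ x hx, ih x hx]
  refine ⟨ρ ^ (j + 1), G.pow_mem hρG _, hfix _, ?_⟩
  have h3 : z * (ρ ^ (j + 1))⁻¹ = ρ ^ (j + 1) * z := by
    rw [← hconjpow]
    rw [← mul_assoc, ← mul_assoc, h2, one_mul, hzinv]
  have h4 : ρ ^ (j + 1) * ρ ^ (j + 1) = ρ := by
    rw [← pow_add]
    have : j + 1 + (j + 1) = orderOf ρ + 1 := by omega
    rw [this, pow_succ, pow_orderOf_eq_one, one_mul]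
  rw [mul_assoc, h3, ← mul_assoc, h4, hρ, mul_assoc, h2, mul_one]

/-- Every involution of `Γ` is induced by an involution. -/
theorem exists_invol (G : Subgroup (Perm α)) {k : ℕ} (ht : IsMultiplyPretransitive G α k)
    (hkn : k ≤ Fintype.card α) (Γ : Finset α) (hΓ : Γ.card = k)
    (hodd : ∀ g ∈ G, g * g = 1 → (∀ x ∈ Γ, g x = x) → g = 1) (π : Perm α)
    (hπ : ∀ x ∈ Γ, π x ∈ Γ) (h2 : ∀ x ∈ Γ, π (π x) = x) :
    ∃ z ∈ G, z * z = 1 ∧ ∀ x ∈ Γ, z x = π x := by
  obtain ⟨g, hg, hgπ⟩ := MultTrans.exists_agree_perm G ht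
    (by rwa [Nat.card_eq_fintype_card]) Γ hΓ.le π
  have hgg : ∀ x ∈ Γ, (g * g) x = x := by
    intro x hx
    rw [Perm.mul_apply, hgπ x hx, hgπ _ (hπ x hx), h2 x hx]
  obtain ⟨j, hj⟩ := odd_orderOf G Γ hodd (g * g) (G.mul_mem hg hg) hgg
  have hfix : ∀ i : ℕ, ∀ x ∈ Γ, ((g * g) ^ i) x = x := by
    intro i
    induction i with
    | zero => intro x _; rfl
    | succ i ih => intro x hx; rw [pow_succ, Perm.mul_apply, hgg x hx, ih x hx]
  refine ⟨g ^ orderOf (g * g), G.pow_mem hg _, ?_, ?_⟩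
  · rw [← (Commute.refl g).mul_pow, pow_orderOf_eq_one]
  · intro x hx
    have h3 : g ^ orderOf (g * g) = g * (g * g) ^ j := by
      rw [hj, pow_succ', ← pow_two g, ← pow_mul]
    rw [h3, Perm.mul_apply, hfix j x hx, hgπ x hx]

/-- An involution has a fixed point outside of an invariant set with odd complement. -/
theorem exists_fixed (z : Perm α) (h2 : z * z = 1) (s : Finset α) (hs : ∀ x ∈ s, z x ∈ s)
    (hodd : Odd (Fintype.card α - s.card)) : ∃ x, x ∉ s ∧ z x = x := by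
  by_contra hcon
  push Not at hcon
  have hzz : ∀ x, z (z x) = x := fun x => by rw [← Perm.mul_apply, h2]; rfl
  have h3 : ∀ x ∈ sᶜ, z x ∈ sᶜ := by
    intro x hx
    rw [Finset.mem_compl] at hx ⊢
    intro h
    exact hx (by have := hs _ h; rwa [hzz] at this)
  have h4 : Even (sᶜ).card := by
    have h5 : ∑ x ∈ sᶜ, (1 : ZMod 2) = 0 :=
      Finset.sum_involution (fun x _ => z x) (fun x _ => by decide)
        (fun x hx _ => hcon x (by simpa using hx)) h3 (fun x _ => hzz x)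
    rw [Finset.sum_const, nsmul_eq_mul, mul_one] at h5
    exact (ZMod.natCast_eq_zero_iff_even).1 h5
  rw [Finset.card_compl] at h4
  exact (Nat.not_even_iff_odd.2 hodd) h4

/-- A `k`-transitive group is transitive on the sets of `m ≤ k` points. -/
theorem exists_image_eq (G : Subgroup (Perm α)) {k : ℕ} (ht : IsMultiplyPretransitive G α k)
    (hkn : k ≤ Fintype.card α) (s s' : Finset α) (hs : s.card ≤ k) (h : s.card = s'.card) :
    ∃ g ∈ G, s.image g = s' := by
  obtain ⟨e⟩ : Nonempty (s ≃ s') := ⟨Finset.equivOfCardEq h⟩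
  obtain ⟨g, hg, hgf⟩ := MultTrans.exists_agree_perm G ht
    (by rwa [Nat.card_eq_fintype_card]) s hs (Equiv.extendSubtype e)
  refine ⟨g, hg, ?_⟩
  apply Finset.eq_of_subset_of_card_le
  · intro y hy
    obtain ⟨x, hx, rfl⟩ := Finset.mem_image.1 hy
    rw [hgf x hx, Equiv.extendSubtype_apply_of_mem e x hx]
    exact (e ⟨x, hx⟩).2
  · rw [Finset.card_image_of_injective _ g.injective, h]

/-- If the identity is the only element fixing more than `k` points and some involution fixes `k`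
points then `G` induces the symmetric group on every `(k+1)`-set. -/
theorem case_even (G : Subgroup (Perm α)) {k : ℕ} (ht : IsMultiplyPretransitive G α k)
    (hkn : k < Fintype.card α)
    (hfix : ∀ g ∈ G, ∀ s : Finset α, k + 1 ≤ s.card → (∀ x ∈ s, g x = x) → g = 1)
    (t : Perm α) (htG : t ∈ G) (ht1 : t ≠ 1) (ht2 : t * t = 1) (Γ : Finset α) (hΓ : Γ.card = k)
    (htΓ : ∀ x ∈ Γ, t x = x) (Δ : Finset α) (hΔ : Δ.card = k + 1) :
    ∀ x ∈ Δ, ∀ y ∈ Δ, x ≠ y → ∃ g ∈ G, ∀ z ∈ Δ, g z = swap x y z := by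
  have hall : ∀ Γ' : Finset α, Γ'.card = k →
      ∃ t' ∈ G, t' ≠ 1 ∧ t' * t' = 1 ∧ ∀ x ∈ Γ', t' x = x := by
    intro Γ' hΓ'
    obtain ⟨g, hg, hgΓ⟩ := exists_image_eq G ht hkn.le Γ Γ' hΓ.le (hΓ.trans hΓ'.symm)
    refine ⟨g * t * g⁻¹, G.mul_mem (G.mul_mem hg htG) (G.inv_mem hg), ?_, ?_, ?_⟩
    · intro h
      apply ht1
      have : g * t = g := by rw [mul_inv_eq_one] at h; exact h
      exact mul_eq_left.1 this
    · rw [conj_mul, ht2]; simp
    · intro x hx
      rw [← hgΓ] at hx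
      obtain ⟨x0, hx0, rfl⟩ := Finset.mem_image.1 hx
      simp [Perm.mul_apply, htΓ x0 hx0]
  intro x hx y hy hxy
  set Θ : Finset α := (Δ.erase x).erase y with hΘ
  have hyx : y ∈ Δ.erase x := Finset.mem_erase.2 ⟨hxy.symm, hy⟩
  have hΘc : Θ.card = k - 1 := by
    rw [hΘ, Finset.card_erase_of_mem hyx, Finset.card_erase_of_mem hx, hΔ]; omega
  have hk : 1 ≤ k := by
    have : ({x, y} : Finset α).card ≤ Δ.card := Finset.card_le_card (by
      intro z hz
      simp only [Finset.mem_insert, Finset.mem_singleton] at hz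
      rcases hz with rfl | rfl
      · exact hx
      · exact hy)
    rw [Finset.card_pair hxy] at this
    omega
  have hxΘ : x ∉ Θ := by simp [hΘ]
  have hyΘ : y ∉ Θ := by simp [hΘ]
  let T : Finset α := (insert x Θ)ᶜ
  have hT : ∀ a, a ∈ T ↔ a ≠ x ∧ a ∉ Θ := by
    intro a; simp [T, not_or]
  have hex : ∀ a ∈ T, ∃ t' ∈ G, t' ≠ 1 ∧ t' * t' = 1 ∧ ∀ z ∈ insert a Θ, t' z = z := by
    intro a ha
    refine hall (insert a Θ) ?_
    rw [Finset.card_insert_of_notMem ((hT a).1 ha).2, hΘc]; omega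
  choose! τ hτG hτ1 hτ2 hτf using hex
  have hinv : ∀ a ∈ T, ∀ z, τ a (τ a z) = z := fun a ha z => by
    rw [← Perm.mul_apply, hτ2 a ha]; rfl
  have hmem : ∀ a ∈ T, τ a x ∈ T := by
    intro a ha
    have ha' := (hT a).1 ha
    rw [hT]
    refine ⟨fun h => ?_, fun h => ?_⟩
    · apply hτ1 a ha
      refine hfix _ (hτG a ha) (insert x (insert a Θ)) ?_ ?_
      · rw [Finset.card_insert_of_notMem, Finset.card_insert_of_notMem ha'.2, hΘc]
        · omega
        · simp only [Finset.mem_insert, not_or]; exact ⟨Ne.symm ha'.1, hxΘ⟩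
      · intro z hz
        rcases Finset.mem_insert.1 hz with rfl | hz
        · exact h
        · exact hτf a ha z hz
    · have h1 := hτf a ha _ (Finset.mem_insert_of_mem h)
      rw [hinv a ha] at h1
      rw [← h1] at h
      exact hxΘ h
  have hinj : ∀ a b, ∀ ha : a ∈ T, ∀ hb : b ∈ T, τ a x = τ b x → a = b := by
    intro a b ha hb hab
    have ha' := (hT a).1 ha
    have hb' := (hT b).1 hb
    have hw := (hT _).1 (hmem a ha)
    have h1 : τ b * τ a = 1 := by
      refine hfix _ (G.mul_mem (hτG b hb) (hτG a ha)) (insert x (insert (τ a x) Θ)) ?_ ?_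
      · rw [Finset.card_insert_of_notMem, Finset.card_insert_of_notMem hw.2, hΘc]
        · omega
        · simp only [Finset.mem_insert, not_or]; exact ⟨Ne.symm hw.1, hxΘ⟩
      · intro z hz
        rw [Perm.mul_apply]
        rcases Finset.mem_insert.1 hz with rfl | hz
        · rw [hab, hinv b hb]
        rcases Finset.mem_insert.1 hz with rfl | hz
        · rw [hinv a ha, hab]
        · rw [hτf a ha z (Finset.mem_insert_of_mem hz), hτf b hb z (Finset.mem_insert_of_mem hz)]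
    have h2 : τ a = τ b := by
      have h3 : τ b * τ b = 1 := hτ2 b hb
      have := h1.trans h3.symm
      exact mul_left_cancel this
    by_contra hne
    apply hτ1 a ha
    refine hfix _ (hτG a ha) (insert b (insert a Θ)) ?_ ?_
    · rw [Finset.card_insert_of_notMem, Finset.card_insert_of_notMem ha'.2, hΘc]
      · omega
      · simp only [Finset.mem_insert, not_or]; exact ⟨Ne.symm hne, hb'.2⟩
    · intro z hz
      rcases Finset.mem_insert.1 hz with rfl | hz
      · rw [h2]; exact hτf z hb z (Finset.mem_insert_self _ _)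
      · exact hτf a ha z hz
  obtain ⟨a, ha, hay⟩ := Finset.surj_on_of_inj_on_of_card_le (s := T) (t := T)
    (fun a _ => τ a x) (fun a ha => hmem a ha) (fun a b ha hb h => hinj a b ha hb h) le_rfl y
    ((hT y).2 ⟨hxy.symm, hyΘ⟩)
  refine ⟨τ a, hτG a ha, fun z hz => ?_⟩
  by_cases h1 : z = x
  · rw [h1, swap_apply_left, ← hay]
  by_cases h2 : z = y
  · rw [h2, swap_apply_right, hay, hinv a ha]
  rw [swap_apply_of_ne_of_ne h1 h2]
  exact hτf a ha z (Finset.mem_insert_of_mem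
    (Finset.mem_erase.2 ⟨h2, Finset.mem_erase.2 ⟨h1, hz⟩⟩))

/-- A permutation mapping a finite set into itself maps it onto itself. -/
theorem exists_preimage (π : Perm α) (s : Finset α) (h : ∀ w ∈ s, π w ∈ s) :
    ∀ w ∈ s, ∃ v ∈ s, π v = w := by
  have h1 : s.image π = s := by
    apply Finset.eq_of_subset_of_card_le
    · intro y hy
      obtain ⟨x, hx, rfl⟩ := Finset.mem_image.1 hy
      exact h x hx
    · rw [Finset.card_image_of_injective _ π.injective]
  intro w hw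
  rw [← h1] at hw
  obtain ⟨v, hv, hvw⟩ := Finset.mem_image.1 hw
  exact ⟨v, hv, hvw⟩

/-- Lifting a permutation of `Γ` to an element of `G` fixing a further point `β`. -/
theorem exists_lift (G : Subgroup (Perm α)) {k : ℕ} (ht : IsMultiplyPretransitive G α k)
    (hkn : k ≤ Fintype.card α) (Γ : Finset α) (hΓ : Γ.card = k)
    (hodd : ∀ g ∈ G, g * g = 1 → (∀ x ∈ Γ, g x = x) → g = 1)
    {β : α} (hβ : β ∉ Γ) {z z₂ : Perm α} (hz : z ∈ G) (hz₂ : z₂ ∈ G) (h2 : z * z = 1)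
    (h22 : z₂ * z₂ = 1) (hzΓ : ∀ w ∈ Γ, z w ∈ Γ) (hzβ : z β = β)
    (hz₂β : ∀ w, w ∉ Γ → z₂ w = w → w = β) (π : Perm α) (hπ : ∀ w ∈ Γ, π w ∈ Γ)
    (hπβ : π β = β) (hcomm : ∀ w ∈ Γ, z₂ (π w) = π (z w)) :
    ∃ h ∈ G, ∀ w ∈ insert β Γ, h w = π w := by
  obtain ⟨g, hg, hgπ⟩ := MultTrans.exists_agree_perm G ht
    (by rwa [Nat.card_eq_fintype_card]) Γ hΓ.le π
  have hsurj := exists_preimage π Γ hπ
  have hginv : ∀ v ∈ Γ, g⁻¹ (π v) = v := by
    intro v hv
    rw [← hgπ v hv, ← Perm.mul_apply, inv_mul_cancel]; rfl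
  obtain ⟨a, ha, haΓ, hconj⟩ := exists_conj G Γ hodd (z := g * z * g⁻¹) (z' := z₂)
    (G.mul_mem (G.mul_mem hg hz) (G.inv_mem hg)) hz₂ (by rw [conj_mul, h2]; simp) h22
    (by
      intro w hw
      obtain ⟨v, hv, rfl⟩ := hsurj w hw
      rw [Perm.mul_apply, Perm.mul_apply, hginv v hv, hgπ _ (hzΓ v hv)]
      exact hπ _ (hzΓ v hv))
    (by
      intro w hw
      obtain ⟨v, hv, rfl⟩ := hsurj w hw
      rw [Perm.mul_apply, Perm.mul_apply, hginv v hv, hgπ _ (hzΓ v hv)]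
      exact hcomm v hv)
  have hh : ∀ w ∈ Γ, (a * g) w = π w := by
    intro w hw
    rw [Perm.mul_apply, hgπ w hw, haΓ _ (hπ w hw)]
  refine ⟨a * g, G.mul_mem ha hg, fun w hw => ?_⟩
  rcases Finset.mem_insert.1 hw with rfl | hw
  · rw [hπβ]
    apply hz₂β
    · intro hmem
      obtain ⟨v, hv, hvw⟩ := hsurj _ hmem
      rw [← hh v hv] at hvw
      exact hβ ((a * g).injective hvw ▸ hv)
    · have h3 : z₂ * (a * g) = (a * g) * z := by
        rw [← hconj]; group
      rw [← Perm.mul_apply, h3, Perm.mul_apply, hzβ]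
  · exact hh w hw

theorem swap_mem {Δ : Finset α} {x y w : α} (hx : x ∈ Δ) (hy : y ∈ Δ) (hw : w ∈ Δ) :
    swap x y w ∈ Δ := by
  by_cases h1 : w = x
  · rw [h1, swap_apply_left]; exact hy
  by_cases h2 : w = y
  · rw [h2, swap_apply_right]; exact hx
  rwa [swap_apply_of_ne_of_ne h1 h2]

/-- The case of odd order `k`-point stabilisers and `n - k` odd. -/
theorem case_odd_odd (G : Subgroup (Perm α)) {k : ℕ} (hk : 4 ≤ k)
    (ht : IsMultiplyPretransitive G α k) (hkn : k < Fintype.card α)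
    (hfix : ∀ g ∈ G, ∀ s : Finset α, k + 1 ≤ s.card → (∀ x ∈ s, g x = x) → g = 1)
    (hodd : ∀ g ∈ G, g * g = 1 → ∀ s : Finset α, s.card = k → (∀ x ∈ s, g x = x) → g = 1)
    (hpar : Odd (Fintype.card α - k)) :
    ∃ Δ : Finset α, Δ.card = k + 1 ∧
      ∀ x ∈ Δ, ∀ y ∈ Δ, x ≠ y → ∃ g ∈ G, ∀ z ∈ Δ, g z = swap x y z := by
  obtain ⟨Γ₀, -, hΓ₀⟩ : ∃ s ⊆ (Finset.univ : Finset α), s.card = k :=
    Finset.exists_subset_card_eq (by rw [Finset.card_univ]; omega)
  obtain ⟨x, hx, y, hy, hxy⟩ := Finset.one_lt_card.1 (show 1 < Γ₀.card by omega)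
  obtain ⟨z, hzG, hz2, hzΓ⟩ := exists_invol G ht hkn.le Γ₀ hΓ₀
    (fun g hg hgg hgf => hodd g hg hgg Γ₀ hΓ₀ hgf) (swap x y)
    (fun w hw => swap_mem hx hy hw) (fun w _ => swap_apply_self x y w)
  obtain ⟨β, hβ, hzβ⟩ := exists_fixed z hz2 Γ₀ (fun w hw => by
    rw [hzΓ w hw]; exact swap_mem hx hy hw) (by rwa [hΓ₀])
  set Δ : Finset α := insert β Γ₀ with hΔ
  have hΔc : Δ.card = k + 1 := by rw [hΔ, Finset.card_insert_of_notMem hβ, hΓ₀]
  have hβx : β ≠ x := fun h => hβ (h ▸ hx)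
  have hβy : β ≠ y := fun h => hβ (h ▸ hy)
  have hxΔ : x ∈ Δ := Finset.mem_insert_of_mem hx
  have hyΔ : y ∈ Δ := Finset.mem_insert_of_mem hy
  have hzΔ : ∀ w ∈ Δ, z w = swap x y w := by
    intro w hw
    rcases Finset.mem_insert.1 hw with rfl | hw
    · rw [hzβ, swap_apply_of_ne_of_ne hβx hβy]
    · exact hzΓ w hw
  -- an involution inducing a transposition on Δ has no fixed points outside of Δ
  have hout : ∀ t ∈ G, t * t = 1 → ∀ a ∈ Δ, ∀ b ∈ Δ, a ≠ b → (∀ w ∈ Δ, t w = swap a b w) →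
      ∀ w, t w = w → w ∈ Δ ∧ w ≠ a ∧ w ≠ b := by
    intro t htG ht2 a ha b hb hab htΔ w hw
    by_cases hwΔ : w ∈ Δ
    · refine ⟨hwΔ, ?_, ?_⟩
      · rintro rfl
        rw [htΔ w hwΔ, swap_apply_left] at hw
        exact hab hw.symm
      · rintro rfl
        rw [htΔ w hwΔ, swap_apply_right] at hw
        exact hab hw
    · exfalso
      have h1 : t = 1 := by
        refine hodd t htG ht2 (insert w ((Δ.erase a).erase b)) ?_ ?_
        · rw [Finset.card_insert_of_notMem, Finset.card_erase_of_mem, Finset.card_erase_of_mem ha,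
            hΔc]
          · omega
          · exact Finset.mem_erase.2 ⟨hab.symm, hb⟩
          · intro h; exact hwΔ (Finset.mem_of_mem_erase (Finset.mem_of_mem_erase h))
        · intro v hv
          rcases Finset.mem_insert.1 hv with rfl | hv
          · exact hw
          · have h2 := Finset.mem_erase.1 hv
            have h3 := Finset.mem_erase.1 h2.2
            rw [htΔ v h3.2, swap_apply_of_ne_of_ne h3.1 h2.1]
      have h2 := htΔ a ha
      rw [h1, swap_apply_left] at h2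
      exact hab h2
  -- transpositions inside the fixed points of z
  have hF : ∀ a ∈ Δ, ∀ b ∈ Δ, a ≠ b → a ≠ x → a ≠ y → b ≠ x → b ≠ y →
      ∃ g ∈ G, ∀ w ∈ Δ, g w = swap a b w := by
    intro a ha b hb hab hax hay hbx hby
    obtain ⟨γ, hγ⟩ : ∃ γ ∈ Δ, γ ∉ ({x, y, a, b} : Finset α) := by
      apply Finset.exists_mem_notMem_of_card_lt_card
      calc ({x, y, a, b} : Finset α).card ≤ 4 := Finset.card_le_four
        _ < Δ.card := by omega
    simp only [Finset.mem_insert, Finset.mem_singleton, not_or] at hγ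
    obtain ⟨hγΔ, hγx, hγy, hγa, hγb⟩ := hγ
    have hins : insert γ (Δ.erase γ) = Δ := Finset.insert_erase hγΔ
    have hzγ : z γ = γ := by rw [hzΔ γ hγΔ, swap_apply_of_ne_of_ne hγx hγy]
    have hmem : ∀ u ∈ Δ, u ≠ γ → u ∈ Δ.erase γ := fun u hu hne => Finset.mem_erase.2 ⟨hne, hu⟩
    have hcard : (Δ.erase γ).card = k := by rw [Finset.card_erase_of_mem hγΔ, hΔc]; omega
    obtain ⟨h, hh, hh'⟩ := exists_lift G ht hkn.le (Δ.erase γ) hcard
      (fun g hg hgg hgf => hodd g hg hgg _ hcard hgf) (β := γ) (Finset.notMem_erase γ Δ) hzG hzG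
      hz2 hz2
      (fun w hw => by
        rw [hzΔ w (Finset.mem_of_mem_erase hw)]
        exact swap_mem (hmem x hxΔ (Ne.symm hγx)) (hmem y hyΔ (Ne.symm hγy)) hw)
      hzγ
      (fun w hw hww => by
        by_contra hne
        exact hw (hmem w (hout z hzG hz2 x hxΔ y hyΔ hxy hzΔ w hww).1 hne))
      (swap a b) (fun w hw => swap_mem (hmem a ha (Ne.symm hγa)) (hmem b hb (Ne.symm hγb)) hw)
      (swap_apply_of_ne_of_ne hγa hγb)
      (fun w hw => by
        have hw' := Finset.mem_of_mem_erase hw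
        rw [hzΔ w hw', hzΔ _ (swap_mem ha hb hw')]
        have hcm : Commute (swap x y) (swap a b) := by
          apply Perm.Disjoint.commute
          rw [Perm.disjoint_iff_disjoint_support, Perm.support_swap hxy, Perm.support_swap hab]
          simp [hax, hay, hbx, hby]
        rw [← Perm.mul_apply, hcm.eq, Perm.mul_apply])
    rw [hins] at hh'
    exact ⟨h, hh, hh'⟩
  have hzsw : ∃ g ∈ G, ∀ w ∈ Δ, g w = swap x y w := ⟨z, hzG, hzΔ⟩
  -- a transposition mixing the two parts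
  obtain ⟨a, ha, b, hb, hab⟩ : ∃ a ∈ (Γ₀.erase x).erase y, ∃ b ∈ (Γ₀.erase x).erase y, a ≠ b := by
    apply Finset.one_lt_card.1
    rw [Finset.card_erase_of_mem (Finset.mem_erase.2 ⟨hxy.symm, hy⟩), Finset.card_erase_of_mem hx,
      hΓ₀]
    omega
  simp only [Finset.mem_erase] at ha hb
  obtain ⟨hay, hax, haΓ⟩ := ha
  obtain ⟨hby, hbx, hbΓ⟩ := hb
  have haβ : β ≠ a := fun h => hβ (h ▸ haΓ)
  have hbβ : β ≠ b := fun h => hβ (h ▸ hbΓ)
  have haΔ : a ∈ Δ := Finset.mem_insert_of_mem haΓ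
  have hbΔ : b ∈ Δ := Finset.mem_insert_of_mem hbΓ
  have hβΔ : β ∈ Δ := Finset.mem_insert_self _ _
  obtain ⟨z₂, hz₂G, hz₂Δ⟩ := hF a haΔ b hbΔ hab hax hay hbx hby
  have hz₂2 : z₂ * z₂ = 1 := by
    refine hfix _ (G.mul_mem hz₂G hz₂G) Δ hΔc.ge fun w hw => ?_
    rw [Perm.mul_apply, hz₂Δ w hw, hz₂Δ _ (swap_mem haΔ hbΔ hw), swap_apply_self]
  obtain ⟨h, hhG, hh⟩ := exists_lift G ht hkn.le Γ₀ hΓ₀
      (fun g hg hgg hgf => hodd g hg hgg _ hΓ₀ hgf) (β := β) hβ hzG hz₂G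
      hz2 hz₂2
      (fun w hw => by rw [hzΓ w hw]; exact swap_mem hx hy hw)
      hzβ
      (fun w hw hww => by
        have := (hout z₂ hz₂G hz₂2 a haΔ b hbΔ hab hz₂Δ w hww).1
        rcases Finset.mem_insert.1 this with h | h
        · exact h
        · exact absurd h hw)
      (swap a x * swap b y)
      (fun w hw => swap_mem haΓ hx (swap_mem hbΓ hy hw))
      (by rw [Perm.mul_apply, swap_apply_of_ne_of_ne hbβ hβy, swap_apply_of_ne_of_ne haβ hβx])
      (fun w hw => by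
        have h0 : z₂ ((swap a x * swap b y) w) = swap a b ((swap a x * swap b y) w) :=
          hz₂Δ _ (Finset.mem_insert_of_mem (swap_mem haΓ hx (swap_mem hbΓ hy hw)))
        rw [hzΓ w hw, h0]
        have hcm : swap a b * (swap a x * swap b y) = (swap a x * swap b y) * swap x y := by
          have h1 := mul_swap_eq_swap_mul (swap a x * swap b y) x y
          rw [h1]
          congr 2
          · rw [Perm.mul_apply, swap_apply_of_ne_of_ne hbx.symm hxy, swap_apply_right]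
          · rw [Perm.mul_apply, swap_apply_right, swap_apply_of_ne_of_ne hab.symm hbx]
        have h2 := congrArg (fun π : Perm α => π w) hcm
        exact h2)
  change ∀ w ∈ Δ, h w = (swap a x * swap b y) w at hh
  obtain ⟨t, htG, htΔ⟩ := hF a haΔ β hβΔ haβ.symm hax hay hβx hβy
  have hxβ : ∃ g ∈ G, ∀ w ∈ Δ, g w = swap x β w := by
    refine ⟨h * t * h⁻¹, G.mul_mem (G.mul_mem hhG htG) (G.inv_mem hhG), fun w hw => ?_⟩
    have hmaps : ∀ w ∈ Δ, (swap a x * swap b y) w ∈ Δ := fun w hw =>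
      swap_mem haΔ hxΔ (swap_mem hbΔ hyΔ hw)
    obtain ⟨v, hv, rfl⟩ := exists_preimage _ Δ hmaps w hw
    have h1 : h⁻¹ ((swap a x * swap b y) v) = v := by
      rw [← hh v hv, ← Perm.mul_apply, inv_mul_cancel]; rfl
    rw [Perm.mul_apply, Perm.mul_apply, h1, htΔ v hv, hh _ (swap_mem haΔ hβΔ hv)]
    have hcm : (swap a x * swap b y) * swap a β = swap x β * (swap a x * swap b y) := by
      rw [mul_swap_eq_swap_mul]
      congr 2
      · rw [Perm.mul_apply, swap_apply_of_ne_of_ne hab hay, swap_apply_left]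
      · rw [Perm.mul_apply, swap_apply_of_ne_of_ne hbβ hβy, swap_apply_of_ne_of_ne haβ hβx]
    exact congrArg (fun π : Perm α => π v) hcm
  have hsymm : ∀ u v : α, (∃ g ∈ G, ∀ w ∈ Δ, g w = swap u v w) →
      ∃ g ∈ G, ∀ w ∈ Δ, g w = swap v u w := by
    intro u v h
    rwa [swap_comm]
  have hyβ : ∃ g ∈ G, ∀ w ∈ Δ, g w = swap y β w :=
    swap_trans G Δ hyΔ hxΔ hβΔ (hsymm _ _ hzsw) hxβ
  have hallβ : ∀ u ∈ Δ, ∃ g ∈ G, ∀ w ∈ Δ, g w = swap u β w := by
    intro u hu
    by_cases h1 : u = x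
    · rw [h1]; exact hxβ
    by_cases h2 : u = y
    · rw [h2]; exact hyβ
    by_cases h3 : u = β
    · rw [h3]; exact ⟨1, G.one_mem, fun w _ => by simp⟩
    exact hF u hu β hβΔ h3 h1 h2 hβx hβy
  exact ⟨Δ, hΔc, fun u hu v hv _ => swap_trans G Δ hu hβΔ hv (hallβ u hu) (hsymm _ _ (hallβ v hv))⟩

/-- An involution acting fixed-point-freely on a finite group inverts it. -/
theorem inverts {P : Type*} [Group P] (A : Subgroup P) [Finite A] (z : P) (hz : z * z = 1)
    (hn : ∀ a ∈ A, z * a * z ∈ A) (hc : ∀ a ∈ A, z * a = a * z → a = 1) :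
    ∀ a ∈ A, z * a * z = a⁻¹ := by
  have hzi : z⁻¹ = z := inv_eq_of_mul_eq_one_left hz
  let ψ : A → A := fun a => ⟨(a : P)⁻¹ * (z * a * z), A.mul_mem (A.inv_mem a.2) (hn a a.2)⟩
  have hinj : Function.Injective ψ := by
    intro a b hab
    have h1 : (a : P)⁻¹ * (z * a * z) = (b : P)⁻¹ * (z * b * z) := congrArg Subtype.val hab
    have h2 : z * ((b : P) * (a : P)⁻¹) = ((b : P) * (a : P)⁻¹) * z := by
      have h3 : (b : P) * ((a : P)⁻¹ * (z * a * z)) * (z * (a : P)⁻¹) =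
          (b : P) * ((b : P)⁻¹ * (z * b * z)) * (z * (a : P)⁻¹) := by rw [h1]
      have h4 : (b : P) * ((a : P)⁻¹ * (z * a * z)) * (z * (a : P)⁻¹) = b * (a : P)⁻¹ * z := by
        calc _ = (b : P) * (a : P)⁻¹ * z * a * (z * z) * (a : P)⁻¹ := by group
          _ = _ := by rw [hz]; group
      have h5 : (b : P) * ((b : P)⁻¹ * (z * b * z)) * (z * (a : P)⁻¹) = z * (b * (a : P)⁻¹) := by
        calc _ = z * (b : P) * (z * z) * (a : P)⁻¹ := by group
          _ = _ := by rw [hz]; group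
      rw [h4, h5] at h3
      exact h3.symm
    have h3 := hc _ (A.mul_mem b.2 (A.inv_mem a.2)) h2
    exact Subtype.ext (mul_inv_eq_one.1 h3).symm
  intro a ha
  obtain ⟨b, hb⟩ := (Finite.injective_iff_surjective.1 hinj) ⟨a, ha⟩
  have h1 : (b : P)⁻¹ * (z * b * z) = a := congrArg Subtype.val hb
  rw [← h1]
  calc z * ((b : P)⁻¹ * (z * b * z)) * z = z * (b : P)⁻¹ * z * b * (z * z) := by group
    _ = ((b : P)⁻¹ * (z⁻¹ * b * z⁻¹))⁻¹ := by rw [hz]; group
    _ = _ := by rw [hzi]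

/-- Three involutions with product of the first two equal to the third modulo `A`, all inverting
`A`: then `A` has exponent two. -/
theorem sq_eq_one_of_inverts {P : Type*} [Group P] (A : Subgroup P) (z₁ z₂ z₃ : P)
    (h1 : z₁ * z₁ = 1) (h2 : z₂ * z₂ = 1) (h3 : z₃ * z₃ = 1)
    (i1 : ∀ a ∈ A, z₁ * a * z₁ = a⁻¹) (i2 : ∀ a ∈ A, z₂ * a * z₂ = a⁻¹)
    (i3 : ∀ a ∈ A, z₃ * a * z₃ = a⁻¹) (h : z₃ * z₁ * z₂ ∈ A) : ∀ a ∈ A, a * a = 1 := by
  intro a ha
  have hcomm : ∀ u ∈ A, ∀ v ∈ A, u * v = v * u := by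
    intro u hu v hv
    have e1 := i1 _ (A.mul_mem hu hv)
    have e2 : z₁ * (u * v) * z₁ = (z₁ * u * z₁) * (z₁ * v * z₁) := by
      calc z₁ * (u * v) * z₁ = z₁ * u * 1 * v * z₁ := by group
        _ = z₁ * u * (z₁ * z₁) * v * z₁ := by rw [h1]
        _ = _ := by group
    rw [e2, i1 u hu, i1 v hv] at e1
    have e3 := congrArg (·⁻¹) e1
    simpa [mul_inv_rev] using e3.symm
  have e1 : (z₃ * z₁ * z₂) * a = a * (z₃ * z₁ * z₂) := hcomm _ h _ ha
  have k1 : z₁ * a = a⁻¹ * z₁ := by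
    have := i1 a ha
    calc z₁ * a = z₁ * a * (z₁ * z₁) := by rw [h1, mul_one]
      _ = (z₁ * a * z₁) * z₁ := by group
      _ = _ := by rw [this]
  have k1' : z₁ * a⁻¹ = a * z₁ := by
    have := i1 a⁻¹ (A.inv_mem ha)
    calc z₁ * a⁻¹ = z₁ * a⁻¹ * (z₁ * z₁) := by rw [h1, mul_one]
      _ = (z₁ * a⁻¹ * z₁) * z₁ := by group
      _ = _ := by rw [this, inv_inv]
  have k2 : z₂ * a = a⁻¹ * z₂ := by
    have := i2 a ha
    calc z₂ * a = z₂ * a * (z₂ * z₂) := by rw [h2, mul_one]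
      _ = (z₂ * a * z₂) * z₂ := by group
      _ = _ := by rw [this]
  have k3 : z₃ * a = a⁻¹ * z₃ := by
    have := i3 a ha
    calc z₃ * a = z₃ * a * (z₃ * z₃) := by rw [h3, mul_one]
      _ = (z₃ * a * z₃) * z₃ := by group
      _ = _ := by rw [this]
  have e2 : (z₃ * z₁ * z₂) * a = a⁻¹ * (z₃ * z₁ * z₂) := by
    calc (z₃ * z₁ * z₂) * a = z₃ * z₁ * (z₂ * a) := by group
      _ = z₃ * (z₁ * a⁻¹) * z₂ := by rw [k2]; group
      _ = (z₃ * a) * z₁ * z₂ := by rw [k1']; group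
      _ = _ := by rw [k3]; group
  rw [e2] at e1
  have e3 : a⁻¹ = a := mul_right_cancel e1
  calc a * a = a⁻¹ * a := by rw [e3]
    _ = 1 := inv_mul_cancel a

/-- The case of odd order `k`-point stabilisers and `n - k` even: `G` is sharply `k`-transitive and
`n = k + 2`. -/
theorem case_odd_even (G : Subgroup (Perm α)) {k : ℕ} (hk : 4 ≤ k)
    (ht : IsMultiplyPretransitive G α k) (hkn : k < Fintype.card α)
    (hfix : ∀ g ∈ G, ∀ s : Finset α, k + 1 ≤ s.card → (∀ x ∈ s, g x = x) → g = 1)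
    (hodd : ∀ g ∈ G, g * g = 1 → ∀ s : Finset α, s.card = k → (∀ x ∈ s, g x = x) → g = 1)
    (hpar : Even (Fintype.card α - k)) : Fintype.card α = k + 2 := by
  have hodd' : ∀ g ∈ G, g * g = 1 → ∀ s : Finset α, k - 1 ≤ s.card → (∀ x ∈ s, g x = x) →
      g = 1 := by
    intro g hg hgg s hs hgs
    by_cases hsc : k ≤ s.card
    · obtain ⟨s', hs', hs'c⟩ := Finset.exists_subset_card_eq hsc
      exact hodd g hg hgg s' hs'c fun x hx => hgs x (hs' hx)
    · have hsk : s.card = k - 1 := by omega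
      obtain ⟨w, hw, hgw⟩ := exists_fixed g hgg s (fun x hx => by rwa [hgs x hx]) (by
        rw [hsk]
        obtain ⟨r, hr⟩ := hpar
        exact ⟨r, by omega⟩)
      refine hodd g hg hgg (insert w s) (by rw [Finset.card_insert_of_notMem hw]; omega) ?_
      intro x hx
      rcases Finset.mem_insert.1 hx with rfl | hx
      · exact hgw
      · exact hgs x hx
  obtain ⟨Γ₀, -, hΓ₀⟩ : ∃ s ⊆ (Finset.univ : Finset α), s.card = k :=
    Finset.exists_subset_card_eq (by rw [Finset.card_univ]; omega)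
  obtain ⟨x, hx, y, hy, hxy⟩ := Finset.one_lt_card.1 (show 1 < Γ₀.card by omega)
  obtain ⟨z, hzG, hz2, hzΓ⟩ := exists_invol G ht hkn.le Γ₀ hΓ₀
    (fun g hg hgg hgf => hodd g hg hgg Γ₀ hΓ₀ hgf) (swap x y)
    (fun w hw => swap_mem hx hy hw) (fun w _ => swap_apply_self x y w)
  have hzz : ∀ w, z (z w) = w := fun w => by rw [← Perm.mul_apply, hz2]; rfl
  have hzx : z x = y := by rw [hzΓ x hx, swap_apply_left]
  have hzy : z y = x := by rw [hzΓ y hy, swap_apply_right]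
  set Ψ : Finset α := (Γ₀.erase x).erase y with hΨ
  have hΨc : Ψ.card = k - 2 := by
    rw [hΨ, Finset.card_erase_of_mem (Finset.mem_erase.2 ⟨hxy.symm, hy⟩),
      Finset.card_erase_of_mem hx, hΓ₀]; omega
  have hxΨ : x ∉ Ψ := by simp [hΨ]
  have hyΨ : y ∉ Ψ := by simp [hΨ]
  have hΓ₀iff : ∀ w, w ∈ Γ₀ ↔ w = x ∨ w = y ∨ w ∈ Ψ := by
    intro w
    simp only [hΨ, Finset.mem_erase]
    constructor
    · intro h
      by_cases h1 : w = x
      · exact Or.inl h1
      by_cases h2 : w = y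
      · exact Or.inr (Or.inl h2)
      exact Or.inr (Or.inr ⟨h2, h1, h⟩)
    · rintro (rfl | rfl | h)
      · exact hx
      · exact hy
      · exact h.2.2
  have hzΨ : ∀ w ∈ Ψ, z w = w := by
    intro w hw
    have h1 := Finset.mem_erase.1 hw
    have h2 := Finset.mem_erase.1 h1.2
    rw [hzΓ w h2.2, swap_apply_of_ne_of_ne h2.1 h1.1]
  have hfixΨ : ∀ w, z w = w → w ∈ Ψ := by
    intro w hw
    by_contra hne
    have h1 : z = 1 := by
      refine hodd' z hzG hz2 (insert w Ψ) ?_ ?_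
      · rw [Finset.card_insert_of_notMem hne, hΨc]; omega
      · intro v hv
        rcases Finset.mem_insert.1 hv with rfl | hv
        · exact hw
        · exact hzΨ v hv
    rw [h1] at hzx
    exact hxy hzx
  obtain ⟨b, hb, b', hb', hbb'⟩ := Finset.one_lt_card.1 (show 1 < Ψ.card by omega)
  set B : Finset α := (Ψ.erase b).erase b' with hB
  have hBc : B.card = k - 4 := by
    rw [hB, Finset.card_erase_of_mem (Finset.mem_erase.2 ⟨hbb'.symm, hb'⟩),
      Finset.card_erase_of_mem hb, hΨc]; omega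
  have hΨiff : ∀ w, w ∈ Ψ ↔ w = b ∨ w = b' ∨ w ∈ B := by
    intro w
    simp only [hB, Finset.mem_erase]
    constructor
    · intro h
      by_cases h1 : w = b
      · exact Or.inl h1
      by_cases h2 : w = b'
      · exact Or.inr (Or.inl h2)
      exact Or.inr (Or.inr ⟨h2, h1, h⟩)
    · rintro (rfl | rfl | h)
      · exact hb
      · exact hb'
      · exact h.2.2
  have hbB : b ∉ B := by simp [hB]
  have hb'B : b' ∉ B := by simp [hB]
  -- a point outside of Γ₀
  have hne_of : ∀ u, u ∉ Γ₀ → z u ∉ Γ₀ ∧ z u ≠ u := by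
    intro u hu
    refine ⟨fun h => ?_, fun h => ?_⟩
    · have h1 := swap_mem hx hy h
      rw [← hzΓ _ h, hzz] at h1
      exact hu h1
    · exact hu ((hΓ₀iff u).2 (Or.inr (Or.inr (hfixΨ u h))))
  obtain ⟨x', hx'⟩ : ∃ x', x' ∉ Γ₀ := by
    by_contra hcon
    push Not at hcon
    have := Finset.eq_univ_iff_forall.2 hcon
    rw [this, Finset.card_univ] at hΓ₀
    omega
  obtain ⟨hy', hy'x'⟩ := hne_of x' hx'
  have hBΨ : ∀ w ∈ B, w ∈ Ψ := fun w hw => (hΨiff w).2 (Or.inr (Or.inr hw))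
  have hBΓ₀ : ∀ w ∈ B, w ∈ Γ₀ := fun w hw => (hΓ₀iff w).2 (Or.inr (Or.inr (hBΨ w hw)))
  have hxB : x ∉ B := fun h => hxΨ (hBΨ x h)
  have hyB : y ∉ B := fun h => hyΨ (hBΨ y h)
  have hbΓ₀ : b ∈ Γ₀ := (hΓ₀iff b).2 (Or.inr (Or.inr hb))
  have hb'Γ₀ : b' ∈ Γ₀ := (hΓ₀iff b').2 (Or.inr (Or.inr hb'))
  have hxb : x ≠ b := fun h => hxΨ (h ▸ hb)
  have hyb : y ≠ b := fun h => hyΨ (h ▸ hb)
  have hxb' : x ≠ b' := fun h => hxΨ (h ▸ hb')
  have hyb' : y ≠ b' := fun h => hyΨ (h ▸ hb')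
  -- the sets B ∪ {x, y, u, z u}
  have hset : ∀ u, u ∉ Γ₀ → (insert x (insert y (insert u (insert (z u) B)))).card = k := by
    intro u hu
    obtain ⟨h1, h2⟩ := hne_of u hu
    have e1 : z u ∉ B := fun h => h1 (hBΓ₀ _ h)
    have e2 : u ∉ insert (z u) B := by
      simp only [Finset.mem_insert, not_or]
      exact ⟨h2.symm, fun h => hu (hBΓ₀ _ h)⟩
    have e3 : y ∉ insert u (insert (z u) B) := by
      simp only [Finset.mem_insert, not_or]
      exact ⟨fun h => hu (h ▸ hy), fun h => h1 (h ▸ hy), hyB⟩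
    have e4 : x ∉ insert y (insert u (insert (z u) B)) := by
      simp only [Finset.mem_insert, not_or]
      exact ⟨hxy, fun h => hu (h ▸ hx), fun h => h1 (h ▸ hx), hxB⟩
    rw [Finset.card_insert_of_notMem e4, Finset.card_insert_of_notMem e3,
      Finset.card_insert_of_notMem e2, Finset.card_insert_of_notMem e1, hBc]
    omega
  have hzset : ∀ u, u ∉ Γ₀ → ∀ w ∈ insert x (insert y (insert u (insert (z u) B))),
      z w ∈ insert x (insert y (insert u (insert (z u) B))) := by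
    intro u hu w hw
    simp only [Finset.mem_insert] at hw ⊢
    rcases hw with rfl | rfl | rfl | rfl | hw
    · exact Or.inr (Or.inl hzx)
    · exact Or.inl hzy
    · exact Or.inr (Or.inr (Or.inr (Or.inl rfl)))
    · exact Or.inr (Or.inr (Or.inl (hzz u)))
    · rw [hzΨ w (hBΨ w hw)]; exact Or.inr (Or.inr (Or.inr (Or.inr hw)))
  set y' := z x' with hy'def
  have hzx' : z x' = y' := rfl
  have hzy' : z y' = x' := hzz x'
  set Γ₁ : Finset α := insert x (insert y (insert x' (insert y' B))) with hΓ₁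
  have hΓ₁c : Γ₁.card = k := hset x' hx'
  have hzΓ₁ : ∀ w ∈ Γ₁, z w ∈ Γ₁ := hzset x' hx'
  have hxΓ₁ : x ∈ Γ₁ := by simp [hΓ₁]
  have hyΓ₁ : y ∈ Γ₁ := by simp [hΓ₁]
  have hx'Γ₁ : x' ∈ Γ₁ := by simp [hΓ₁]
  have hy'Γ₁ : y' ∈ Γ₁ := by simp [hΓ₁]
  have hBΓ₁ : ∀ w ∈ B, w ∈ Γ₁ := fun w hw => by simp [hΓ₁, hw]
  have hbΓ₁ : b ∉ Γ₁ := by
    simp only [hΓ₁, Finset.mem_insert, not_or]
    exact ⟨hxb.symm, hyb.symm, fun h => hx' (h ▸ hbΓ₀), fun h => hy' (h ▸ hbΓ₀), hbB⟩
  let A : Subgroup (Perm α) := G ⊓ fixingSubgroup (Perm α) (Γ₁ : Set α)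
  have hA : ∀ g, g ∈ A ↔ g ∈ G ∧ ∀ w ∈ Γ₁, g w = w := by
    intro g
    refine Subgroup.mem_inf.trans (and_congr Iff.rfl ?_)
    rw [mem_fixingSubgroup_iff]
    rfl
  have hinv1 : ∀ a ∈ A, z * a * z = a⁻¹ := by
    refine inverts A z hz2 ?_ ?_
    · intro a ha
      rw [hA] at ha ⊢
      refine ⟨G.mul_mem (G.mul_mem hzG ha.1) hzG, fun w hw => ?_⟩
      rw [Perm.mul_apply, Perm.mul_apply, ha.2 _ (hzΓ₁ w hw), hzz]
    · intro a ha hc
      rw [hA] at ha
      have hcw : ∀ w, z (a w) = a (z w) := fun w => by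
        rw [← Perm.mul_apply, hc, Perm.mul_apply]
      have h1 : ∀ c, c ∈ Ψ → c ∉ B → a c = b ∨ a c = b' := by
        intro c hc hcB
        have h2 : a c ∈ Ψ := hfixΨ _ (by rw [hcw, hzΨ c hc])
        rcases (hΨiff _).1 h2 with h | h | h
        · exact Or.inl h
        · exact Or.inr h
        · exfalso
          have h3 := ha.2 _ (hBΓ₁ _ h)
          have h4 := a.injective h3
          rw [h4] at h
          exact hcB h
      have hab := h1 b hb hbB
      have hab' := h1 b' hb' hb'B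
      have haab : a (a b) = b := by
        rcases hab with h | h
        · rw [h, h]
        · rw [h]
          rcases hab' with h' | h'
          · exact h'
          · exact absurd (a.injective (h.trans h'.symm)) hbb'
      have haa : a * a = 1 := by
        refine hfix _ (G.mul_mem ha.1 ha.1) (insert b Γ₁) ?_ ?_
        · rw [Finset.card_insert_of_notMem hbΓ₁, hΓ₁c]
        · intro w hw
          rcases Finset.mem_insert.1 hw with rfl | hw
          · exact haab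
          · rw [Perm.mul_apply, ha.2 w hw, ha.2 w hw]
      exact hodd a ha.1 haa Γ₁ hΓ₁c ha.2
  -- conjugates of z by elements preserving Γ₁
  have hconj : ∀ g ∈ G, (∀ w ∈ Γ₁, g w ∈ Γ₁) → ∀ a ∈ A,
      (g * z * g⁻¹) * a * (g * z * g⁻¹) = a⁻¹ := by
    intro g hg hgΓ a ha
    have h1 : g⁻¹ * a * g ∈ A := by
      rw [hA] at ha ⊢
      refine ⟨G.mul_mem (G.mul_mem (G.inv_mem hg) ha.1) hg, fun w hw => ?_⟩
      rw [Perm.mul_apply, Perm.mul_apply, ha.2 _ (hgΓ w hw), ← Perm.mul_apply, inv_mul_cancel]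
      rfl
    calc (g * z * g⁻¹) * a * (g * z * g⁻¹) = g * (z * (g⁻¹ * a * g) * z) * g⁻¹ := by group
      _ = g * (g⁻¹ * a * g)⁻¹ * g⁻¹ := by rw [hinv1 _ h1]
      _ = a⁻¹ := by group
  have hsq : ∀ g : Perm α, (g * z * g⁻¹) * (g * z * g⁻¹) = 1 := fun g => by
    rw [conj_mul, hz2]; simp
  obtain ⟨g₂, hg₂, hg₂Γ⟩ := MultTrans.exists_agree_perm G ht
    (by rw [Nat.card_eq_fintype_card]; exact hkn.le) Γ₁ hΓ₁c.le (swap y x')
  obtain ⟨g₃, hg₃, hg₃Γ⟩ := MultTrans.exists_agree_perm G ht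
    (by rw [Nat.card_eq_fintype_card]; exact hkn.le) Γ₁ hΓ₁c.le (swap y y')
  have hne1 : x ≠ x' := fun h => hx' (h ▸ hx)
  have hne2 : x ≠ y' := fun h => hy' (h ▸ hx)
  have hne3 : y ≠ x' := fun h => hx' (h ▸ hy)
  have hne4 : y ≠ y' := fun h => hy' (h ▸ hy)
  have hBne : ∀ w ∈ B, w ≠ x ∧ w ≠ y ∧ w ≠ x' ∧ w ≠ y' := fun w hw =>
    ⟨fun h => hxB (h ▸ hw), fun h => hyB (h ▸ hw), fun h => hx' (h ▸ hBΓ₀ w hw),
      fun h => hy' (h ▸ hBΓ₀ w hw)⟩
  have hcz : ∀ (g : Perm α) (v : α), (g * z * g⁻¹) (g v) = g (z v) := by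
    intro g v
    rw [← Perm.mul_apply, inv_mul_cancel_right, Perm.mul_apply]
  have a1 : g₂ x = x := by rw [hg₂Γ x hxΓ₁, swap_apply_of_ne_of_ne hxy hne1]
  have a2 : g₂ y = x' := by rw [hg₂Γ y hyΓ₁, swap_apply_left]
  have a3 : g₂ x' = y := by rw [hg₂Γ x' hx'Γ₁, swap_apply_right]
  have a4 : g₂ y' = y' := by rw [hg₂Γ y' hy'Γ₁, swap_apply_of_ne_of_ne hne4.symm hy'x']
  have a5 : ∀ w ∈ B, g₂ w = w := fun w hw => by
    rw [hg₂Γ w (hBΓ₁ w hw), swap_apply_of_ne_of_ne (hBne w hw).2.1 (hBne w hw).2.2.1]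
  have c1 : g₃ x = x := by rw [hg₃Γ x hxΓ₁, swap_apply_of_ne_of_ne hxy hne2]
  have c2 : g₃ y = y' := by rw [hg₃Γ y hyΓ₁, swap_apply_left]
  have c3 : g₃ x' = x' := by rw [hg₃Γ x' hx'Γ₁, swap_apply_of_ne_of_ne hne3.symm hy'x'.symm]
  have c4 : g₃ y' = y := by rw [hg₃Γ y' hy'Γ₁, swap_apply_right]
  have c5 : ∀ w ∈ B, g₃ w = w := fun w hw => by
    rw [hg₃Γ w (hBΓ₁ w hw), swap_apply_of_ne_of_ne (hBne w hw).2.1 (hBne w hw).2.2.2]
  have hA1 : ∀ a ∈ A, a * a = 1 := by
    refine sq_eq_one_of_inverts A z (g₂ * z * g₂⁻¹) (g₃ * z * g₃⁻¹) hz2 (hsq _) (hsq _) hinv1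
      (hconj g₂ hg₂ fun w hw => by rw [hg₂Γ w hw]; exact swap_mem hyΓ₁ hx'Γ₁ hw)
      (hconj g₃ hg₃ fun w hw => by rw [hg₃Γ w hw]; exact swap_mem hyΓ₁ hy'Γ₁ hw) ?_
    rw [hA]
    refine ⟨G.mul_mem (G.mul_mem (G.mul_mem (G.mul_mem hg₃ hzG) (G.inv_mem hg₃)) hzG)
      (G.mul_mem (G.mul_mem hg₂ hzG) (G.inv_mem hg₂)), fun w hw => ?_⟩
    rw [Perm.mul_apply, Perm.mul_apply]
    have d1 := hcz g₂ x
    have d2 := hcz g₂ y
    have d3 := hcz g₂ x'
    have d4 := hcz g₂ y'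
    have e1 := hcz g₃ x
    have e2 := hcz g₃ y
    have e3 := hcz g₃ x'
    have e4 := hcz g₃ y'
    rw [hzx] at d1 e1
    rw [hzy] at d2 e2
    rw [hzx'] at d3 e3
    rw [hzy'] at d4 e4
    rw [a1, a2] at d1 d2
    rw [a3, a4] at d3 d4
    rw [c1, c2] at e1 e2
    rw [c3, c4] at e3 e4
    simp only [hΓ₁, Finset.mem_insert] at hw
    rcases hw with rfl | rfl | rfl | rfl | hw
    · rw [d1, hzx', e2]
    · rw [d3, hzy', e3]
    · rw [d2, hzx, e4]
    · rw [d4, hzy, e1]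
    · have d5 := hcz g₂ w
      have e5 := hcz g₃ w
      rw [a5 w hw, hzΨ w (hBΨ w hw), a5 w hw] at d5
      rw [c5 w hw, hzΨ w (hBΨ w hw), c5 w hw] at e5
      rw [d5, hzΨ w (hBΨ w hw), e5]
  have hreg₁ : ∀ g ∈ G, (∀ w ∈ Γ₁, g w = w) → g = 1 := fun g hg hgw =>
    hodd g hg (hA1 g ((hA g).2 ⟨hg, hgw⟩)) Γ₁ hΓ₁c hgw
  -- `G` is sharply `k`-transitive
  have hreg : ∀ s : Finset α, s.card = k → ∀ g ∈ G, (∀ w ∈ s, g w = w) → g = 1 := by
    intro s hs g hg hgw
    obtain ⟨c, hc, hcs⟩ := exists_image_eq G ht hkn.le Γ₁ s hΓ₁c.le (hΓ₁c.trans hs.symm)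
    have h1 : c⁻¹ * g * c = 1 := by
      refine hreg₁ _ (G.mul_mem (G.mul_mem (G.inv_mem hc) hg) hc) fun w hw => ?_
      have h2 : c w ∈ s := by rw [← hcs]; exact Finset.mem_image_of_mem _ hw
      rw [Perm.mul_apply, Perm.mul_apply, hgw _ h2, ← Perm.mul_apply, inv_mul_cancel]
      rfl
    have h2 : g = c * (c⁻¹ * g * c) * c⁻¹ := by group
    rw [h2, h1]; group
  -- for every further cycle `(u, z u)` of `z` an element `t` swapping `x, y` and `b, b'`
  have hlift : ∀ u, u ∉ Γ₀ → ∃ t ∈ G, t * t = 1 ∧ t x = y ∧ t y = x ∧ t u = u ∧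
      (∀ w ∈ B, t w = w) ∧ t b = b' ∧ t b' = b := by
    intro u hu
    obtain ⟨hv, hvu⟩ := hne_of u hu
    have hc := hset u hu
    have hz' := hzset u hu
    set S : Finset α := insert x (insert y (insert u (insert (z u) B))) with hS
    have hxS : x ∈ S := by simp [hS]
    have hyS : y ∈ S := by simp [hS]
    have huS : u ∈ S := by simp [hS]
    have hvS : z u ∈ S := by simp [hS]
    have hBS : ∀ w ∈ B, w ∈ S := fun w hw => by simp [hS, hw]
    obtain ⟨t, htG, htS⟩ := MultTrans.exists_agree_perm G ht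
      (by rw [Nat.card_eq_fintype_card]; exact hkn.le) S hc.le (swap x y)
    have htt : t * t = 1 := by
      refine hreg S hc _ (G.mul_mem htG htG) fun w hw => ?_
      rw [Perm.mul_apply, htS w hw, htS _ (swap_mem hxS hyS hw), swap_apply_self]
    have htx : t x = y := by rw [htS x hxS, swap_apply_left]
    have hty : t y = x := by rw [htS y hyS, swap_apply_right]
    have htu : t u = u := by
      rw [htS u huS, swap_apply_of_ne_of_ne (fun h : u = x => hu (h ▸ hx))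
        (fun h : u = y => hu (h ▸ hy))]
    have htv : t (z u) = z u := by
      rw [htS _ hvS, swap_apply_of_ne_of_ne (fun h : z u = x => hv (h ▸ hx))
        (fun h : z u = y => hv (h ▸ hy))]
    have htB : ∀ w ∈ B, t w = w := fun w hw => by
      rw [htS w (hBS w hw), swap_apply_of_ne_of_ne (hBne w hw).1 (hBne w hw).2.1]
    have hcomm : z * t = t * z := by
      have h1 : (t * z)⁻¹ * (z * t) = 1 := by
        refine hreg S hc _ (G.mul_mem (G.inv_mem (G.mul_mem htG hzG)) (G.mul_mem hzG htG))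
          fun w hw => ?_
        have h2 : (z * t) w = (t * z) w := by
          rw [Perm.mul_apply, Perm.mul_apply]
          have hw' := hw
          simp only [hS, Finset.mem_insert] at hw'
          rcases hw' with rfl | rfl | rfl | rfl | hw'
          · rw [htx, hzy, hzx, hty]
          · rw [hty, hzx, hzy, htx]
          · rw [htu, htv]
          · rw [htv, hzz, htu]
          · rw [htB w hw', hzΨ w (hBΨ w hw'), htB w hw']
        rw [Perm.mul_apply, h2, ← Perm.mul_apply, inv_mul_cancel]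
        rfl
      exact (inv_mul_eq_one.1 h1).symm
    have htb : t b = b' := by
      have h1 : t b ∈ Ψ := hfixΨ _ (by
        rw [← Perm.mul_apply, hcomm, Perm.mul_apply, hzΨ b hb])
      rcases (hΨiff _).1 h1 with h | h | h
      · exfalso
        have h2 : t = 1 := by
          refine hodd' t htG htt (insert b (insert u (insert (z u) B))) ?_ ?_
          · rw [Finset.card_insert_of_notMem, Finset.card_insert_of_notMem,
              Finset.card_insert_of_notMem, hBc]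
            · omega
            · exact fun h => hv (hBΓ₀ _ h)
            · simp only [Finset.mem_insert, not_or]
              exact ⟨hvu.symm, fun h => hu (hBΓ₀ _ h)⟩
            · simp only [Finset.mem_insert, not_or]
              exact ⟨fun h => hu (h ▸ hbΓ₀), fun h => hv (h ▸ hbΓ₀), hbB⟩
          · intro w hw
            simp only [Finset.mem_insert] at hw
            rcases hw with rfl | rfl | rfl | hw
            · exact h
            · exact htu
            · exact htv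
            · exact htB w hw
        rw [h2] at htx
        exact hxy htx
      · exact h
      · exfalso
        have h3 := htB _ h
        have h4 := t.injective h3
        rw [h4] at h
        exact hbB h
    have htb' : t b' = b := by
      rw [← htb, ← Perm.mul_apply, htt]; rfl
    exact ⟨t, htG, htt, htx, hty, htu, htB, htb, htb'⟩
  by_contra hncard
  have hncard' : k + 2 < Fintype.card α := by
    obtain ⟨r, hr⟩ := hpar
    omega
  obtain ⟨x'', hx''⟩ : ∃ x'', x'' ∉ insert x' (insert y' Γ₀) := by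
    by_contra hcon
    push Not at hcon
    have h1 := Finset.eq_univ_iff_forall.2 hcon
    have h2 : (insert x' (insert y' Γ₀)).card ≤ k + 2 :=
      (Finset.card_insert_le _ _).trans (Nat.succ_le_succ ((Finset.card_insert_le _ _).trans
        (Nat.succ_le_succ hΓ₀.le)))
    rw [h1, Finset.card_univ] at h2
    omega
  simp only [Finset.mem_insert, not_or] at hx''
  obtain ⟨hx''x', hx''y', hx''Γ₀⟩ := hx''
  obtain ⟨t, htG, htt, htx, hty, htu, htB, htb, htb'⟩ := hlift x' hx'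
  obtain ⟨s, hsG, hss, hsx, hsy, hsu, hsB, hsb, hsb'⟩ := hlift x'' hx''Γ₀
  have hst : s * t = 1 := by
    refine hreg Γ₀ hΓ₀ _ (G.mul_mem hsG htG) fun w hw => ?_
    rw [Perm.mul_apply]
    rcases (hΓ₀iff w).1 hw with rfl | rfl | hw
    · rw [htx, hsy]
    · rw [hty, hsx]
    · rcases (hΨiff w).1 hw with rfl | rfl | hw
      · rw [htb, hsb']
      · rw [htb', hsb]
      · rw [htB w hw, hsB w hw]
  have hst' : s = t := by
    have h1 : t * t = s * t := by rw [htt, hst]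
    exact (mul_right_cancel h1).symm
  -- `t` fixes too many points
  obtain ⟨t₁, ht₁G, ht₁t, ht₁x, ht₁y, ht₁u, ht₁B, ht₁b, ht₁b'⟩ := hlift y' hy'
  have hrt : t₁ = t := by
    have h0 : t₁ * t = 1 := by
      refine hreg Γ₀ hΓ₀ _ (G.mul_mem ht₁G htG) fun w hw => ?_
      rw [Perm.mul_apply]
      rcases (hΓ₀iff w).1 hw with rfl | rfl | hw
      · rw [htx, ht₁y]
      · rw [hty, ht₁x]
      · rcases (hΨiff w).1 hw with rfl | rfl | hw
        · rw [htb, ht₁b']
        · rw [htb', ht₁b]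
        · rw [htB w hw, ht₁B w hw]
    have h1 : t * t = t₁ * t := by rw [htt, h0]
    exact (mul_right_cancel h1).symm
  have ht1 : t = 1 := by
    refine hodd' t htG htt (insert x'' (insert x' (insert y' B))) ?_ ?_
    · rw [Finset.card_insert_of_notMem, Finset.card_insert_of_notMem,
        Finset.card_insert_of_notMem, hBc]
      · omega
      · exact fun h => hy' (hBΓ₀ _ h)
      · simp only [Finset.mem_insert, not_or]
        exact ⟨hy'x'.symm, fun h => hx' (hBΓ₀ _ h)⟩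
      · simp only [Finset.mem_insert, not_or]
        exact ⟨hx''x', hx''y', fun h => hx''Γ₀ (hBΓ₀ _ h)⟩
    · intro w hw
      simp only [Finset.mem_insert] at hw
      rcases hw with rfl | rfl | rfl | hw
      · rw [← hst']; exact hsu
      · exact htu
      · rw [← hrt]; exact ht₁u
      · exact htB w hw
  rw [ht1] at htx
  exact hxy htx

end Cfsg.Agent.PermutationGroups.InducedAlt
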