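import Mathlib
set_option linter.all false

/-!
A Sylow `p`-subgroup of a transitive group of degree `p ^ f` is transitive.
-/

set_option autoImplicit false

namespace Cfsg.Agent.PermutationGroups.SylowTransitive

/-- If `G` is transitive on a finite set whose cardinality is prime to the index of the subgroup
`P`, then `P` is transitive. -/
theorem isPretransitive_of_coprime_index {G Ω : Type*} [Group G] [MulAction G Ω]
    [Finite Ω] [MulAction.IsPretransitive G Ω] (P : Subgroup G)
    (h : Nat.Coprime (Nat.card Ω) P.index) : MulAction.IsPretransitive P Ω := by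
  classical
  refine ⟨fun a b => ?_⟩
  suffices hs : MulAction.orbit P a = Set.univ by
    have : b ∈ MulAction.orbit P a := hs ▸ Set.mem_univ b
    exact this
  have h1 : (MulAction.stabilizer G a).index = Nat.card Ω :=
    MulAction.index_stabilizer_of_transitive G a
  have h2 : (MulAction.stabilizer G a).relIndex P = (MulAction.orbit P a).ncard := by
    rw [← MulAction.index_stabilizer]
    rfl
  have h3 : (MulAction.stabilizer G a).relIndex P * P.index
      = P.relIndex (MulAction.stabilizer G a) * (MulAction.stabilizer G a).index := by
    rw [← Subgroup.inf_relIndex_right, Subgroup.relIndex_mul_index inf_le_right,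
      ← Subgroup.inf_relIndex_left, Subgroup.relIndex_mul_index inf_le_left]
  have h4 : Nat.card Ω ∣ (MulAction.orbit P a).ncard := by
    rw [← h2]
    refine h.dvd_of_dvd_mul_right ?_
    rw [h3, h1]
    exact dvd_mul_left _ _
  have h5 : 0 < (MulAction.orbit P a).ncard :=
    (Set.ncard_pos (Set.toFinite _)).2 ⟨a, MulAction.mem_orbit_self a⟩
  apply Set.eq_of_subset_of_ncard_le (Set.subset_univ _)
  rw [Set.ncard_univ]
  exact Nat.le_of_dvd h5 h4

/-- A Sylow `p`-subgroup of a group which is transitive of degree `p ^ f` is transitive. -/
theorem isPretransitive_sylow {G Ω : Type*} [Group G] [Finite G] [MulAction G Ω]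
    [Finite Ω] [MulAction.IsPretransitive G Ω] {p f : ℕ} [Fact p.Prime]
    (hcard : Nat.card Ω = p ^ f) (P : Sylow p G) : MulAction.IsPretransitive P Ω := by
  refine isPretransitive_of_coprime_index (P : Subgroup G) ?_
  rw [hcard]
  refine Nat.Coprime.pow_left f ?_
  exact (Nat.Prime.coprime_iff_not_dvd (Fact.out)).2 P.not_dvd_index

end Cfsg.Agent.PermutationGroups.SylowTransitive
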