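import Mathlib
set_option linter.all false

-- part: PermutationGroups/HalfTransField
section
/-!
# Invariant commutative rings of endomorphisms are fields

`H` acts on a finite abelian group `V` by automorphisms and, for nonzero `v, w`, some `h` has
`h v = w` or `h v = -w`.  Then a commutative subring of `End V` normalised by `H` consists of `0`
and injective maps.
-/

set_option autoImplicit false

namespace Cfsg.Agent.PermutationGroups.HalfTransField

variable {V : Type*} [AddCommGroup V] {H : Type*} [Group H] [DistribMulAction H V]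

/-- The endomorphism given by a group element. -/
abbrev tau (h : H) : AddMonoid.End V := DistribMulAction.toAddMonoidEnd H V h

theorem tau_apply (h : H) (v : V) : tau h v = h • v := rfl

theorem tau_mul (h k : H) : (tau (h * k) : AddMonoid.End V) = tau h * tau k :=
  map_mul (DistribMulAction.toAddMonoidEnd H V) h k

theorem tau_one : (tau (1 : H) : AddMonoid.End V) = 1 :=
  map_one (DistribMulAction.toAddMonoidEnd H V)

theorem tau_mul_inv (h : H) : (tau h : AddMonoid.End V) * tau h⁻¹ = 1 := by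
  rw [← tau_mul, mul_inv_cancel, tau_one]

theorem tau_inv_mul (h : H) : (tau h⁻¹ : AddMonoid.End V) * tau h = 1 := by
  rw [← tau_mul, inv_mul_cancel, tau_one]

theorem finite_end [Finite V] : Finite (AddMonoid.End V) :=
  Finite.of_injective (fun f : V →+ V => (f : V → V)) DFunLike.coe_injective

/-- Annihilators of vectors in a subring of `End V`. -/
def ann (E : Subring (AddMonoid.End V)) (v : V) : Set (AddMonoid.End V) := {x | x ∈ E ∧ x v = 0}

theorem ann_neg (E : Subring (AddMonoid.End V)) (v : V) : ann E (-v) = ann E v := by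
  ext x
  simp [ann]

theorem ncard_ann_le [Finite V] (E : Subring (AddMonoid.End V))
    (hnorm : ∀ h : H, ∀ x ∈ E, (tau h : AddMonoid.End V) * x * tau h⁻¹ ∈ E) (h : H) (v : V) :
    (ann E v).ncard ≤ (ann E (h • v)).ncard := by
  have hfin : Finite (AddMonoid.End V) := finite_end
  refine Set.ncard_le_ncard_of_injOn (fun x => (tau h : AddMonoid.End V) * x * tau h⁻¹) ?_ ?_
    (Set.toFinite _)
  · rintro x ⟨hx, hxv⟩
    refine ⟨hnorm h x hx, ?_⟩
    change h • (x (h⁻¹ • (h • v))) = 0
    rw [inv_smul_smul, hxv, smul_zero]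
  · intro x _ y _ hxy
    have h1 : (tau h : AddMonoid.End V) * x * tau h⁻¹ = tau h * y * tau h⁻¹ := hxy
    have h2 := congrArg (fun t => (tau h⁻¹ : AddMonoid.End V) * t * tau h) h1
    simp only [mul_assoc, tau_inv_mul, mul_one] at h2
    rw [← mul_assoc, ← mul_assoc, tau_inv_mul, one_mul, one_mul] at h2
    exact h2

/-- The key lemma: an invariant commutative subring consists of zero and injective maps. -/
theorem eq_zero_of_apply_eq_zero [Finite V] (E : Subring (AddMonoid.End V))
    (hT : ∀ v w : V, v ≠ 0 → w ≠ 0 → ∃ h : H, h • v = w ∨ h • v = -w)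
    (hcomm : ∀ x ∈ E, ∀ y ∈ E, x * y = y * x)
    (hnorm : ∀ h : H, ∀ x ∈ E, (tau h : AddMonoid.End V) * x * tau h⁻¹ ∈ E)
    {x : AddMonoid.End V} (hx : x ∈ E) {v : V} (hv : v ≠ 0) (hxv : x v = 0) : x = 0 := by
  have hfin : Finite (AddMonoid.End V) := finite_end
  have hcard : ∀ v w : V, v ≠ 0 → w ≠ 0 → (ann E v).ncard ≤ (ann E w).ncard := by
    intro v w hv hw
    obtain ⟨h, hh | hh⟩ := hT v w hv hw
    · rw [← hh]; exact ncard_ann_le E hnorm h v
    · have := ncard_ann_le E hnorm h v
      rwa [hh, ann_neg] at this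
  -- moving along `E`
  have hmove : ∀ y ∈ E, ∀ v : V, y v ≠ 0 → ann E (y v) = ann E v := by
    intro y hy v hyv
    have hv : v ≠ 0 := by
      rintro rfl
      exact hyv (map_zero y)
    symm
    apply Set.eq_of_subset_of_ncard_le _ (hcard _ _ hyv hv) (Set.toFinite _)
    rintro z ⟨hz, hzv⟩
    refine ⟨hz, ?_⟩
    have : (z * y) v = (y * z) v := by rw [hcomm z hz y hy]
    change z (y v) = y (z v) at this
    rw [this, hzv, map_zero]
  have hall : ∀ v w : V, v ≠ 0 → w ≠ 0 → ann E v ⊆ ann E w := by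
    intro v w hv hw
    by_contra hcon
    obtain ⟨x, hx, hxw⟩ := Set.not_subset.mp hcon
    have hcon2 : ¬ ann E w ⊆ ann E v := by
      intro h
      apply hcon
      rw [Set.eq_of_subset_of_ncard_le h (hcard _ _ hv hw) (Set.toFinite _)]
    obtain ⟨y, hy, hyv⟩ := Set.not_subset.mp hcon2
    have hxw' : x w ≠ 0 := fun h => hxw ⟨hx.1, h⟩
    have hxu : x (v + w) = x w := by rw [map_add, hx.2, zero_add]
    have h1 : ann E (v + w) = ann E w := by
      rw [← hmove x hx.1 w hxw', ← hxu]
      exact (hmove x hx.1 (v + w) (by rw [hxu]; exact hxw')).symm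
    have h2 : y ∈ ann E (v + w) := by rw [h1]; exact hy
    apply hyv
    refine ⟨hy.1, ?_⟩
    have h3 := h2.2
    rwa [map_add, hy.2, add_zero] at h3
  refine DFunLike.ext x 0 fun w => ?_
  by_cases hw : w = 0
  · rw [hw]
    exact map_zero x
  · exact (hall v w hv hw ⟨hx, hxv⟩).2

section AbelianNormal

variable (A : Subgroup H)

/-- The ring generated by a subgroup. -/
def ringOf (A : Subgroup H) : Subring (AddMonoid.End V) :=
  Subring.closure ((fun h : H => (tau h : AddMonoid.End V)) '' (A : Set H))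

theorem tau_mem_ringOf {a : H} (ha : a ∈ A) : (tau a : AddMonoid.End V) ∈ ringOf (V := V) A :=
  Subring.subset_closure ⟨a, ha, rfl⟩

theorem ringOf_comm (hA : ∀ a ∈ A, ∀ b ∈ A, a * b = b * a) :
    ∀ x ∈ ringOf (V := V) A, ∀ y ∈ ringOf (V := V) A, x * y = y * x := by
  have hc : ∀ x ∈ ((fun h : H => (tau h : AddMonoid.End V)) '' (A : Set H)),
      ∀ y ∈ ((fun h : H => (tau h : AddMonoid.End V)) '' (A : Set H)), x * y = y * x := by
    rintro _ ⟨a, ha, rfl⟩ _ ⟨b, hb, rfl⟩
    change (tau a : AddMonoid.End V) * tau b = tau b * tau a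
    rw [← tau_mul, ← tau_mul, hA a ha b hb]
  intro x hx y hy
  have := (Subring.isMulCommutative_closure hc).is_comm.comm ⟨x, hx⟩ ⟨y, hy⟩
  exact congrArg Subtype.val this

theorem ringOf_conj (hA : A.Normal) :
    ∀ h : H, ∀ x ∈ ringOf (V := V) A, (tau h : AddMonoid.End V) * x * tau h⁻¹ ∈ ringOf (V := V) A := by
  intro h x hx
  induction hx using Subring.closure_induction with
  | mem x hx =>
    obtain ⟨a, ha, rfl⟩ := hx
    change (tau h : AddMonoid.End V) * tau a * tau h⁻¹ ∈ _
    rw [← tau_mul, ← tau_mul]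
    exact tau_mem_ringOf A (hA.conj_mem a ha h)
  | zero => rw [mul_zero, zero_mul]; exact Subring.zero_mem _
  | one => rw [mul_one, tau_mul_inv]; exact Subring.one_mem _
  | add x y _ _ hx hy => rw [mul_add, add_mul]; exact Subring.add_mem _ hx hy
  | neg x _ hx => rw [mul_neg, neg_mul]; exact Subring.neg_mem _ hx
  | mul x y _ _ hx hy =>
    have : (tau h : AddMonoid.End V) * (x * y) * tau h⁻¹ =
        (tau h * x * tau h⁻¹) * (tau h * y * tau h⁻¹) := by
      rw [mul_assoc (tau h * x) (tau h⁻¹) _, ← mul_assoc (tau h⁻¹ : AddMonoid.End V) _ (tau h⁻¹),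
        ← mul_assoc (tau h⁻¹ : AddMonoid.End V) (tau h) y, tau_inv_mul, one_mul]
      simp only [mul_assoc]
    rw [this]
    exact Subring.mul_mem _ hx hy

theorem comm_ringOf {c : H} (hc : ∀ a ∈ A, c * a = a * c) :
    ∀ x ∈ ringOf (V := V) A, (tau c : AddMonoid.End V) * x = x * tau c := by
  intro x hx
  induction hx using Subring.closure_induction with
  | mem x hx =>
    obtain ⟨a, ha, rfl⟩ := hx
    change (tau c : AddMonoid.End V) * tau a = tau a * tau c
    rw [← tau_mul, ← tau_mul, hc a ha]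
  | zero => rw [mul_zero, zero_mul]
  | one => rw [mul_one, one_mul]
  | add x y _ _ hx hy => rw [mul_add, add_mul, hx, hy]
  | neg x _ hx => rw [mul_neg, neg_mul, hx]
  | mul x y _ _ hx hy => rw [← mul_assoc, hx, mul_assoc, hy, mul_assoc]

end AbelianNormal

end Cfsg.Agent.PermutationGroups.HalfTransField
end

-- part: PermutationGroups/HalfTransSpecial
section
/-!
# A special section over a maximal abelian normal subgroup

`H` finite solvable of odd order, `A` a maximal abelian normal subgroup which is cyclic and is not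
self-centralising.  Then `H` has a normal subgroup `X` of prime exponent `r`, centralising `A`, with
`[X, X] ≤ A`, not contained in `A`, and such that no element of `X` outside `A` is central in `X`.
-/

set_option autoImplicit false

namespace Cfsg.Agent.PermutationGroups.HalfTransSpecial

section Power

variable {G : Type*} [Group G]

/-- `x * y ^ n = c ^ n * (y ^ n * x)` when `x * y = c * (y * x)` and `c` commutes with `y`. -/
theorem pow_mul_of {x y c : G} (h : x * y = c * (y * x)) (hcy : c * y = y * c) (n : ℕ) :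
    x * y ^ n = c ^ n * (y ^ n * x) := by
  induction n with
  | zero => simp
  | succ n ih =>
    have h1 : Commute c y := hcy
    calc x * y ^ (n + 1) = (x * y ^ n) * y := by rw [pow_succ, mul_assoc]
      _ = c ^ n * (y ^ n * (x * y)) := by rw [ih]; simp only [mul_assoc]
      _ = c ^ n * (y ^ n * (c * (y * x))) := by rw [h]
      _ = c ^ n * ((y ^ n * c) * (y * x)) := by simp only [mul_assoc]
      _ = c ^ n * ((c * y ^ n) * (y * x)) := by rw [(h1.pow_right n).eq]
      _ = c ^ (n + 1) * (y ^ (n + 1) * x) := by rw [pow_succ, pow_succ]; simp only [mul_assoc]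

theorem mul_pow_of {x y c : G} (h : x * y = c * (y * x)) (hcx : c * x = x * c)
    (hcy : c * y = y * c) (n : ℕ) :
    x ^ n * y ^ n = c ^ (n * (n - 1) / 2) * (x * y) ^ n := by
  induction n with
  | zero => simp
  | succ n ih =>
    have h1 : Commute c x := hcx
    have e1 : (n + 1) * (n + 1 - 1) / 2 = n + n * (n - 1) / 2 := by
      rcases n with _ | n
      · rfl
      · simp only [Nat.add_sub_cancel]
        have : (n + 1 + 1) * (n + 1) = (n + 1) * n + 2 * (n + 1) := by ring
        rw [this, Nat.add_mul_div_left _ _ (by norm_num), add_comm]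
    calc x ^ (n + 1) * y ^ (n + 1) = x ^ n * (x * y ^ n) * y := by
          rw [pow_succ, pow_succ]; simp only [mul_assoc]
      _ = x ^ n * (c ^ n * (y ^ n * x)) * y := by rw [pow_mul_of h hcy n]
      _ = (x ^ n * c ^ n) * (y ^ n * x) * y := by simp only [mul_assoc]
      _ = (c ^ n * x ^ n) * (y ^ n * x) * y := by rw [((h1.pow_left n).pow_right n).eq]
      _ = c ^ n * (x ^ n * y ^ n) * (x * y) := by simp only [mul_assoc]
      _ = c ^ n * (c ^ (n * (n - 1) / 2) * (x * y) ^ n) * (x * y) := by rw [ih]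
      _ = c ^ ((n + 1) * (n + 1 - 1) / 2) * (x * y) ^ (n + 1) := by
          rw [e1, pow_add, pow_succ (x * y) n]
          simp only [mul_assoc]

end Power

theorem exists_special {H : Type*} [Group H] [Finite H] (hsol : Group.IsSolvable H)
    (hodd : Odd (Nat.card H)) (A : Subgroup H) [hAn : A.Normal]
    (hAc : ∀ a ∈ A, ∀ b ∈ A, a * b = b * a)
    (hAmax : ∀ B : Subgroup H, B.Normal → (∀ a ∈ B, ∀ b ∈ B, a * b = b * a) → A ≤ B → B = A)
    (hcyc : IsCyclic A) (hC : ¬ Subgroup.centralizer (A : Set H) ≤ A) :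
    ∃ (r : ℕ) (X : Subgroup H), r.Prime ∧ r ≠ 2 ∧ X.Normal ∧ (∀ x ∈ X, x ^ r = 1) ∧
      (∀ x ∈ X, ∀ a ∈ A, x * a = a * x) ∧ (∀ x ∈ X, ∀ y ∈ X, x * y * x⁻¹ * y⁻¹ ∈ A) ∧
      (∃ x ∈ X, x ∉ A) ∧ (∀ x ∈ X, x ∉ A → ∃ y ∈ X, x * y ≠ y * x) := by
  classical
  set Q := H ⧸ A with hQ
  set π : H →* Q := QuotientGroup.mk' A with hπ
  have hπs : Function.Surjective π := QuotientGroup.mk'_surjective A
  have hπk : ∀ x : H, π x = 1 ↔ x ∈ A := fun x => QuotientGroup.eq_one_iff x
  have hQs : Group.IsSolvable Q := inferInstance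
  set K : Subgroup Q := (Subgroup.centralizer (A : Set H)).map π with hK
  have hKn : K.Normal := Subgroup.Normal.map inferInstance π hπs
  have hKb : K ≠ ⊥ := by
    intro hb
    apply hC
    intro x hx
    rw [← hπk]
    have : π x ∈ K := Subgroup.mem_map_of_mem π hx
    rwa [hb, Subgroup.mem_bot] at this
  -- a minimal normal subgroup of the quotient inside `K`
  obtain ⟨B', ⟨hB'n, hB'K, hB'b⟩, hB'min⟩ : ∃ B' : Subgroup Q,
      (B'.Normal ∧ B' ≤ K ∧ B' ≠ ⊥) ∧ ∀ B'' : Subgroup Q, B''.Normal → B'' ≠ ⊥ → B'' ≤ B' →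
        B'' = B' := by
    have hfin : ({B' : Subgroup Q | B'.Normal ∧ B' ≤ K ∧ B' ≠ ⊥}).Finite := Set.toFinite _
    obtain ⟨B', hB'⟩ := hfin.exists_minimal ⟨K, hKn, le_rfl, hKb⟩
    refine ⟨B', hB'.1, fun B'' h1 h2 h3 => ?_⟩
    exact le_antisymm h3 (hB'.2 ⟨h1, h3.trans hB'.1.2.1, h2⟩ h3)
  have hB'c : ∀ x ∈ B', ∀ y ∈ B', x * y = y * x := by
    have h1 : ⁅B', B'⁆ < B' := Group.IsSolvable.commutator_lt_of_ne_bot hB'b
    have h2 : ⁅B', B'⁆ = ⊥ := by
      by_contra h3
      have h4 : ⁅B', B'⁆.Normal := inferInstance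
      exact h1.ne (hB'min _ h4 h3 h1.le)
    intro x hx y hy
    have h3 := Subgroup.commutator_mem_commutator hx hy
    rw [h2, Subgroup.mem_bot] at h3
    exact commutatorElement_eq_one_iff_mul_comm.mp h3
  obtain ⟨r, hr, hrB⟩ := Nat.exists_prime_and_dvd (n := Nat.card B')
    (fun h => hB'b (Subgroup.card_eq_one.mp h))
  have hrFact : Fact r.Prime := ⟨hr⟩
  have hrH : r ∣ Nat.card H :=
    (hrB.trans (Subgroup.card_subgroup_dvd_card B')).trans (Subgroup.card_quotient_dvd_card A)
  have hr2 : r ≠ 2 := by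
    rintro rfl
    exact (Nat.not_even_iff_odd.mpr hodd) (even_iff_two_dvd.mpr hrH)
  have hrodd : Odd r := hr.odd_of_ne_two hr2
  have hB'r : ∀ x ∈ B', x ^ r = 1 := by
    let D : Subgroup Q :=
      { carrier := {x | x ∈ B' ∧ x ^ r = 1}
        one_mem' := ⟨B'.one_mem, one_pow r⟩
        mul_mem' := by
          rintro x y ⟨hx, hxr⟩ ⟨hy, hyr⟩
          refine ⟨B'.mul_mem hx hy, ?_⟩
          have : Commute x y := hB'c x hx y hy
          rw [this.mul_pow, hxr, hyr, one_mul]
        inv_mem' := by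
          rintro x ⟨hx, hxr⟩
          exact ⟨B'.inv_mem hx, by rw [inv_pow, hxr, inv_one]⟩ }
    have hDn : D.Normal := ⟨by
      rintro x ⟨hx, hxr⟩ g
      exact ⟨hB'n.conj_mem x hx g, by rw [conj_pow, hxr]; simp⟩⟩
    have hDb : D ≠ ⊥ := by
      intro hb
      obtain ⟨z, hz⟩ := exists_prime_orderOf_dvd_card' r hrB
      have h1 : (z : Q) ∈ D := by
        refine ⟨z.2, ?_⟩
        have := pow_orderOf_eq_one z
        rw [hz] at this
        exact congrArg Subtype.val this
      rw [hb, Subgroup.mem_bot] at h1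
      have h2 : z = 1 := Subtype.ext h1
      rw [h2, orderOf_one] at hz
      exact hr.one_lt.ne hz
    have hDB : D = B' := hB'min D hDn hDb (fun x hx => hx.1)
    intro x hx
    rw [← hDB] at hx
    exact hx.2
  -- pull back
  set B : Subgroup H := B'.comap π with hB
  have hBn : B.Normal := hB'n.comap π
  have hAB : A ≤ B := by
    intro a ha
    rw [hB, Subgroup.mem_comap, (hπk a).mpr ha]
    exact B'.one_mem
  have hBA : B ≠ A := by
    intro h
    apply hB'b
    rw [eq_bot_iff]
    intro x hx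
    obtain ⟨y, rfl⟩ := hπs x
    have : y ∈ B := hx
    rw [h] at this
    rw [Subgroup.mem_bot, hπk]
    exact this
  have hBC : ∀ x ∈ B, ∀ a ∈ A, x * a = a * x := by
    intro x hx a ha
    obtain ⟨c, hc, hcx⟩ := Subgroup.mem_map.mp (hB'K hx)
    have h1 : c⁻¹ * x ∈ A := by
      rw [← hπk, map_mul, map_inv, hcx]; simp
    have h2 : c * a = a * c := ((Subgroup.mem_centralizer_iff.mp hc) a ha).symm
    have h3 := hAc _ h1 a ha
    calc x * a = c * (c⁻¹ * x * a) := by group
      _ = c * (a * (c⁻¹ * x)) := by rw [h3]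
      _ = (c * a) * (c⁻¹ * x) := by simp only [mul_assoc]
      _ = a * x := by rw [h2]; group
  have hBr : ∀ x ∈ B, x ^ r ∈ A := by
    intro x hx
    rw [← hπk, map_pow]
    exact hB'r _ hx
  have hBcomm : ∀ x ∈ B, ∀ y ∈ B, x * y * x⁻¹ * y⁻¹ ∈ A := by
    intro x hx y hy
    rw [← hπk]
    simp only [map_mul, map_inv]
    rw [hB'c _ hx _ hy]; simp
  have hBcr : ∀ x ∈ B, ∀ y ∈ B, (x * y * x⁻¹ * y⁻¹) ^ r = 1 := by
    intro x hx y hy
    set c := x * y * x⁻¹ * y⁻¹ with hc
    have hcA : c ∈ A := hBcomm x hx y hy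
    have h1 : x * y = c * (y * x) := by rw [hc]; group
    have h2 : c * y = y * c := (hBC y hy c hcA).symm
    have h3 := pow_mul_of h1 h2 r
    have h4 : x * y ^ r = y ^ r * x := hBC x hx _ (hBr y hy)
    rw [h4] at h3
    exact (mul_eq_right.mp h3.symm)
  have hBmul : ∀ x ∈ B, ∀ y ∈ B, (x * y) ^ r = x ^ r * y ^ r := by
    intro x hx y hy
    set c := x * y * x⁻¹ * y⁻¹ with hc
    have hcA : c ∈ A := hBcomm x hx y hy
    have h1 : x * y = c * (y * x) := by rw [hc]; group
    have h2 : c * y = y * c := (hBC y hy c hcA).symm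
    have h2' : c * x = x * c := (hBC x hx c hcA).symm
    have h3 := mul_pow_of h1 h2' h2 r
    have h4 : c ^ (r * (r - 1) / 2) = 1 := by
      obtain ⟨k, hk⟩ := hrodd
      have : r * (r - 1) / 2 = r * k := by
        rw [hk]; simp only [Nat.add_sub_cancel]
        rw [show (2 * k + 1) * (2 * k) = 2 * ((2 * k + 1) * k) by ring]
        exact Nat.mul_div_cancel_left _ (by norm_num)
      rw [this, pow_mul, hc, hBcr x hx y hy, one_pow]
    rw [h4, one_mul] at h3
    exact h3.symm
  have hBnc : ¬ (∀ a ∈ B, ∀ b ∈ B, a * b = b * a) := fun h => hBA (hAmax B hBn h hAB)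
  let X : Subgroup H :=
    { carrier := {x | x ∈ B ∧ x ^ r = 1}
      one_mem' := ⟨B.one_mem, one_pow r⟩
      mul_mem' := by
        rintro x y ⟨hx, hxr⟩ ⟨hy, hyr⟩
        refine ⟨B.mul_mem hx hy, ?_⟩
        rw [hBmul x hx y hy, hxr, hyr, one_mul]
      inv_mem' := by
        rintro x ⟨hx, hxr⟩
        exact ⟨B.inv_mem hx, by rw [inv_pow, hxr, inv_one]⟩ }
  have hXn : X.Normal := ⟨by
    rintro x ⟨hx, hxr⟩ g
    exact ⟨hBn.conj_mem x hx g, by rw [conj_pow, hxr]; simp⟩⟩
  refine ⟨r, X, hr, hr2, hXn, fun x hx => hx.2, fun x hx => hBC x hx.1,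
    fun x hx y hy => hBcomm x hx.1 y hy.1, ?_, ?_⟩
  · by_contra hcon
    push Not at hcon
    apply hBnc
    let f : B →* A :=
      { toFun := fun x => ⟨(x : H) ^ r, hBr x x.2⟩
        map_one' := Subtype.ext (one_pow r)
        map_mul' := fun x y => Subtype.ext (hBmul x x.2 y y.2) }
    have hker : f.ker ≤ Subgroup.center B := by
      intro x hx
      rw [MonoidHom.mem_ker] at hx
      have h1 : (x : H) ^ r = 1 := congrArg Subtype.val hx
      have h2 : (x : H) ∈ A := hcon x ⟨x.2, h1⟩
      rw [Subgroup.mem_center_iff]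
      intro g
      exact Subtype.ext (hBC g g.2 x h2)
    intro a ha b hb
    have := (MonoidHom.isMulCommutative_of_isCyclic_of_ker_le_center f hker).is_comm.comm
      ⟨a, ha⟩ ⟨b, hb⟩
    exact congrArg Subtype.val this
  · intro x hx hxA
    by_contra hcon
    push Not at hcon
    -- the subgroup of central elements of `X` times `A`
    let Z : Subgroup H :=
      { carrier := {z | z ∈ X ∧ ∀ y ∈ X, z * y = y * z}
        one_mem' := ⟨X.one_mem, fun y _ => by simp⟩
        mul_mem' := by
          rintro a b ⟨ha, ha'⟩ ⟨hb, hb'⟩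
          refine ⟨X.mul_mem ha hb, fun y hy => ?_⟩
          rw [mul_assoc, hb' y hy, ← mul_assoc, ha' y hy, mul_assoc]
        inv_mem' := by
          rintro a ⟨ha, ha'⟩
          refine ⟨X.inv_mem ha, fun y hy => ?_⟩
          rw [inv_mul_eq_iff_eq_mul, ← mul_assoc, ha' y hy, mul_assoc, mul_inv_cancel, mul_one] }
    have hZn : Z.Normal := ⟨by
      rintro z ⟨hz, hz'⟩ g
      refine ⟨hXn.conj_mem z hz g, fun y hy => ?_⟩
      have h1 := hz' (g⁻¹ * y * g) (by simpa using hXn.conj_mem y hy g⁻¹)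
      calc g * z * g⁻¹ * y = g * (z * (g⁻¹ * y * g)) * g⁻¹ := by group
        _ = g * ((g⁻¹ * y * g) * z) * g⁻¹ := by rw [h1]
        _ = y * (g * z * g⁻¹) := by group⟩
    have hZA : (Z ⊔ A) = A := by
      apply hAmax _ (Subgroup.sup_normal Z A) _ le_sup_right
      intro a ha b hb
      obtain ⟨z1, hz1, a1, ha1, rfl⟩ := Subgroup.mem_sup_of_normal_right.mp ha
      obtain ⟨z2, hz2, a2, ha2, rfl⟩ := Subgroup.mem_sup_of_normal_right.mp hb
      have e1 : a1 * z2 = z2 * a1 := (hBC z2 hz2.1.1 a1 ha1).symm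
      have e2 : a2 * z1 = z1 * a2 := (hBC z1 hz1.1.1 a2 ha2).symm
      calc z1 * a1 * (z2 * a2) = z1 * (a1 * z2) * a2 := by simp only [mul_assoc]
        _ = (z1 * z2) * (a1 * a2) := by rw [e1]; simp only [mul_assoc]
        _ = (z2 * z1) * (a2 * a1) := by rw [hz1.2 z2 hz2.1, hAc a1 ha1 a2 ha2]
        _ = z2 * (z1 * a2) * a1 := by simp only [mul_assoc]
        _ = z2 * a2 * (z1 * a1) := by rw [← e2]; simp only [mul_assoc]
    apply hxA
    rw [← hZA]
    exact Subgroup.mem_sup_left ⟨hx, hcon⟩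

end Cfsg.Agent.PermutationGroups.HalfTransSpecial
end

-- part: PermutationGroups/HalfTransCount
section
/-!
# No special section in a group transitive up to sign on the nonzero vectors
-/

set_option autoImplicit false

namespace Cfsg.Agent.PermutationGroups.HalfTransCount

open Cfsg.Agent.PermutationGroups.HalfTransField

variable {V : Type*} [AddCommGroup V] [Finite V] {H : Type*} [Group H] [Finite H]
  [DistribMulAction H V]

/-- Number of vectors fixed by an element. -/
noncomputable def fixCard (V : Type*) [AddCommGroup V] {H : Type*} [Group H]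
    [DistribMulAction H V] (x : H) : ℕ := Nat.card {v : V // x • v = v}

theorem fixCard_pos (x : H) : 0 < fixCard V x := by
  have : Nonempty {v : V // x • v = v} := ⟨⟨0, smul_zero x⟩⟩
  exact Nat.card_pos

/-- eigenvector relations: three fixed spaces are independent -/
theorem pow_three_le {x w : H} (hxw : x * w = w * x) (hw : ∀ v : V, w • v = v → v = 0)
    (hw2 : ∀ v : V, (w * w) • v = v → v = 0)
    (hc1 : fixCard V (x * w) = fixCard V x) (hc2 : fixCard V (x * (w * w)) = fixCard V x) :
    fixCard V x ^ 3 ≤ Nat.card V := by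
  have hinj : Function.Injective
      (fun u : {v : V // x • v = v} × {v : V // (x * w) • v = v} ×
        {v : V // (x * (w * w)) • v = v} => (u.1 : V) + (u.2.1 : V) + (u.2.2 : V)) := by
    rintro ⟨⟨u0, h0⟩, ⟨u1, h1⟩, ⟨u2, h2⟩⟩ ⟨⟨v0, k0⟩, ⟨v1, k1⟩, ⟨v2, k2⟩⟩ huv
    simp only at huv
    -- differences
    set d0 := u0 - v0 with hd0
    set d1 := u1 - v1 with hd1
    set d2 := u2 - v2 with hd2
    have e0 : x • d0 = d0 := by rw [hd0, smul_sub, h0, k0]
    have e1 : (x * w) • d1 = d1 := by rw [hd1, smul_sub, h1, k1]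
    have e2 : (x * (w * w)) • d2 = d2 := by rw [hd2, smul_sub, h2, k2]
    have hsum : d0 + d1 + d2 = 0 := by
      have : d0 + d1 + d2 = (u0 + u1 + u2) - (v0 + v1 + v2) := by
        rw [hd0, hd1, hd2]; abel
      rw [this, huv, sub_self]
    have f1 : x • d1 = w⁻¹ • d1 := by
      have : w • (x • d1) = d1 := by rw [smul_smul, ← hxw]; exact e1
      rw [eq_inv_smul_iff]; exact this
    have f2 : x • d2 = w⁻¹ • w⁻¹ • d2 := by
      have hxww : x * (w * w) = w * (w * x) := by
        rw [← mul_assoc, hxw, mul_assoc, hxw]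
      have : w • w • (x • d2) = d2 := by
        rw [smul_smul, smul_smul, mul_assoc, ← hxww]; exact e2
      rw [eq_inv_smul_iff, eq_inv_smul_iff]; exact this
    have g1 : d0 + w⁻¹ • d1 + w⁻¹ • w⁻¹ • d2 = 0 := by
      have := congrArg (fun t => x • t) hsum
      simp only [smul_add, smul_zero, e0, f1, f2] at this
      exact this
    -- subtract: (1 - W) d1 + (1 - W²) d2 = 0
    have hWfix : ∀ v : V, w⁻¹ • v = v → v = 0 := by
      intro v hv
      apply hw
      rw [← hv, smul_inv_smul]
      exact hv.symm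
    have g2 : w⁻¹ • (d1 + d2 + w⁻¹ • d2) = d1 + d2 + w⁻¹ • d2 := by
      have h5 : d1 + d2 = w⁻¹ • d1 + w⁻¹ • w⁻¹ • d2 := by
        have h6 : d0 + (d1 + d2) = d0 + (w⁻¹ • d1 + w⁻¹ • w⁻¹ • d2) := by
          rw [← add_assoc, hsum, ← add_assoc, g1]
        exact add_left_cancel h6
      rw [smul_add, smul_add]
      calc w⁻¹ • d1 + w⁻¹ • d2 + w⁻¹ • w⁻¹ • d2
          = (w⁻¹ • d1 + w⁻¹ • w⁻¹ • d2) + w⁻¹ • d2 := by abel
        _ = d1 + d2 + w⁻¹ • d2 := by rw [← h5]
    have g3 : d1 + d2 + w⁻¹ • d2 = 0 := hWfix _ g2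
    have g4 : w⁻¹ • d1 + w⁻¹ • w⁻¹ • d2 + w⁻¹ • w⁻¹ • w⁻¹ • d2 = 0 := by
      have := congrArg (fun t => x • t) g3
      simp only [smul_add, smul_zero, f1, f2] at this
      have h7 : x • w⁻¹ • d2 = w⁻¹ • w⁻¹ • w⁻¹ • d2 := by
        have h8 : x * w⁻¹ = w⁻¹ * x := by
          rw [eq_inv_mul_iff_mul_eq, ← mul_assoc, ← hxw]; simp
        rw [smul_smul, h8, mul_smul, f2]
      rw [h7] at this
      exact this
    have g5 : w⁻¹ • d1 + w⁻¹ • d2 + w⁻¹ • w⁻¹ • d2 = 0 := by
      have := congrArg (fun t => w⁻¹ • t) g3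
      simpa only [smul_add, smul_zero] using this
    have g6 : w⁻¹ • w⁻¹ • w⁻¹ • d2 = w⁻¹ • d2 := by
      have h9 : w⁻¹ • d1 + w⁻¹ • w⁻¹ • d2 + w⁻¹ • w⁻¹ • w⁻¹ • d2 =
          w⁻¹ • d1 + w⁻¹ • w⁻¹ • d2 + w⁻¹ • d2 := by
        rw [g4, ← g5]; abel
      exact add_left_cancel h9
    have g7 : w⁻¹ • w⁻¹ • d2 = d2 := smul_left_cancel _ g6
    have hz2 : d2 = 0 := by
      apply hw2
      rw [mul_smul]
      nth_rewrite 1 [← g7]
      rw [smul_inv_smul, smul_inv_smul]
    have hz1 : d1 = 0 := by
      rw [hz2, smul_zero, add_zero, add_zero] at g3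
      exact g3
    have hz0 : d0 = 0 := by
      rw [hz2, hz1, add_zero, add_zero] at hsum
      exact hsum
    have i0 : u0 = v0 := sub_eq_zero.mp hz0
    have i1 : u1 = v1 := sub_eq_zero.mp hz1
    have i2 : u2 = v2 := sub_eq_zero.mp hz2
    subst i0 i1 i2
    rfl
  have := Nat.card_le_card_of_injective _ hinj
  rw [Nat.card_prod, Nat.card_prod] at this
  change fixCard V x * (fixCard V (x * w) * fixCard V (x * (w * w))) ≤ _ at this
  rw [hc1, hc2] at this
  calc fixCard V x ^ 3 = fixCard V x * (fixCard V x * fixCard V x) := by ring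
    _ ≤ Nat.card V := this

theorem fixCard_conj (g x : H) : fixCard V (g * x * g⁻¹) = fixCard V x := by
  refine Nat.card_congr ⟨fun v => ⟨g⁻¹ • v.1, ?_⟩, fun v => ⟨g • v.1, ?_⟩, ?_, ?_⟩
  · have := v.2
    rw [mul_smul, mul_smul] at this
    rw [eq_inv_smul_iff, this]
  · have := v.2
    rw [mul_smul, mul_smul, inv_smul_smul, this]
  · intro v; exact Subtype.ext (smul_inv_smul g v.1)
  · intro v; exact Subtype.ext (inv_smul_smul g v.1)

/-- Some `x * w ^ i` has a nonzero fixed vector. -/
theorem exists_fixed {x w : H} {r : ℕ} (hr : r.Prime) (hxw : x * w = w * x) (hxr : x ^ r = 1)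
    (hwr : w ^ r = 1) (hw : ∀ j : ℕ, 0 < j → j < r → ∀ v : V, w ^ j • v = v → v = 0)
    {u : V} (hu : r • u ≠ 0) : ∃ i < r, ∃ v : V, v ≠ 0 ∧ (x * w ^ i) • v = v := by
  by_contra hcon
  push Not at hcon
  apply hu
  -- the sums
  have hN : ∀ i < r, ∑ j ∈ Finset.range r, (x * w ^ i) ^ j • u = 0 := by
    intro i hi
    by_contra hne
    apply hcon i hi _ hne
    rw [Finset.smul_sum]
    have h1 : ∀ j ∈ Finset.range r, (x * w ^ i) • (x * w ^ i) ^ j • u = (x * w ^ i) ^ (j + 1) • u := by
      intro j _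
      rw [smul_smul, ← pow_succ']
    rw [Finset.sum_congr rfl h1]
    have h2 : (x * w ^ i) ^ r = 1 := by
      have hc : Commute x (w ^ i) := Commute.pow_right hxw i
      rw [hc.mul_pow, hxr, one_mul, ← pow_mul, mul_comm, pow_mul, hwr, one_pow]
    have h3 := Finset.sum_range_succ' (fun j => (x * w ^ i) ^ j • u) r
    have h4 := Finset.sum_range_succ (fun j => (x * w ^ i) ^ j • u) r
    rw [h4] at h3
    simp only [pow_zero, h2] at h3
    exact (add_right_cancel h3).symm
  have hsum : ∑ i ∈ Finset.range r, ∑ j ∈ Finset.range r, (x * w ^ i) ^ j • u = 0 := by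
    apply Finset.sum_eq_zero
    intro i hi
    exact hN i (Finset.mem_range.mp hi)
  rw [Finset.sum_comm] at hsum
  have hr0 : 0 < r := hr.pos
  rw [← Finset.sum_erase_add _ _ (Finset.mem_range.mpr hr0)] at hsum
  have hz : ∑ j ∈ (Finset.range r).erase 0, ∑ i ∈ Finset.range r, (x * w ^ i) ^ j • u = 0 := by
    apply Finset.sum_eq_zero
    intro j hj
    rw [Finset.mem_erase, Finset.mem_range] at hj
    have h1 : ∀ i ∈ Finset.range r, (x * w ^ i) ^ j • u = x ^ j • ((w ^ j) ^ i • u) := by
      intro i _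
      have hc : Commute x (w ^ i) := Commute.pow_right hxw i
      rw [hc.mul_pow, mul_smul, ← pow_mul, ← pow_mul, mul_comm i j]
    rw [Finset.sum_congr rfl h1, ← Finset.smul_sum]
    have h2 : ∑ i ∈ Finset.range r, (w ^ j) ^ i • u = 0 := by
      apply hw j (Nat.pos_of_ne_zero hj.1) hj.2
      rw [Finset.smul_sum]
      have h3 : ∀ i ∈ Finset.range r, w ^ j • (w ^ j) ^ i • u = (w ^ j) ^ (i + 1) • u := by
        intro i _
        rw [smul_smul, ← pow_succ']
      rw [Finset.sum_congr rfl h3]
      have h4 : (w ^ j) ^ r = 1 := by rw [← pow_mul, mul_comm, pow_mul, hwr, one_pow]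
      have h5 := Finset.sum_range_succ' (fun i => (w ^ j) ^ i • u) r
      have h6 := Finset.sum_range_succ (fun i => (w ^ j) ^ i • u) r
      rw [h6] at h5
      simp only [pow_zero, h4] at h5
      exact (add_right_cancel h5).symm
    rw [h2, smul_zero]
  rw [hz, zero_add] at hsum
  simpa using hsum

/-- Arithmetic contradiction. -/
theorem arith {q s y r n : ℕ} (hr : 3 ≤ r) (hq : s ^ 3 ≤ q) (hy : r ≤ y) (hs : r + 1 ≤ s)
    (h1 : (q - 1) * (y - 1) ≤ n * (s - 1)) (h2 : n ≤ r * ((s - 1) * y)) : False := by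
  obtain ⟨s, rfl⟩ : ∃ s', s = s' + 1 := ⟨s - 1, by omega⟩
  obtain ⟨y, rfl⟩ : ∃ y', y = y' + 1 := ⟨y - 1, by omega⟩
  simp only [Nat.add_sub_cancel] at h1 h2
  have h3 : (s + 1) ^ 3 - 1 = s * (s ^ 2 + 3 * s + 3) := by
    have : (s + 1) ^ 3 = s * (s ^ 2 + 3 * s + 3) + 1 := by ring
    omega
  have h4 : s * (s ^ 2 + 3 * s + 3) * y ≤ r * (s * (y + 1)) * s := by
    calc s * (s ^ 2 + 3 * s + 3) * y ≤ (q - 1) * y := by
          apply Nat.mul_le_mul_right
          rw [← h3]; omega
      _ ≤ n * s := h1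
      _ ≤ r * (s * (y + 1)) * s := Nat.mul_le_mul_right _ h2
  have hs0 : 0 < s := by omega
  have h5 : (s ^ 2 + 3 * s + 3) * y ≤ r * s * (y + 1) := by
    have : s * ((s ^ 2 + 3 * s + 3) * y) ≤ s * (r * s * (y + 1)) := by nlinarith [h4]
    exact Nat.le_of_mul_le_mul_left this hs0
  -- s ≥ r, y ≥ r - 1
  have h6 : r * s * y + 3 * s * y ≤ (s ^ 2 + 3 * s) * y := by nlinarith
  have h7 : 3 * s * y + 3 * y ≤ r * s := by nlinarith
  have h8 : r ≤ y + 1 := hy
  have h9 : r * s ≤ (y + 1) * s := Nat.mul_le_mul_right _ h8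
  have h10 : 2 ≤ y := by omega
  nlinarith

end Cfsg.Agent.PermutationGroups.HalfTransCount
end

-- part: PermutationGroups/HalfTransNoSpecial
section
/-!
# No special section in a group transitive up to sign on the nonzero vectors: the counting
-/

set_option autoImplicit false

namespace Cfsg.Agent.PermutationGroups.HalfTransNoSpecial

open Cfsg.Agent.PermutationGroups.HalfTransField
open Cfsg.Agent.PermutationGroups.HalfTransCount

variable {V : Type*} [AddCommGroup V] [Finite V] {H : Type*} [Group H] [Finite H]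
  [DistribMulAction H V]

/-- number of elements of `X` fixing `v` -/
noncomputable def stabCard (X : Subgroup H) (v : V) : ℕ := Nat.card {x : X // (x : H) • v = v}

omit [Finite V] [Finite H] in
theorem stabCard_smul (X : Subgroup H) (hX : X.Normal) (h : H) (v : V) :
    stabCard X (h • v) = stabCard X v := by
  refine Nat.card_congr ⟨fun x => ⟨⟨h⁻¹ * x.1.1 * h, ?_⟩, ?_⟩, fun x => ⟨⟨h * x.1.1 * h⁻¹, ?_⟩, ?_⟩,
    ?_, ?_⟩
  · simpa using hX.conj_mem x.1.1 x.1.2 h⁻¹
  · change (h⁻¹ * x.1.1 * h) • v = v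
    rw [mul_smul, mul_smul, x.2, inv_smul_smul]
  · exact hX.conj_mem x.1.1 x.1.2 h
  · change (h * x.1.1 * h⁻¹) • h • v = h • v
    rw [mul_smul, mul_smul, inv_smul_smul, x.2]
  · intro x
    apply Subtype.ext
    apply Subtype.ext
    change h * (h⁻¹ * x.1.1 * h) * h⁻¹ = x.1.1
    group
  · intro x
    apply Subtype.ext
    apply Subtype.ext
    change h⁻¹ * (h * x.1.1 * h⁻¹) * h = x.1.1
    group

omit [Finite V] [Finite H] in
theorem stabCard_neg (X : Subgroup H) (v : V) : stabCard X (-v) = stabCard X v := by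
  unfold stabCard
  simp only [smul_neg, neg_inj]

theorem card_le_mul (X A : Subgroup H) (hA : ∀ a ∈ A, ∀ b ∈ A, a * b = b * a) (hAcyc : IsCyclic A)
    {r : ℕ} (hr : 0 < r) (hXr : ∀ x ∈ X, x ^ r = 1) (hXA : ∀ x ∈ X, ∀ a ∈ A, x * a = a * x)
    (hXc : ∀ x ∈ X, ∀ y ∈ X, x * y * x⁻¹ * y⁻¹ ∈ A) {x : H} (hx : x ∈ X) :
    Nat.card X ≤ r * Nat.card {g : X // (g : H) * x = x * g} := by
  classical
  let f : X →* A :=
    { toFun := fun g => ⟨(g : H) * x * (g : H)⁻¹ * x⁻¹, hXc g g.2 x hx⟩
      map_one' := Subtype.ext (by simp)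
      map_mul' := fun g k => Subtype.ext (by
        have h1 : (g : H) * ((k : H) * x * (k : H)⁻¹ * x⁻¹) = ((k : H) * x * (k : H)⁻¹ * x⁻¹) * g :=
          hXA g g.2 _ (hXc k k.2 x hx)
        have h2 := hA _ (hXc g g.2 x hx) _ (hXc k k.2 x hx)
        change ((g * k : X) : H) * x * ((g * k : X) : H)⁻¹ * x⁻¹ =
          ((g : H) * x * (g : H)⁻¹ * x⁻¹) * ((k : H) * x * (k : H)⁻¹ * x⁻¹)
        rw [h2]
        calc ((g * k : X) : H) * x * ((g * k : X) : H)⁻¹ * x⁻¹
            = ((g : H) * ((k : H) * x * (k : H)⁻¹ * x⁻¹)) * x * (g : H)⁻¹ * x⁻¹ := by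
              push_cast; group
          _ = _ := by rw [h1]; group) }
  have hker : Nat.card f.ker = Nat.card {g : X // (g : H) * x = x * g} := by
    refine Nat.card_congr (Equiv.subtypeEquivRight fun g => ?_)
    rw [MonoidHom.mem_ker]
    constructor
    · intro h
      have h1 : (g : H) * x * (g : H)⁻¹ * x⁻¹ = 1 := congrArg Subtype.val h
      rw [mul_inv_eq_one, mul_inv_eq_iff_eq_mul] at h1
      exact h1
    · intro h
      apply Subtype.ext
      change (g : H) * x * (g : H)⁻¹ * x⁻¹ = 1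
      rw [mul_inv_eq_one, mul_inv_eq_iff_eq_mul]
      exact h
  have hrange : Nat.card f.range ≤ r := by
    have := Fintype.ofFinite A
    have h1 := IsCyclic.card_pow_eq_one_le (α := A) hr
    have h2 : Nat.card f.range ≤ (Finset.univ.filter fun a : A => a ^ r = 1).card := by
      rw [← Fintype.card_subtype, ← Nat.card_eq_fintype_card]
      refine Nat.card_le_card_of_injective
        (fun a : f.range => (⟨a.1, ?_⟩ : {a : A // a ^ r = 1})) ?_
      · obtain ⟨g, hg⟩ := a.2
        rw [← hg, ← map_pow, show g ^ r = 1 from Subtype.ext (hXr g g.2), map_one]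
      · intro a b hab
        exact Subtype.ext (congrArg (fun t : {a : A // a ^ r = 1} => t.1) hab)
    exact h2.trans h1
  have h3 : Nat.card X = Nat.card f.range * Nat.card f.ker := by
    rw [← Subgroup.card_mul_index f.ker, Subgroup.index_ker, mul_comm]
  rw [h3, hker]
  exact Nat.mul_le_mul_right _ hrange

theorem no_special [Nontrivial V]
    (hT : ∀ v w : V, v ≠ 0 → w ≠ 0 → ∃ h : H, h • v = w ∨ h • v = -w)
    (A X : Subgroup H) (hA : ∀ a ∈ A, ∀ b ∈ A, a * b = b * a)
    (hAfree : ∀ a ∈ A, a ≠ 1 → ∀ v : V, a • v = v → v = 0)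
    (hAcyc : IsCyclic A) (hX : X.Normal) {r : ℕ} (hr : r.Prime) (hr2 : r ≠ 2)
    (hrV : ∀ v : V, r • v = 0 → v = 0) (hXr : ∀ x ∈ X, x ^ r = 1)
    (hXA : ∀ x ∈ X, ∀ a ∈ A, x * a = a * x) (hXc : ∀ x ∈ X, ∀ y ∈ X, x * y * x⁻¹ * y⁻¹ ∈ A)
    (hne : ∃ x ∈ X, x ∉ A) (hcen : ∀ x ∈ X, x ∉ A → ∃ y ∈ X, x * y ≠ y * x) : False := by
  classical
  have hrF : Fact r.Prime := ⟨hr⟩
  have hr3 : 3 ≤ r := by
    have := hr.two_le
    omega
  -- the element `w` attached to `x`
  have hw : ∀ x ∈ X, x ∉ A → ∃ w : H, w ∈ A ∧ w ≠ 1 ∧ w ^ r = 1 ∧ ∀ n : ℕ, ∃ g : H, g ∈ X ∧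
      g * x * g⁻¹ = x * w ^ n := by
    intro x hx hxA
    obtain ⟨y, hy, hxy⟩ := hcen x hx hxA
    have hc : y * x * y⁻¹ * x⁻¹ ∈ A := hXc y hy x hx
    refine ⟨y * x * y⁻¹ * x⁻¹, hc, ?_, ?_, ?_⟩
    · intro h
      rw [mul_inv_eq_one, mul_inv_eq_iff_eq_mul] at h
      exact hxy h.symm
    · exact hXr _ (X.mul_mem (X.mul_mem (X.mul_mem hy hx) (X.inv_mem hy)) (X.inv_mem hx))
    · intro n
      induction n with
      | zero => exact ⟨1, X.one_mem, by simp⟩
      | succ n ih =>
        obtain ⟨g, hg, hgx⟩ := ih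
        refine ⟨y * g, X.mul_mem hy hg, ?_⟩
        set c := y * x * y⁻¹ * x⁻¹ with hcdef
        have h1 : y * c ^ n = c ^ n * y := by
          have : Commute y c := hXA y hy c hc
          exact (this.pow_right n).eq
        have h2 : x * c = c * x := hXA x hx c hc
        calc y * g * x * (y * g)⁻¹ = y * (g * x * g⁻¹) * y⁻¹ := by group
          _ = y * (x * c ^ n) * y⁻¹ := by rw [hgx]
          _ = y * x * (c ^ n * y⁻¹) := by simp only [mul_assoc]
          _ = y * x * (y⁻¹ * c ^ n) := by
              have h3 : c ^ n * y⁻¹ = y⁻¹ * c ^ n := by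
                rw [eq_inv_mul_iff_mul_eq, ← mul_assoc, h1, mul_assoc, mul_inv_cancel, mul_one]
              rw [h3]
          _ = (c * x) * c ^ n := by
              have h4 : y * x * y⁻¹ = c * x := by rw [hcdef]; group
              rw [← mul_assoc, h4]
          _ = x * c ^ (n + 1) := by rw [← h2, pow_succ']; simp only [mul_assoc]
  have hwpow : ∀ w : H, w ∈ A → w ≠ 1 → w ^ r = 1 → ∀ j : ℕ, 0 < j → j < r → w ^ j ≠ 1 := by
    intro w _ hw1 hwr j hj hjr h
    have h1 : orderOf w = r := orderOf_eq_prime hwr hw1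
    have h2 := orderOf_dvd_of_pow_eq_one h
    rw [h1] at h2
    exact absurd (Nat.le_of_dvd hj h2) (by omega)
  -- every element outside `A` has a nonzero fixed vector
  have hfix : ∀ x ∈ X, x ∉ A → ∃ v : V, v ≠ 0 ∧ x • v = v := by
    intro x hx hxA
    obtain ⟨w, hwA, hw1, hwr, hconj⟩ := hw x hx hxA
    obtain ⟨u, hu⟩ := exists_ne (0 : V)
    obtain ⟨i, _, v, hv, hxv⟩ := exists_fixed (V := V) (x := x) (w := w) hr (hXA x hx w hwA)
      (hXr x hx) hwr (fun j hj hjr v hv => hAfree (w ^ j) (A.pow_mem hwA j)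
        (hwpow w hwA hw1 hwr j hj hjr) v hv) (u := u) (fun h => hu (hrV u h))
    obtain ⟨g, _, hg⟩ := hconj i
    refine ⟨g⁻¹ • v, ?_, ?_⟩
    · intro h
      rw [inv_smul_eq_iff, smul_zero] at h
      exact hv h
    · rw [← hg, mul_smul, mul_smul] at hxv
      rw [eq_inv_smul_iff, hxv]
  -- cubes
  have hcube : ∀ x ∈ X, x ∉ A → fixCard V x ^ 3 ≤ Nat.card V := by
    intro x hx hxA
    obtain ⟨w, hwA, hw1, hwr, hconj⟩ := hw x hx hxA
    apply pow_three_le (w := w) (hXA x hx w hwA) (hAfree w hwA hw1)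
    · apply hAfree _ (A.mul_mem hwA hwA)
      have := hwpow w hwA hw1 hwr 2 (by omega) (by omega)
      rwa [sq] at this
    · obtain ⟨g, _, hg⟩ := hconj 1
      rw [pow_one] at hg
      rw [← hg, fixCard_conj]
    · obtain ⟨g, _, hg⟩ := hconj 2
      rw [sq] at hg
      rw [← hg, fixCard_conj]
  -- the element with the largest number of fixed vectors
  obtain ⟨x, ⟨hx, hxA⟩, hmax⟩ : ∃ x : H, (x ∈ X ∧ x ∉ A) ∧ ∀ y : H, (y ∈ X ∧ y ∉ A) →
      fixCard V y ≤ fixCard V x := by
    obtain ⟨x0, hx0, hx0A⟩ := hne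
    have : Nonempty {x : H // x ∈ X ∧ x ∉ A} := ⟨⟨x0, hx0, hx0A⟩⟩
    obtain ⟨x, hx⟩ := Finite.exists_max (fun x : {x : H // x ∈ X ∧ x ∉ A} => fixCard V x.1)
    exact ⟨x.1, x.2, fun y hy => hx ⟨y, hy⟩⟩
  obtain ⟨v0, hv0, hxv0⟩ := hfix x hx hxA
  set s := fixCard V x with hs
  set y := stabCard X v0 with hy
  have hyall : ∀ v : V, v ≠ 0 → stabCard X v = y := by
    intro v hv
    obtain ⟨h, hh | hh⟩ := hT v0 v hv0 hv
    · rw [← hh, stabCard_smul X hX]
    · have := stabCard_smul X hX h v0
      rw [hh, stabCard_neg] at this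
      exact this
  have hx1 : x ≠ 1 := fun h => hxA (h ▸ A.one_mem)
  have hxord : orderOf x = r := orderOf_eq_prime (hXr x hx) hx1
  -- `r ≤ y`
  have hry : r ≤ y := by
    have hle : Nat.card (Subgroup.zpowers x) ≤ y := by
      let f : Subgroup.zpowers x → {g : X // (g : H) • v0 = v0} := fun g =>
        ⟨⟨g.1, (Subgroup.zpowers_le.mpr hx) g.2⟩, by
          obtain ⟨k, hk⟩ := Subgroup.mem_zpowers_iff.mp g.2
          change g.1 • v0 = v0
          rw [← hk]
          have h1 : x ∈ MulAction.stabilizer H v0 := hxv0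
          exact (MulAction.stabilizer H v0).zpow_mem h1 k⟩
      refine Nat.card_le_card_of_injective f ?_
      intro a b hab
      have : (f a).1.1 = (f b).1.1 := by rw [hab]
      exact Subtype.ext this
    rwa [Nat.card_zpowers, hxord] at hle
  -- `r + 1 ≤ s`
  have hrs : r + 1 ≤ s := by
    obtain ⟨w, hwA, hw1, hwr, _⟩ := hw x hx hxA
    let f : Option (Fin r) → {v : V // x • v = v} := fun o => match o with
      | none => ⟨0, smul_zero x⟩
      | some i => ⟨w ^ (i : ℕ) • v0, by
          have : Commute x (w ^ (i : ℕ)) := Commute.pow_right (hXA x hx w hwA) i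
          rw [smul_smul, this.eq, mul_smul, hxv0]⟩
    have hne0 : ∀ i : Fin r, w ^ (i : ℕ) • v0 ≠ 0 := by
      intro i h
      apply hv0
      have := congrArg (fun t => (w ^ (i : ℕ))⁻¹ • t) h
      simpa using this
    have key : ∀ i j : Fin r, i < j → w ^ (i : ℕ) • v0 ≠ w ^ (j : ℕ) • v0 := by
      intro i j hij h
      have h1 : (j : ℕ) = i + (j - i) := by
        have : (i : ℕ) < j := hij
        omega
      rw [h1, pow_add, mul_smul] at h
      have h2 := smul_left_cancel _ h
      have h3 : w ^ ((j : ℕ) - i) ≠ 1 := by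
        apply hwpow w hwA hw1 hwr
        · have : (i : ℕ) < j := hij
          omega
        · have := j.2
          omega
      exact hv0 (hAfree _ (A.pow_mem hwA _) h3 v0 h2.symm)
    have hf : Function.Injective f := by
      intro o o' hoo
      rcases o with _ | i <;> rcases o' with _ | j
      · rfl
      · exact absurd (congrArg Subtype.val hoo).symm (hne0 j)
      · exact absurd (congrArg Subtype.val hoo) (hne0 i)
      · have h1 : w ^ (i : ℕ) • v0 = w ^ (j : ℕ) • v0 := congrArg Subtype.val hoo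
        rcases lt_trichotomy i j with h | h | h
        · exact absurd h1 (key i j h)
        · rw [h]
        · exact absurd h1.symm (key j i h)
    have := Nat.card_le_card_of_injective f hf
    rwa [Finite.card_option, Nat.card_eq_fintype_card, Fintype.card_fin] at this
  -- the size of `X`
  have hXle : Nat.card X ≤ r * ((s - 1) * y) := by
    refine (card_le_mul X A hA hAcyc hr.pos hXr hXA hXc hx).trans (Nat.mul_le_mul_left _ ?_)
    -- the centraliser acts on the fixed vectors
    let C : Subgroup H := X ⊓ Subgroup.centralizer {x}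
    have hCmem : ∀ g : H, g ∈ C ↔ g ∈ X ∧ g * x = x * g := by
      intro g
      change g ∈ X ∧ g ∈ Subgroup.centralizer {x} ↔ _
      rw [Subgroup.mem_centralizer_singleton_iff]
    have hCcard : Nat.card {g : X // (g : H) * x = x * g} = Nat.card C := by
      refine Nat.card_congr ⟨fun g => ⟨g.1.1, (hCmem _).mpr ⟨g.1.2, g.2⟩⟩,
        fun g => ⟨⟨g.1, ((hCmem _).mp g.2).1⟩, ((hCmem _).mp g.2).2⟩, ?_, ?_⟩
      · intro g; rfl
      · intro g; rfl
    rw [hCcard, ← Subgroup.card_mul_index (MulAction.stabilizer C v0),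
      MulAction.index_stabilizer, mul_comm]
    apply Nat.mul_le_mul
    · -- the orbit
      have h1 : (MulAction.orbit C v0) ⊆ {v : V | x • v = v} \ {0} := by
        rintro _ ⟨g, rfl⟩
        have hg := (hCmem g.1).mp g.2
        refine ⟨?_, ?_⟩
        · change x • (g.1 • v0) = g.1 • v0
          rw [smul_smul, ← hg.2, mul_smul, hxv0]
        · intro h
          have h2 : g.1 • v0 = 0 := h
          apply hv0
          have := congrArg (fun t => (g.1)⁻¹ • t) h2
          simpa using this
      have h2 := Set.ncard_le_ncard h1 (Set.toFinite _)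
      have h3 : ({v : V | x • v = v} \ {0}).ncard = s - 1 := by
        rw [Set.ncard_sdiff_singleton_of_mem (show (0 : V) ∈ {v : V | x • v = v} from smul_zero x)]
        rw [← Nat.card_coe_set_eq]
        rfl
      rwa [h3] at h2
    · refine Nat.card_le_card_of_injective
        (fun g : MulAction.stabilizer C v0 =>
          (⟨⟨g.1.1, ((hCmem _).mp g.1.2).1⟩, g.2⟩ : {g : X // (g : H) • v0 = v0})) ?_
      intro a b hab
      apply Subtype.ext
      apply Subtype.ext
      exact congrArg (fun t : {g : X // (g : H) • v0 = v0} => t.1.1) hab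
  -- the count
  have hcount : (Nat.card V - 1) * (y - 1) ≤ Nat.card X * (s - 1) := by
    have : Fintype V := Fintype.ofFinite V
    have : Fintype X := Fintype.ofFinite X
    let T : Finset V := Finset.univ.filter (fun v => v ≠ 0)
    let U : Finset X := Finset.univ.filter (fun g => g ≠ 1)
    have h1 := Finset.sum_card_bipartiteAbove_eq_sum_card_bipartiteBelow
      (s := T) (t := U) (fun (v : V) (g : X) => (g : H) • v = v)
    have hTc : T.card = Nat.card V - 1 := by
      have : T = Finset.univ.erase 0 := by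
        ext v; simp [T]
      rw [this, Finset.card_erase_of_mem (Finset.mem_univ _), Finset.card_univ,
        Nat.card_eq_fintype_card]
    have hUc : U.card ≤ Nat.card X := by
      rw [Nat.card_eq_fintype_card]
      exact Finset.card_le_univ U
    have hleft : ∀ v ∈ T, (U.bipartiteAbove (fun (v : V) (g : X) => (g : H) • v = v) v).card =
        y - 1 := by
      intro v hv
      have hv0 : v ≠ 0 := (Finset.mem_filter.mp hv).2
      have h2 : U.bipartiteAbove (fun (v : V) (g : X) => (g : H) • v = v) v =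
          (Finset.univ.filter (fun g : X => (g : H) • v = v)).erase 1 := by
        ext g
        simp only [Finset.mem_bipartiteAbove, U, Finset.mem_filter, Finset.mem_univ, true_and,
          Finset.mem_erase]
      rw [h2, Finset.card_erase_of_mem (by simp), ← hyall v hv0]
      unfold stabCard
      rw [Nat.card_eq_fintype_card, Fintype.card_subtype]
    have hright : ∀ g ∈ U, (T.bipartiteBelow (fun (v : V) (g : X) => (g : H) • v = v) g).card ≤
        s - 1 := by
      intro g hg
      have hg1 : g ≠ 1 := (Finset.mem_filter.mp hg).2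
      by_cases hgA : (g : H) ∈ A
      · have : T.bipartiteBelow (fun (v : V) (g : X) => (g : H) • v = v) g = ∅ := by
          rw [Finset.eq_empty_iff_forall_notMem]
          intro v hv
          simp only [Finset.mem_bipartiteBelow, T, Finset.mem_filter, Finset.mem_univ,
            true_and] at hv
          exact hv.1 (hAfree g hgA (fun h => hg1 (Subtype.ext h)) v hv.2)
        rw [this, Finset.card_empty]
        exact Nat.zero_le _
      · have h2 : T.bipartiteBelow (fun (v : V) (g : X) => (g : H) • v = v) g =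
            (Finset.univ.filter (fun v : V => (g : H) • v = v)).erase 0 := by
          ext v
          simp only [Finset.mem_bipartiteBelow, T, Finset.mem_filter, Finset.mem_univ, true_and,
            Finset.mem_erase]
        rw [h2, Finset.card_erase_of_mem (by simp)]
        have h3 : (Finset.univ.filter (fun v : V => (g : H) • v = v)).card = fixCard V (g : H) := by
          unfold fixCard
          rw [Nat.card_eq_fintype_card, Fintype.card_subtype]
        rw [h3]
        exact Nat.sub_le_sub_right (hmax g ⟨g.2, hgA⟩) 1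
    rw [Finset.sum_congr rfl hleft, Finset.sum_const, smul_eq_mul, hTc] at h1
    rw [h1]
    calc _ ≤ ∑ _g ∈ U, (s - 1) := Finset.sum_le_sum hright
      _ = U.card * (s - 1) := by rw [Finset.sum_const, smul_eq_mul]
      _ ≤ Nat.card X * (s - 1) := Nat.mul_le_mul_right _ hUc
  exact arith hr3 (hcube x hx hxA) hry hrs hcount hXle

end Cfsg.Agent.PermutationGroups.HalfTransNoSpecial
end

-- part: PermutationGroups/HalfTransLinear
section
/-!
# Solvable linear groups of odd order transitive up to sign are semilinear of dimension one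
-/

set_option autoImplicit false

namespace Cfsg.Agent.PermutationGroups.HalfTransLinear

open Cfsg.Agent.PermutationGroups.HalfTransField
open Cfsg.Agent.PermutationGroups.HalfTransCount

variable {V : Type*} [AddCommGroup V] [Finite V] {H : Type*} [Group H] [Finite H]
  [DistribMulAction H V]

/-- Conjugation of an invariant subring, as a homomorphism into its ring automorphisms. -/
noncomputable def conjAut (E : Subring (AddMonoid.End V))
    (hnorm : ∀ h : H, ∀ x ∈ E, (tau h : AddMonoid.End V) * x * tau h⁻¹ ∈ E) : H →* RingAut E where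
  toFun h :=
    { toFun := fun x => ⟨(tau h : AddMonoid.End V) * x.1 * tau h⁻¹, hnorm h x.1 x.2⟩
      invFun := fun x => ⟨(tau h⁻¹ : AddMonoid.End V) * x.1 * tau h,
        by simpa using hnorm h⁻¹ x.1 x.2⟩
      left_inv := fun x => Subtype.ext (by
        change (tau h⁻¹ : AddMonoid.End V) * ((tau h : AddMonoid.End V) * x.1 * tau h⁻¹) * tau h = x.1
        rw [mul_assoc (tau h : AddMonoid.End V), ← mul_assoc (tau h⁻¹ : AddMonoid.End V),
          tau_inv_mul, one_mul, mul_assoc, tau_inv_mul, mul_one])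
      right_inv := fun x => Subtype.ext (by
        change (tau h : AddMonoid.End V) * ((tau h⁻¹ : AddMonoid.End V) * x.1 * tau h) * tau h⁻¹ = x.1
        rw [mul_assoc (tau h⁻¹ : AddMonoid.End V), ← mul_assoc (tau h : AddMonoid.End V),
          tau_mul_inv, one_mul, mul_assoc, tau_mul_inv, mul_one])
      map_mul' := fun x y => Subtype.ext (by
        change (tau h : AddMonoid.End V) * (x.1 * y.1) * tau h⁻¹ =
          ((tau h : AddMonoid.End V) * x.1 * tau h⁻¹) * (tau h * y.1 * tau h⁻¹)
        rw [mul_assoc (tau h * x.1) (tau h⁻¹) _, ← mul_assoc (tau h⁻¹ : AddMonoid.End V) _ (tau h⁻¹),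
          ← mul_assoc (tau h⁻¹ : AddMonoid.End V) (tau h) y.1, tau_inv_mul, one_mul]
        simp only [mul_assoc])
      map_add' := fun x y => Subtype.ext (by
        change (tau h : AddMonoid.End V) * (x.1 + y.1) * tau h⁻¹ =
          ((tau h : AddMonoid.End V) * x.1 * tau h⁻¹) + (tau h * y.1 * tau h⁻¹)
        rw [mul_add, add_mul]) }
  map_one' := RingEquiv.ext fun x => Subtype.ext (by
    change (tau (1 : H) : AddMonoid.End V) * x.1 * tau (1 : H)⁻¹ = x.1
    rw [inv_one, tau_one, one_mul, mul_one])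
  map_mul' g h := RingEquiv.ext fun x => Subtype.ext (by
    change (tau (g * h) : AddMonoid.End V) * x.1 * tau (g * h)⁻¹ =
      (tau g : AddMonoid.End V) * (tau h * x.1 * tau h⁻¹) * tau g⁻¹
    rw [mul_inv_rev, tau_mul, tau_mul]
    simp only [mul_assoc])

omit [Finite V] [Finite H] in
theorem conjAut_apply (E : Subring (AddMonoid.End V))
    (hnorm : ∀ h : H, ∀ x ∈ E, (tau h : AddMonoid.End V) * x * tau h⁻¹ ∈ E) (h : H) (x : E) :
    ((conjAut E hnorm h x : E) : AddMonoid.End V) = tau h * x.1 * tau h⁻¹ := rfl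

/-- Number of ring automorphisms of a finite field of characteristic `p`. -/
theorem card_ringAut_le (p : ℕ) [Fact p.Prime] (F : Type*) [Field F] [Finite F] [CharP F p] :
    ∃ d : ℕ, Nat.card F = p ^ d ∧ Nat.card (RingAut F) ≤ d := by
  classical
  let : Algebra (ZMod p) F := ZMod.algebra F p
  have : Module.Finite (ZMod p) F := inferInstance
  refine ⟨Module.finrank (ZMod p) F, ?_, ?_⟩
  · rw [Module.natCard_eq_pow_finrank (K := ZMod p) (V := F), Nat.card_zmod]
  · have h1 : Fintype.card (F ≃ₐ[ZMod p] F) ≤ Module.finrank (ZMod p) F := AlgEquiv.card_le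
    rw [← Nat.card_eq_fintype_card] at h1
    refine le_trans ?_ h1
    refine Nat.card_le_card_of_injective
      (fun f : RingAut F => AlgEquiv.ofRingEquiv (R := ZMod p) (f := (f : F ≃+* F)) ?_) ?_
    · intro x
      have : (f : F →+* F).comp (algebraMap (ZMod p) F) = algebraMap (ZMod p) F :=
        Subsingleton.elim _ _
      exact RingHom.congr_fun this x
    · intro f g hfg
      apply RingEquiv.ext
      intro x
      exact AlgEquiv.congr_fun hfg x

theorem exists_field (p : ℕ) [hpF : Fact p.Prime] (hpV : ∀ v : V, p • v = 0) [Nontrivial V]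
    [FaithfulSMul H V] (hsol : Group.IsSolvable H) (hodd : Odd (Nat.card H))
    (hT : ∀ v w : V, v ≠ 0 → w ≠ 0 → ∃ h : H, h • v = w ∨ h • v = -w) :
    ∃ E : Subring (AddMonoid.End V), (∀ x ∈ E, ∀ y ∈ E, x * y = y * x) ∧
      (∀ h : H, ∀ x ∈ E, (tau h : AddMonoid.End V) * x * tau h⁻¹ ∈ E) ∧
      (∀ v : V, v ≠ 0 → ∀ w : V, ∃ x ∈ E, x v = w) ∧
      (∀ x ∈ E, ∀ v : V, v ≠ 0 → x v = 0 → x = 0) := by
  classical
  have hfinE : Finite (AddMonoid.End V) := finite_end
  -- a maximal abelian normal subgroup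
  obtain ⟨A, ⟨hAn, hAc⟩, hAmax⟩ : ∃ A : Subgroup H,
      (A.Normal ∧ ∀ a ∈ A, ∀ b ∈ A, a * b = b * a) ∧
      ∀ B : Subgroup H, B.Normal → (∀ a ∈ B, ∀ b ∈ B, a * b = b * a) → A ≤ B → B = A := by
    have hfin : ({A : Subgroup H | A.Normal ∧ ∀ a ∈ A, ∀ b ∈ A, a * b = b * a}).Finite :=
      Set.toFinite _
    obtain ⟨A, hA⟩ := hfin.exists_maximal ⟨⊥, inferInstance, by
      intro a ha b hb
      rw [Subgroup.mem_bot] at ha hb
      rw [ha, hb]⟩
    refine ⟨A, hA.1, fun B h1 h2 h3 => le_antisymm (hA.2 ⟨h1, h2⟩ h3) h3⟩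
  set E : Subring (AddMonoid.End V) := ringOf A with hE
  have hEc : ∀ x ∈ E, ∀ y ∈ E, x * y = y * x := ringOf_comm A hAc
  have hEn : ∀ h : H, ∀ x ∈ E, (tau h : AddMonoid.End V) * x * tau h⁻¹ ∈ E := ringOf_conj A hAn
  have hEd : ∀ x ∈ E, ∀ v : V, v ≠ 0 → x v = 0 → x = 0 := fun x hx v hv hxv =>
    eq_zero_of_apply_eq_zero E hT hEc hEn hx hv hxv
  refine ⟨E, hEc, hEn, ?_, hEd⟩
  obtain ⟨v0, hv0⟩ := exists_ne (0 : V)
  -- field structure
  have hEfin : Finite E := inferInstance
  have hEnt : Nontrivial E := ⟨⟨0, 1, fun h => by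
    have h1 : (0 : AddMonoid.End V) = 1 := congrArg Subtype.val h
    apply hv0
    have h2 : (0 : AddMonoid.End V) v0 = (1 : AddMonoid.End V) v0 := by rw [h1]
    exact h2.symm⟩⟩
  let : CommRing E := { (inferInstance : Ring E) with
    mul_comm := fun x y => Subtype.ext (hEc x.1 x.2 y.1 y.2) }
  have hEdom : IsDomain E := by
    have : NoZeroDivisors E := ⟨by
      intro x y hxy
      by_contra hcon
      push Not at hcon
      obtain ⟨hx, hy⟩ := hcon
      have hyv : y.1 v0 ≠ 0 := fun h => hy (Subtype.ext (hEd y.1 y.2 v0 hv0 h))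
      apply hx
      apply Subtype.ext
      apply hEd x.1 x.2 _ hyv
      have h1 : x.1 * y.1 = 0 := congrArg Subtype.val hxy
      have h2 : (x.1 * y.1) v0 = (0 : AddMonoid.End V) v0 := by rw [h1]
      exact h2⟩
    exact NoZeroDivisors.to_isDomain E
  have hEfield : IsField E := Finite.isField_of_domain E
  let : Field E := hEfield.toField
  have hEp : CharP E p := by
    rw [CharP.charP_iff_prime_eq_zero hpF.out]
    apply Subtype.ext
    apply hEd _ (p : E).2 v0 hv0
    have : ((p : E) : AddMonoid.End V) = (p : AddMonoid.End V) := by push_cast; rfl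
    rw [this]
    have h2 : (p : AddMonoid.End V) v0 = p • v0 := rfl
    rw [h2, hpV]
  -- `A` embeds into `E`
  have htauinj : Function.Injective (fun h : H => (tau h : AddMonoid.End V)) := by
    intro g h hgh
    apply (‹FaithfulSMul H V›).eq_of_smul_eq_smul (α := V)
    intro v
    exact DFunLike.congr_fun hgh v
  let fA : A →* E :=
    { toFun := fun a => ⟨tau a.1, tau_mem_ringOf A a.2⟩
      map_one' := Subtype.ext (tau_one)
      map_mul' := fun a b => Subtype.ext (tau_mul a.1 b.1) }
  have hfA : Function.Injective fA := by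
    intro a b hab
    exact Subtype.ext (htauinj (congrArg Subtype.val hab))
  have hAcyc : IsCyclic A := isCyclic_of_injective_ringHom fA hfA
  have hAfree : ∀ a ∈ A, a ≠ 1 → ∀ v : V, a • v = v → v = 0 := by
    intro a ha ha1 v hav
    by_contra hv
    apply ha1
    apply htauinj
    change (tau a : AddMonoid.End V) = tau 1
    rw [tau_one, ← sub_eq_zero]
    apply hEd _ (E.sub_mem (tau_mem_ringOf A ha) E.one_mem) v hv
    change a • v - v = 0
    rw [hav, sub_self]
  -- self-centralising
  have hC : Subgroup.centralizer (A : Set H) ≤ A := by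
    by_contra hC
    obtain ⟨r, X, hr, hr2, hXn, hXr, hXA, hXc, hne, hcen⟩ :=
      HalfTransSpecial.exists_special hsol hodd A hAc hAmax hAcyc hC
    refine HalfTransNoSpecial.no_special hT A X hAc hAfree hAcyc hXn hr hr2 ?_ hXr hXA hXc hne hcen
    intro v hv
    by_contra hv0'
    -- then `r = p`, and an element of order `r` of `A` would be unipotent
    have hrp : r = p := by
      by_contra hrp
      have hcop : Nat.Coprime r p := (Nat.coprime_primes hr hpF.out).mpr hrp
      have h1 : (Nat.gcd r p) • v = 0 := by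
        have h2 : ((Nat.gcd r p : ℕ) : ℤ) • v = 0 := by
          rw [Nat.gcd_eq_gcd_ab, add_smul, mul_comm, mul_smul, mul_comm, mul_smul]
          rw [natCast_zsmul, natCast_zsmul, hv, hpV]; simp
        rwa [natCast_zsmul] at h2
      rw [hcop, one_smul] at h1
      exact hv0' h1
    obtain ⟨x, hx, hxA⟩ := hne
    obtain ⟨y, hy, hxy⟩ := hcen x hx hxA
    have hcA := hXc x hx y hy
    have hcr : (x * y * x⁻¹ * y⁻¹) ^ r = 1 :=
      hXr _ (X.mul_mem (X.mul_mem (X.mul_mem hx hy) (X.inv_mem hx)) (X.inv_mem hy))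
    have hc1 : x * y * x⁻¹ * y⁻¹ ≠ 1 := by
      intro h
      rw [mul_inv_eq_one, mul_inv_eq_iff_eq_mul] at h
      exact hxy h
    set c : A := ⟨x * y * x⁻¹ * y⁻¹, hcA⟩ with hc
    have h3 : fA c ^ p = 1 := by
      rw [← map_pow, show c ^ p = 1 from Subtype.ext (hrp ▸ hcr), map_one]
    have h4 : (fA c - 1) ^ p = 0 := by
      rw [sub_pow_char, h3, one_pow, sub_self]
    have h5 : fA c - 1 = 0 := pow_eq_zero_iff (hpF.out.ne_zero) |>.mp h4
    have h6 : fA c = fA 1 := by rw [map_one]; exact sub_eq_zero.mp h5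
    exact hc1 (congrArg Subtype.val (hfA h6))
  -- the bound for `H`
  obtain ⟨d, hd, haut⟩ := card_ringAut_le p E
  let c : H →* RingAut E := conjAut E hEn
  have hker : c.ker ≤ A := by
    intro h hh
    apply hC
    rw [Subgroup.mem_centralizer_iff]
    intro a ha
    rw [MonoidHom.mem_ker] at hh
    have h1 : c h (fA ⟨a, ha⟩) = fA ⟨a, ha⟩ := by rw [hh]; rfl
    have h2 : (tau h : AddMonoid.End V) * tau a * tau h⁻¹ = tau a := congrArg Subtype.val h1
    rw [← tau_mul, ← tau_mul] at h2
    have h3 := htauinj h2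
    rw [mul_inv_eq_iff_eq_mul] at h3
    exact h3.symm
  have hHcard : Nat.card H ≤ d * Nat.card A := by
    have hfa : Finite (RingAut E) :=
      Finite.of_injective (fun f : RingAut E => (f : E → E)) DFunLike.coe_injective
    rw [← Subgroup.card_mul_index c.ker, Subgroup.index_ker, mul_comm]
    apply Nat.mul_le_mul
    · exact (Subgroup.card_le_card_group c.range).trans haut
    · exact Nat.card_le_card_of_injective (Subgroup.inclusion hker) (Subgroup.inclusion_injective hker)
  have hAcard : Nat.card A + 1 ≤ Nat.card E := by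
    have hfA0 : ∀ a : A, fA a ≠ 0 := by
      intro a h
      have h2 : fA a * fA a⁻¹ = 1 := by rw [← map_mul, mul_inv_cancel, map_one]
      rw [h, zero_mul] at h2
      exact zero_ne_one h2
    let f : Option A → E := fun o => match o with
      | none => 0
      | some a => fA a
    have hf : Function.Injective f := by
      intro o o' hoo
      rcases o with _ | a <;> rcases o' with _ | b
      · rfl
      · exact absurd hoo.symm (hfA0 b)
      · exact absurd hoo (hfA0 a)
      · exact congrArg some (hfA hoo)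
    have := Nat.card_le_card_of_injective f hf
    rwa [Finite.card_option] at this
  have hVcard : Nat.card V ≤ 2 * Nat.card H + 1 := by
    let f : Option (H × Bool) → V := fun o => match o with
      | none => 0
      | some (h, true) => h • v0
      | some (h, false) => -(h • v0)
    have hf : Function.Surjective f := by
      intro w
      by_cases hw : w = 0
      · exact ⟨none, hw.symm⟩
      · obtain ⟨h, hh | hh⟩ := hT v0 w hv0 hw
        · exact ⟨some (h, true), hh⟩
        · refine ⟨some (h, false), ?_⟩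
          change -(h • v0) = w
          rw [hh, neg_neg]
    have := Nat.card_le_card_of_surjective f hf
    rw [Finite.card_option, Nat.card_prod] at this
    simpa [mul_comm] using this
  have hVE : ∃ m : ℕ, Nat.card V = Nat.card E ^ m := by
    let : Module E V :=
      { smul := fun x v => x.1 v
        one_smul := fun v => rfl
        mul_smul := fun x y v => rfl
        smul_zero := fun x => map_zero x.1
        smul_add := fun x v w => map_add x.1 v w
        add_smul := fun x y v => rfl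
        zero_smul := fun v => rfl }
    have : Module.Finite E V := inferInstance
    exact ⟨_, Module.natCard_eq_pow_finrank (K := E) (V := V)⟩
  obtain ⟨m, hm⟩ := hVE
  have hm1 : m = 1 := by
    have hE2 : 2 ≤ Nat.card E := Finite.one_lt_card
    have hV2 : 2 ≤ Nat.card V := Finite.one_lt_card
    rcases Nat.lt_or_ge m 2 with h | h
    · interval_cases m
      · rw [hm, pow_zero] at hV2; omega
      · rfl
    · exfalso
      have h1 : Nat.card E ^ 2 ≤ Nat.card V := by
        rw [hm]; exact Nat.pow_le_pow_right (by omega) h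
      have h2 : 2 * d ≤ Nat.card E := by
        rw [hd]
        have h3 : 2 ^ d ≤ p ^ d := Nat.pow_le_pow_left hpF.out.two_le d
        have h4 : ∀ n : ℕ, 1 ≤ n → 2 * n ≤ 2 ^ n := by
          intro n hn
          induction n, hn using Nat.le_induction with
          | base => norm_num
          | succ n hn ih => rw [pow_succ]; omega
        rcases Nat.eq_zero_or_pos d with h5 | h5
        · rw [h5]; positivity
        · exact (h4 d h5).trans h3
      obtain ⟨e, he⟩ : ∃ e, Nat.card E = e + 1 := ⟨Nat.card E - 1, by omega⟩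
      rw [he] at hAcard h1 h2 hE2
      have h6 : Nat.card A ≤ e := by omega
      have h7 : d * Nat.card A ≤ d * e := Nat.mul_le_mul_left _ h6
      have h8 : 2 * (d * e) ≤ (e + 1) * e := by nlinarith
      have h9 : (e + 1) ^ 2 ≤ (e + 1) * e + 1 := by
        calc (e + 1) ^ 2 ≤ Nat.card V := h1
          _ ≤ 2 * Nat.card H + 1 := hVcard
          _ ≤ 2 * (d * Nat.card A) + 1 := by omega
          _ ≤ (e + 1) * e + 1 := by omega
      nlinarith
  rw [hm1, pow_one] at hm
  intro v hv w
  have hinj : Function.Injective (fun x : E => x.1 v) := by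
    intro x y hxy
    apply Subtype.ext
    rw [← sub_eq_zero]
    apply hEd _ (E.sub_mem x.2 y.2) v hv
    change x.1 v - y.1 v = 0
    exact sub_eq_zero.mpr hxy
  have hbij := (Nat.bijective_iff_injective_and_card (fun x : E => x.1 v)).mpr ⟨hinj, hm.symm⟩
  obtain ⟨x, hx⟩ := hbij.2 w
  exact ⟨x.1, x.2, hx⟩

end Cfsg.Agent.PermutationGroups.HalfTransLinear
end
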