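import Mathlib
import Cfsg.Prelude.Def_LieExceptional
import Cfsg.Prelude.Def_Solvable
set_option linter.all false

set_option autoImplicit false

open scoped Pointwise

namespace Cfsg.Agent.PermutationGroups.ZassenhausBasic

variable {G Ω : Type*} [Group G] [MulAction G Ω]

/-- double transitivity of a Zassenhaus group in pointwise form -/
theorem exists_smul_eq (hZ : Cfsg.IsZassenhausGroup G Ω) {a b c d : Ω} (hab : a ≠ b)
    (hcd : c ≠ d) : ∃ g : G, g • a = c ∧ g • b = d :=
  (MulAction.is_two_pretransitive_iff).mp hZ.2.1 hab hcd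

/-- an element fixing three points is trivial -/
theorem eq_one_of_fix (hZ : Cfsg.IsZassenhausGroup G Ω) {a b c : Ω} (hab : a ≠ b) (hbc : b ≠ c)
    (hac : a ≠ c) {g : G} (ha : g • a = a) (hb : g • b = b) (hc : g • c = c) : g = 1 :=
  hZ.2.2.1 g a b c hab hbc hac ha hb hc

/-- a nontrivial element of the two-point stabiliser fixes only those two points -/
theorem eq_or_eq_of_fix (hZ : Cfsg.IsZassenhausGroup G Ω) {a b : Ω} (hab : a ≠ b) {g : G}
    (hg : g ≠ 1) (ha : g • a = a) (hb : g • b = b) {c : Ω} (hc : g • c = c) : c = a ∨ c = b := by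
  by_contra h
  push Not at h
  exact hg (eq_one_of_fix hZ hab (Ne.symm h.2) (Ne.symm h.1) ha hb hc)

/-- every two-point stabiliser is nontrivial -/
theorem exists_ne_one (hZ : Cfsg.IsZassenhausGroup G Ω) {a b : Ω} (hab : a ≠ b) :
    ∃ g : G, g ≠ 1 ∧ g • a = a ∧ g • b = b := by
  obtain ⟨g, hg, c, d, hcd, hgc, hgd⟩ := hZ.2.2.2.1
  obtain ⟨x, hxa, hxb⟩ := exists_smul_eq hZ hab hcd
  refine ⟨x⁻¹ * g * x, ?_, ?_, ?_⟩
  · intro h
    apply hg
    have : g = x * (x⁻¹ * g * x) * x⁻¹ := by group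
    rw [this, h]; group
  · rw [mul_smul, mul_smul, hxa, hgc, inv_smul_eq_iff, hxa]
  · rw [mul_smul, mul_smul, hxb, hgd, inv_smul_eq_iff, hxb]

theorem two_point_ne_bot (hZ : Cfsg.IsZassenhausGroup G Ω) {a b : Ω} (hab : a ≠ b) :
    MulAction.stabilizer G a ⊓ MulAction.stabilizer G b ≠ ⊥ := by
  obtain ⟨g, hg, ha, hb⟩ := exists_ne_one hZ hab
  intro h
  have : g ∈ MulAction.stabilizer G a ⊓ MulAction.stabilizer G b := ⟨ha, hb⟩
  rw [h, Subgroup.mem_bot] at this
  exact hg this

/-- there is a third point -/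
theorem exists_third (hZ : Cfsg.IsZassenhausGroup G Ω) {a b : Ω} (hab : a ≠ b) :
    ∃ c : Ω, c ≠ a ∧ c ≠ b := by
  obtain ⟨g, hg, ha, hb⟩ := exists_ne_one hZ hab
  have := hZ.1
  by_contra h
  push Not at h
  apply hg
  apply FaithfulSMul.eq_of_smul_eq_smul (α := Ω)
  intro c
  rw [one_smul]
  by_cases hc : c = a
  · rw [hc, ha]
  · rw [h c hc, hb]

/-- some element interchanges `a` and `b` -/
theorem exists_swap (hZ : Cfsg.IsZassenhausGroup G Ω) {a b : Ω} (hab : a ≠ b) :
    ∃ g : G, g • a = b ∧ g • b = a :=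
  exists_smul_eq hZ hab (Ne.symm hab)

/-- An element normalising a nontrivial subgroup `K` of the two-point stabiliser `G_{a,b}`
preserves `{a, b}`. -/
theorem normalizer_cases (hZ : Cfsg.IsZassenhausGroup G Ω) {a b : Ω} (hab : a ≠ b)
    {K : Subgroup G} (hK : K ≤ MulAction.stabilizer G a ⊓ MulAction.stabilizer G b)
    (hK1 : K ≠ ⊥) {g : G} (hg : g ∈ Subgroup.normalizer (K : Set G)) :
    (g • a = a ∧ g • b = b) ∨ (g • a = b ∧ g • b = a) := by
  obtain ⟨k, hk, hk1⟩ := (Subgroup.bot_or_exists_ne_one K).resolve_left hK1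
  -- `g⁻¹ k g ∈ K`
  have hk' : g⁻¹ * k * g ∈ K := by
    have := (Subgroup.mem_normalizer_iff.mp (Subgroup.inv_mem _ hg) k).mp hk
    simpa using this
  have hfix : ∀ c : Ω, (g⁻¹ * k * g) • c = c → k • (g • c) = g • c := by
    intro c hc
    rw [mul_smul, mul_smul, inv_smul_eq_iff] at hc
    exact hc
  have ha' := hfix a (hK hk').1
  have hb' := hfix b (hK hk').2
  have hka : k • a = a := (hK hk).1
  have hkb : k • b = b := (hK hk).2
  have h1 := eq_or_eq_of_fix hZ hab hk1 hka hkb ha'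
  have h2 := eq_or_eq_of_fix hZ hab hk1 hka hkb hb'
  have hne : g • a ≠ g • b := fun h => hab (smul_left_cancel g h)
  rcases h1 with h1 | h1 <;> rcases h2 with h2 | h2
  · exact absurd (h1.trans h2.symm) hne
  · exact Or.inl ⟨h1, h2⟩
  · exact Or.inr ⟨h1, h2⟩
  · exact absurd (h1.trans h2.symm) hne

/-- a swapping element normalises the two-point stabiliser -/
theorem swap_mem_normalizer {a b : Ω} {s : G} (ha : s • a = b) (hb : s • b = a) :
    s ∈ Subgroup.normalizer
      ((MulAction.stabilizer G a ⊓ MulAction.stabilizer G b : Subgroup G) : Set G) := by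
  rw [Subgroup.mem_normalizer_iff]
  intro h
  have ha' : s⁻¹ • b = a := by rw [inv_smul_eq_iff, ha]
  have hb' : s⁻¹ • a = b := by rw [inv_smul_eq_iff, hb]
  simp only [Subgroup.mem_inf, MulAction.mem_stabilizer_iff, mul_smul, ha', hb']
  constructor
  · rintro ⟨h1, h2⟩
    rw [h1, h2]; exact ⟨hb, ha⟩
  · rintro ⟨h1, h2⟩
    have h1' : s • h • b = s • b := by rw [h1, hb]
    have h2' : s • h • a = s • a := by rw [h2, ha]
    exact ⟨smul_left_cancel s h2', smul_left_cancel s h1'⟩

/-- The stabiliser of `a` and `b` is a Frobenius complement in the stabiliser of `a`. -/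
theorem isFrobeniusComplement (hZ : Cfsg.IsZassenhausGroup G Ω) {a b : Ω} (hab : a ≠ b) :
    Cfsg.IsFrobeniusComplement
      ((MulAction.stabilizer G a ⊓ MulAction.stabilizer G b).subgroupOf
        (MulAction.stabilizer G a)) := by
  refine ⟨?_, ?_, ?_⟩
  · intro h
    obtain ⟨g, hg, ha, hb⟩ := exists_ne_one hZ hab
    have : (⟨g, ha⟩ : MulAction.stabilizer G a) ∈
        ((MulAction.stabilizer G a ⊓ MulAction.stabilizer G b).subgroupOf
        (MulAction.stabilizer G a)) := by
      rw [Subgroup.mem_subgroupOf]; exact ⟨ha, hb⟩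
    rw [h, Subgroup.mem_bot] at this
    exact hg (congrArg Subtype.val this)
  · intro h
    obtain ⟨c, hca, hcb⟩ := exists_third hZ hab
    obtain ⟨g, hga, hgb⟩ := exists_smul_eq hZ hab (Ne.symm hca)
    have : (⟨g, hga⟩ : MulAction.stabilizer G a) ∈
        ((MulAction.stabilizer G a ⊓ MulAction.stabilizer G b).subgroupOf
        (MulAction.stabilizer G a)) := by
      rw [h]; exact Subgroup.mem_top _
    rw [Subgroup.mem_subgroupOf] at this
    exact hcb (hgb.symm.trans this.2)
  · rintro ⟨g, hga⟩ hg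
    rw [Subgroup.mem_subgroupOf] at hg
    rw [eq_bot_iff]
    rintro ⟨x, hx⟩ ⟨hx1, hx2⟩
    rw [Subgroup.mem_bot]
    have hx1' : x ∈ MulAction.stabilizer G a ⊓ MulAction.stabilizer G b := hx1
    obtain ⟨⟨y, hy⟩, hy1, hy2⟩ := Subgroup.mem_smul_pointwise_iff_exists _ _ _ |>.mp hx2
    have hy1' : y ∈ MulAction.stabilizer G a ⊓ MulAction.stabilizer G b := hy1
    have hxy : g * y * g⁻¹ = x := by
      have := congrArg Subtype.val hy2
      simpa using this
    apply Subtype.ext
    change x = 1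
    by_contra hx0
    have h1 : x • (g • b) = g • b := by
      rw [← hxy, mul_smul, mul_smul, inv_smul_smul, hy1'.2]
    rcases eq_or_eq_of_fix hZ hab hx0 hx1'.1 hx1'.2 h1 with h2 | h2
    · have h3 : g • b = g • a := by rw [h2]; exact (MulAction.mem_stabilizer_iff.mp hga).symm
      exact hab (smul_left_cancel g h3).symm
    · exact hg ⟨hga, h2⟩

end Cfsg.Agent.PermutationGroups.ZassenhausBasic
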