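import Mathlib
import Cfsg.Prelude.Def_Characters
import Cfsg.Agent.Characters.Core
import Cfsg.Agent.CharactersDeep.NormalInd
import Cfsg.Agent.S0133
import Cfsg.Agent.S0134
import Cfsg.Agent.S0135
import Cfsg.Agent.S0136
import Cfsg.Agent.S0145
import Cfsg.Agent.S0170
import Cfsg.Agent.S0171
import Cfsg.Agent.S0187
set_option linter.all false

/-!
# Degrees of irreducible characters and abelian T.I. subgroups

Let `F` be an abelian T.I. subgroup of the finite group `G` whose normaliser `N` is a Frobenius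
group with kernel `F` and abelian complement. If there are two non-conjugate elements of `G` which
are not conjugate into `N`, and the non-principal linear characters of `N/F` induce irreducible
characters of `G`, and `1_N^G` is `1` plus an irreducible character, then `|F| - 1` divides the
degree of some irreducible character of `G`, hence the order of `G`.
-/

set_option autoImplicit false

namespace Cfsg.Agent.PermutationGroups.ExceptionalDegree

open Cfsg Cfsg.Agent.Characters.Core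
open scoped ComplexConjugate

section comm

variable {A : Type*} [Group A] [Finite A]

theorem irr_one_of_comm (hA : ∀ a b : A, a * b = b * a) {χ : A → ℂ} (hχ : IsIrrCharacter A χ) :
    χ 1 = 1 :=
  (Cfsg.Agent.S0187.result.1 hA) ⟨χ, hχ⟩

theorem card_irr_of_comm (hA : ∀ a b : A, a * b = b * a) :
    Nat.card (IrrCharacter A) = Nat.card A := by
  classical
  have := finite_irr (G := A)
  have := Fintype.ofFinite (IrrCharacter A)
  have h := Cfsg.Agent.S0134.result (G := A)
  rw [finsum_eq_sum_of_fintype] at h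
  rw [Finset.sum_congr rfl (fun χ _ => by rw [irr_one_of_comm hA χ.2, one_pow])] at h
  rw [Finset.sum_const, Finset.card_univ, nsmul_eq_mul, mul_one, ← Nat.card_eq_fintype_card] at h
  exact_mod_cast h

end comm

variable {G : Type*} [Group G] [Fintype G]

theorem indFun_eq_zero_of_no_conj (B : Subgroup G) (θ : B → ℂ) {g : G}
    (hg : ∀ y : G, y⁻¹ * g * y ∉ B) : indFun B θ g = 0 := by
  rw [indFun_apply, Finset.sum_eq_zero, mul_zero]
  intro y _
  exact extendByZero_of_notMem B θ (hg y)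

theorem irr_degree_dvd {χ : G → ℂ} (hχ : IsIrrCharacter G χ) {n : ℕ} (hn : χ 1 = n) :
    n ∣ Nat.card G := by
  obtain ⟨k, ρ, hρ, rfl⟩ := hχ
  have := hρ
  have h1 := Cfsg.Agent.S0135.result ρ
  rw [Representation.char_one] at hn
  have h2 : Module.finrank ℂ (Fin k → ℂ) = n := by exact_mod_cast hn
  rwa [h2] at h1

theorem exceptional_family (F B : Subgroup G) (hB : Subgroup.normalizer (F : Set G) = B)
    (hTI : ∀ g : G, g ∉ B → ∀ u ∈ F, g * u * g⁻¹ ∈ F → u = 1) (n : ℕ) (hn : 2 ≤ n)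
    (χ : Fin n → (B → ℂ)) (hirr : ∀ i, IsIrrCharacter B (χ i)) (hinj : Function.Injective χ)
    (hvan : ∀ i, ∀ x : B, (x : G) ∉ F → χ i x = 0) (hdeg : ∀ i j, χ i 1 = χ j 1) :
    ∃ ε : ℂ, (ε = 1 ∨ ε = -1) ∧ ∃ θ : Fin n → (G → ℂ), (∀ i, IsIrrCharacter G (θ i)) ∧
      Function.Injective θ ∧ ∀ i j, indFun B (χ i) - indFun B (χ j) = ε • (θ i - θ j) := by
  subst hB
  exact Cfsg.Agent.S0170.result (F : Set G) (fun u hu => Subgroup.le_normalizer hu) hTI n hn χ hirr
    hinj hvan hdeg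

/-- The exceptional characters attached to an abelian T.I. subgroup with Frobenius normaliser. -/
theorem exists_exceptional (F B : Subgroup G) (hB : Subgroup.normalizer (F : Set G) = B)
    (hTI : ∀ g : G, g ∉ B → ∀ u ∈ F, g * u * g⁻¹ ∈ F → u = 1)
    (hab : ∀ u ∈ F, ∀ v ∈ F, u * v = v * u)
    (K H : Subgroup B) (hK : ∀ x : B, x ∈ K ↔ (x : G) ∈ F) (hKH : K ⊓ H = ⊥) (hKH' : K ⊔ H = ⊤)
    (hfpf : ∀ h ∈ H, h ≠ 1 → ∀ k ∈ K, h * k = k * h → k = 1)
    [Fintype K] :
    ∃ X : Set (G → ℂ), (∀ χ ∈ X, IsIrrCharacter G χ) ∧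
      (∀ χ ∈ X, ∀ χ' ∈ X, ∀ g : G, (∀ y : G, y⁻¹ * g * y ∉ B) → χ g = χ' g) ∧
      (∀ η : G → ℂ, IsIrrCharacter G η → η ∉ X → ∀ τ₁ τ₂ : K → ℂ,
        IsIrrCharacter _ τ₁ → IsIrrCharacter _ τ₂ → τ₁ ≠ (fun _ => 1) → τ₂ ≠ (fun _ => 1) →
        classInner τ₁ (fun u => η ((u : B) : G)) = classInner τ₂ (fun u => η ((u : B) : G))) := by
  classical
  have hKn : K.Normal := by
    refine ⟨fun x hx g => ?_⟩
    rw [hK] at hx ⊢
    have h1 : (g : G) ∈ Subgroup.normalizer (F : Set G) := by rw [hB]; exact g.2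
    have := (Subgroup.mem_normalizer_iff.1 h1 (x : G)).1 hx
    simpa using this
  have hKab : ∀ a b : K, a * b = b * a := by
    intro a b
    apply Subtype.ext
    apply Subtype.ext
    exact hab _ ((hK _).1 a.2) _ ((hK _).1 b.2)
  -- the induced characters
  have hirr : ∀ τ : K → ℂ, IsIrrCharacter K τ → τ ≠ (fun _ => 1) →
      IsIrrCharacter B (indFun K τ) := fun τ hτ hτ1 =>
    Cfsg.Agent.S0171.result K H hKH hKH' hfpf τ hτ hτ1
  have hrecip : ∀ (τ : K → ℂ) (η : G → ℂ), IsClassFunction G η →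
      classInner τ (fun u => η ((u : B) : G)) = classInner (indFun B (indFun K τ)) η := by
    intro τ η hη
    have h1 : IsClassFunction B (fun b : B => η b) := fun g h => hη g h
    rw [Cfsg.Agent.CharactersDeep.NormalInd.classInner_indFun B (indFun K τ) η hη,
      Cfsg.Agent.CharactersDeep.NormalInd.classInner_indFun K τ _ h1]
  set R : Set (B → ℂ) := {ξ | ∃ τ : K → ℂ, IsIrrCharacter K τ ∧ τ ≠ (fun _ => 1) ∧ ξ = indFun K τ}
    with hR
  have hRirr : ∀ ξ ∈ R, IsIrrCharacter B ξ := by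
    rintro ξ ⟨τ, hτ, hτ1, rfl⟩
    exact hirr τ hτ hτ1
  have hRfin : R.Finite := by
    have := finite_irr (G := B)
    refine Set.Finite.subset (Set.finite_range (fun χ : IrrCharacter B => (χ : B → ℂ))) ?_
    intro ξ hξ
    exact ⟨⟨ξ, hRirr ξ hξ⟩, rfl⟩
  have hRfin' := hRfin.fintype
  by_cases hcard : Fintype.card R < 2
  · refine ⟨∅, by simp, by simp, ?_⟩
    intro η hη _ τ₁ τ₂ h1 h2 h1' h2'
    have hs : Subsingleton R := by
      rw [← Fintype.card_le_one_iff_subsingleton]; omega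
    have hηc := isIrr_isClassFunction hη
    rw [hrecip τ₁ η hηc, hrecip τ₂ η hηc]
    have : (⟨indFun K τ₁, τ₁, h1, h1', rfl⟩ : R) = ⟨indFun K τ₂, τ₂, h2, h2', rfl⟩ :=
      Subsingleton.elim _ _
    rw [Subtype.ext_iff] at this
    rw [show indFun K τ₁ = indFun K τ₂ from this]
  · push Not at hcard
    let e := (Fintype.equivFin R).symm
    obtain ⟨ε, hε, θ, hθirr, hθinj, hθ⟩ := exceptional_family F B hB hTI
      (Fintype.card R) hcard (fun i => (e i : B → ℂ))
      (fun i => hRirr _ (e i).2) (fun i j hij => e.injective (Subtype.ext hij))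
      (by
        intro i x hx
        obtain ⟨τ, -, -, hτ⟩ := (e i).2
        rw [hτ]
        exact Cfsg.Agent.CharactersDeep.NormalInd.indFun_of_not_mem K τ
          (fun h => hx ((hK x).1 h)))
      (by
        intro i j
        obtain ⟨τ, h1, -, hτ⟩ := (e i).2
        obtain ⟨τ', h1', -, hτ'⟩ := (e j).2
        rw [hτ, hτ', Cfsg.Agent.CharactersDeep.NormalInd.indFun_one,
          Cfsg.Agent.CharactersDeep.NormalInd.indFun_one, irr_one_of_comm hKab h1,
          irr_one_of_comm hKab h1'])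
    have hε0 : ε ≠ 0 := by rcases hε with rfl | rfl <;> norm_num
    refine ⟨Set.range θ, ?_, ?_, ?_⟩
    · rintro _ ⟨i, rfl⟩
      exact hθirr i
    · rintro _ ⟨i, rfl⟩ _ ⟨j, rfl⟩ g hg
      have h := congrFun (hθ i j) g
      rw [Pi.sub_apply, indFun_eq_zero_of_no_conj _ _ hg, indFun_eq_zero_of_no_conj _ _ hg,
        Pi.smul_apply, Pi.sub_apply, sub_zero, smul_eq_mul] at h
      rcases mul_eq_zero.1 h.symm with h | h
      · exact absurd h hε0
      · exact sub_eq_zero.1 h
    · intro η hη hηX τ₁ τ₂ h1 h2 h1' h2'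
      have hηc := isIrr_isClassFunction hη
      rw [hrecip τ₁ η hηc, hrecip τ₂ η hηc, ← sub_eq_zero, ← classInner_sub_left]
      obtain ⟨i, hi⟩ := e.surjective ⟨indFun K τ₁, τ₁, h1, h1', rfl⟩
      obtain ⟨j, hj⟩ := e.surjective ⟨indFun K τ₂, τ₂, h2, h2', rfl⟩
      have hi' : (e i : B → ℂ) = indFun K τ₁ := by rw [hi]
      have hj' : (e j : B → ℂ) = indFun K τ₂ := by rw [hj]
      have h := hθ i j
      simp only [hi', hj'] at h
      rw [h, classInner_smul_left, classInner_sub_left,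
        classInner_irr_ne (hθirr i) hη (fun h => hηX ⟨i, h⟩),
        classInner_irr_ne (hθirr j) hη (fun h => hηX ⟨j, h⟩), sub_zero, mul_zero]

theorem exists_separating (X : Set (G → ℂ)) (x y : G)
    (hx1 : x ≠ 1) (hy1 : y ≠ 1) (hxy : ¬ IsConj x y)
    (hXx : ∀ χ ∈ X, ∀ χ' ∈ X, χ x = χ' x) (hXy : ∀ χ ∈ X, ∀ χ' ∈ X, χ y = χ' y) :
    ∃ η : G → ℂ, IsIrrCharacter G η ∧ η ∉ X ∧ η x ≠ η y := by
  classical
  have := finite_irr (G := G)
  have := Fintype.ofFinite (IrrCharacter G)
  by_contra hcon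
  push Not at hcon
  apply hxy
  rw [Cfsg.Agent.S0136.result]
  have hcol : ∀ z : G, z ≠ 1 → ∑ χ : IrrCharacter G, (χ : G → ℂ) z * conj ((χ : G → ℂ) 1) = 0 := by
    intro z hz
    have h := (Cfsg.Agent.S0145.result z 1).2 (fun h => hz (isConj_one_left.1 h))
    rwa [finsum_eq_sum_of_fintype] at h
  have hsub : ∑ χ : IrrCharacter G, ((χ : G → ℂ) x - (χ : G → ℂ) y) * conj ((χ : G → ℂ) 1) = 0 := by
    simp only [sub_mul, Finset.sum_sub_distrib]
    rw [hcol x hx1, hcol y hy1, sub_zero]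
  choose n hn0 hn using fun χ : IrrCharacter G => isIrr_apply_one χ.2
  intro χ
  by_cases hχ : (χ : G → ℂ) ∈ X
  · have h1 : ∀ ψ : IrrCharacter G, ((ψ : G → ℂ) x - (ψ : G → ℂ) y) * conj ((ψ : G → ℂ) 1) =
        ((χ : G → ℂ) x - (χ : G → ℂ) y) * ((if (ψ : G → ℂ) ∈ X then n ψ else 0 : ℕ) : ℂ) := by
      intro ψ
      split_ifs with hψ
      · rw [hXx ψ hψ χ hχ, hXy ψ hψ χ hχ, hn]
        simp
      · rw [hcon ψ ψ.2 hψ]
        simp
    rw [Finset.sum_congr rfl (fun ψ _ => h1 ψ), ← Finset.mul_sum, ← Nat.cast_sum] at hsub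
    rcases mul_eq_zero.1 hsub with h | h
    · exact sub_eq_zero.1 h
    · exfalso
      rw [Nat.cast_eq_zero, Finset.sum_eq_zero_iff] at h
      have := h χ (Finset.mem_univ _)
      rw [if_pos hχ] at this
      exact (hn0 χ).ne' this
  · exact hcon χ χ.2 hχ

/-- The sum of the linear characters of an abelian quotient. -/
theorem indFun_one_eq_sum {B : Type*} [Group B] [Fintype B] (K : Subgroup B) [K.Normal]
    (hq : ∀ a b : B ⧸ K, a * b = b * a) [Fintype (IrrCharacter (B ⧸ K))] :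
    indFun K (fun _ => (1 : ℂ)) =
      ∑ q : IrrCharacter (B ⧸ K), (fun b : B => (q : B ⧸ K → ℂ) (b : B ⧸ K)) := by
  classical
  have hsum : ∀ z : B ⧸ K, ∑ q : IrrCharacter (B ⧸ K), (q : B ⧸ K → ℂ) z =
      if z = 1 then (Nat.card (B ⧸ K) : ℂ) else 0 := by
    intro z
    have h1 : ∀ q : IrrCharacter (B ⧸ K), (q : B ⧸ K → ℂ) z =
        (q : B ⧸ K → ℂ) z * conj ((q : B ⧸ K → ℂ) 1) := by
      intro q
      rw [irr_one_of_comm hq q.2]
      simp
    rw [Finset.sum_congr rfl (fun q _ => h1 q), ← finsum_eq_sum_of_fintype]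
    split_ifs with hz
    · subst hz
      rw [(Cfsg.Agent.S0145.result (1 : B ⧸ K) 1).1 (IsConj.refl 1)]
      congr 1
      rw [Subgroup.centralizer_eq_top_iff_subset.2 (by
        rintro _ rfl
        exact one_mem _)]
      exact Nat.card_congr (Subgroup.topEquiv).toEquiv
    · exact (Cfsg.Agent.S0145.result z 1).2 (fun h => hz (isConj_one_left.1 h))
  ext b
  rw [Finset.sum_apply, hsum]
  by_cases hb : b ∈ K
  · rw [if_pos ((QuotientGroup.eq_one_iff b).2 hb)]
    have h := Cfsg.Agent.CharactersDeep.NormalInd.indFun_of_invariant K (fun _ => (1 : ℂ))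
      (fun _ _ => rfl) ⟨b, hb⟩
    rw [h, mul_one, Subgroup.index_eq_card]
  · rw [if_neg (fun h => hb ((QuotientGroup.eq_one_iff b).1 h)),
      Cfsg.Agent.CharactersDeep.NormalInd.indFun_of_not_mem K _ hb]

/-- **Divisibility.** `F` abelian T.I. with Frobenius normaliser `B`, `B/F` abelian: under the
stated hypotheses on characters induced from `B/F`, `|F| - 1` divides `|G|`. -/
theorem card_sub_one_dvd (F B : Subgroup G) (hB : Subgroup.normalizer (F : Set G) = B)
    (hTI : ∀ g : G, g ∉ B → ∀ u ∈ F, g * u * g⁻¹ ∈ F → u = 1)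
    (hab : ∀ u ∈ F, ∀ v ∈ F, u * v = v * u)
    (K H : Subgroup B) (hK : ∀ x : B, x ∈ K ↔ (x : G) ∈ F) (hKH : K ⊓ H = ⊥) (hKH' : K ⊔ H = ⊤)
    (hfpf : ∀ h ∈ H, h ≠ 1 → ∀ k ∈ K, h * k = k * h → k = 1)
    (hBK : ∀ a b : B, a * b * a⁻¹ * b⁻¹ ∈ K)
    (hlin : ∀ μ : B → ℂ, IsCharacter B μ → μ 1 = 1 → (∀ u ∈ K, μ u = 1) → μ ≠ (fun _ => 1) →
      IsIrrCharacter G (indFun B μ))
    (θ : G → ℂ) (hθ : IsIrrCharacter G θ) (hperm : ∀ g, indFun B (fun _ => (1 : ℂ)) g = 1 + θ g)
    (x y : G) (hxy : ¬ IsConj x y) (hx : ∀ g : G, g⁻¹ * x * g ∉ B)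
    (hy : ∀ g : G, g⁻¹ * y * g ∉ B) : (Nat.card F - 1) ∣ Nat.card G := by
  classical
  have hKn : K.Normal := by
    refine ⟨fun x hx g => ?_⟩
    rw [hK] at hx ⊢
    have h1 : (g : G) ∈ Subgroup.normalizer (F : Set G) := by rw [hB]; exact g.2
    have := (Subgroup.mem_normalizer_iff.1 h1 (x : G)).1 hx
    simpa using this
  have hKab : ∀ a b : K, a * b = b * a := by
    intro a b
    apply Subtype.ext
    apply Subtype.ext
    exact hab _ ((hK _).1 a.2) _ ((hK _).1 b.2)
  have hq : ∀ a b : B ⧸ K, a * b = b * a := by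
    intro a b
    obtain ⟨a, rfl⟩ := QuotientGroup.mk_surjective a
    obtain ⟨b, rfl⟩ := QuotientGroup.mk_surjective b
    rw [← QuotientGroup.mk_mul, ← QuotientGroup.mk_mul, QuotientGroup.eq_iff_div_mem, div_eq_mul_inv]
    have := hBK a b
    simpa [mul_assoc] using this
  have hx1 : x ≠ 1 := by
    rintro rfl
    exact hx 1 (by simp [one_mem])
  have hy1 : y ≠ 1 := by
    rintro rfl
    exact hy 1 (by simp [one_mem])
  obtain ⟨X, hXirr, hXval, hX⟩ := exists_exceptional F B hB hTI hab K H hK hKH hKH' hfpf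
  obtain ⟨η, hη, hηX, hηxy⟩ := exists_separating X x y hx1 hy1 hxy
    (fun χ hχ χ' hχ' => hXval χ hχ χ' hχ' x hx) (fun χ hχ χ' hχ' => hXval χ hχ χ' hχ' y hy)
  have hηc := isIrr_isClassFunction hη
  have hηB : IsClassFunction B (fun b : B => η b) := fun g h => hηc g h
  -- `η` is orthogonal to the characters induced from linear characters of `B / K`
  have horth : ∀ q : IrrCharacter (B ⧸ K),
      classInner (fun b : B => (q : B ⧸ K → ℂ) (b : B ⧸ K)) (fun b : B => η b) = 0 := by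
    intro q
    by_contra hne
    rw [← Cfsg.Agent.CharactersDeep.NormalInd.classInner_indFun B _ η hηc] at hne
    set μ : B → ℂ := fun b : B => (q : B ⧸ K → ℂ) (b : B ⧸ K) with hμ
    have hμirr : IsIrrCharacter B μ := isIrr_comp (QuotientGroup.mk' K)
      (QuotientGroup.mk'_surjective K) q.2
    have hμ1 : μ 1 = 1 := by
      rw [hμ]
      exact irr_one_of_comm hq q.2
    have hμK : ∀ u ∈ K, μ u = 1 := by
      intro u hu
      rw [hμ]
      change (q : B ⧸ K → ℂ) (u : B ⧸ K) = 1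
      rw [(QuotientGroup.eq_one_iff u).2 hu]
      exact irr_one_of_comm hq q.2
    by_cases h1 : μ = fun _ => 1
    · rw [h1] at hne
      have h2 : indFun B (fun _ => (1 : ℂ)) = 1 + θ := by
        ext g
        rw [hperm g]
        rfl
      have h3 : θ x = θ y := by
        have h4 := hperm x
        have h5 := hperm y
        rw [indFun_eq_zero_of_no_conj B _ hx] at h4
        rw [indFun_eq_zero_of_no_conj B _ hy] at h5
        rw [h4] at h5
        exact add_left_cancel h5
      rw [h2, classInner_add_left] at hne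
      by_cases h6 : (1 : G → ℂ) = η
      · exact hηxy (by rw [← h6]; rfl)
      · by_cases h7 : θ = η
        · exact hηxy (by rw [← h7, h3])
        · rw [classInner_irr_ne isIrr_one hη h6, classInner_irr_ne hθ hη h7, add_zero] at hne
          exact hne rfl
    · have h2 := hlin μ (isIrr_isCharacter hμirr) hμ1 hμK h1
      have h3 : indFun B μ = η := by
        by_contra h4
        exact hne (classInner_irr_ne h2 hη h4)
      apply hηxy
      rw [← h3, indFun_eq_zero_of_no_conj B _ hx, indFun_eq_zero_of_no_conj B _ hy]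
  have := finite_irr (G := B ⧸ K)
  have := Fintype.ofFinite (IrrCharacter (B ⧸ K))
  have hone : classInner (fun _ : K => (1 : ℂ)) (fun u : K => η ((u : B) : G)) = 0 := by
    have h1 := Cfsg.Agent.CharactersDeep.NormalInd.classInner_indFun K (fun _ => (1 : ℂ))
      (fun b : B => η b) hηB
    rw [← h1, indFun_one_eq_sum K hq, classInner_sum_left]
    exact Finset.sum_eq_zero (fun q _ => horth q)
  -- restriction of `η` to `K`
  have := finite_irr (G := K)
  have := Fintype.ofFinite (IrrCharacter K)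
  have hηK : IsCharacter K (fun u : K => η ((u : B) : G)) :=
    isCharacter_comp ((Subgroup.subtype B).comp (Subgroup.subtype K)) (isIrr_isCharacter hη)
  have hηKc := isCharacter_isClassFunction hηK
  have hexp := congrFun (classFunction_eq_sum hηKc) 1
  rw [Finset.sum_apply] at hexp
  obtain ⟨k, hk0, hk⟩ := isIrr_apply_one hη
  have hm : ∃ m : ℕ, ∀ τ : IrrCharacter K, (τ : K → ℂ) ≠ (fun _ => 1) →
      classInner (fun u : K => η ((u : B) : G)) (τ : K → ℂ) = m := by
    by_cases h : ∃ τ : IrrCharacter K, (τ : K → ℂ) ≠ (fun _ => 1)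
    · obtain ⟨τ₀, hτ₀⟩ := h
      obtain ⟨m, hm⟩ := classInner_isNat hηK (isIrr_isCharacter τ₀.2)
      refine ⟨m, fun τ hτ => ?_⟩
      rw [← hm, ← classInner_conj_symm, ← classInner_conj_symm (τ₀ : K → ℂ)]
      rw [hX η hη hηX τ τ₀ τ.2 τ₀.2 hτ hτ₀]
    · push Not at h
      exact ⟨0, fun τ hτ => absurd (h τ) hτ⟩
  obtain ⟨m, hm⟩ := hm
  have hone' : classInner (fun u : K => η ((u : B) : G)) (fun _ : K => (1 : ℂ)) = 0 := by
    rw [← classInner_conj_symm, hone, map_zero]
  have hterm : ∀ τ : IrrCharacter K, (classInner (fun u : K => η ((u : B) : G)) (τ : K → ℂ) •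
      (τ : K → ℂ)) 1 = ((if (τ : K → ℂ) = (fun _ => 1) then 0 else m : ℕ) : ℂ) := by
    intro τ
    rw [Pi.smul_apply, irr_one_of_comm hKab τ.2, smul_eq_mul, mul_one]
    split_ifs with h
    · rw [h, hone']; simp
    · rw [hm τ h]
  rw [Finset.sum_congr rfl (fun τ _ => hterm τ), ← Nat.cast_sum] at hexp
  have h1irr : IsIrrCharacter K (fun _ => (1 : ℂ)) := isIrr_one
  have hsum : ∑ τ : IrrCharacter K, (if (τ : K → ℂ) = (fun _ => 1) then 0 else m) =
      (Nat.card F - 1) * m := by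
    have h2 : ∀ τ : IrrCharacter K, (if (τ : K → ℂ) = (fun _ => 1) then 0 else m) =
        if τ = ⟨_, h1irr⟩ then 0 else m := by
      intro τ
      congr 1
      rw [Subtype.ext_iff]
    rw [Finset.sum_congr rfl (fun τ _ => h2 τ), Finset.sum_ite]
    rw [Finset.sum_const_zero, zero_add, Finset.sum_const, smul_eq_mul]
    congr 1
    rw [Finset.filter_ne', Finset.card_erase_of_mem (Finset.mem_univ _), Finset.card_univ,
      ← Nat.card_eq_fintype_card, card_irr_of_comm hKab]
    congr 1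
    refine Nat.card_congr (Equiv.ofBijective (fun u : K => (⟨((u : B) : G), (hK _).1 u.2⟩ : F)) ⟨?_, ?_⟩)
    · intro u v huv
      have h : ((u : B) : G) = ((v : B) : G) := congrArg (fun z : F => (z : G)) huv
      exact Subtype.ext (Subtype.ext h)
    · intro u
      have huB : (u : G) ∈ B := by
        rw [← hB]
        exact Subgroup.le_normalizer u.2
      exact ⟨⟨⟨u, huB⟩, (hK _).2 u.2⟩, rfl⟩
  rw [hsum] at hexp
  have hdvd : (Nat.card F - 1) * m = k := by
    have h3 : η 1 = (((Nat.card F - 1) * m : ℕ) : ℂ) := hexp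
    rw [hk] at h3
    exact_mod_cast h3.symm
  exact (Dvd.intro m hdvd).trans (irr_degree_dvd hη hk)

end Cfsg.Agent.PermutationGroups.ExceptionalDegree
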