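import Mathlib
set_option linter.all false

/-!
An irreducible action of a commutative group on a finite abelian group is multiplication in a
finite field.
-/

set_option autoImplicit false

namespace Cfsg.Agent.PermutationGroups.FieldCoord

/-- A finite field in any universe is isomorphic to one in `Type`. -/
theorem exists_small_field (K' : Type*) [Field K'] [Finite K'] :
    ∃ (K : Type) (_ : Field K) (_ : Fintype K), Nonempty (K ≃+* K') := by
  have := Fintype.ofFinite K'
  obtain ⟨p, hp⟩ := CharP.exists K'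
  obtain ⟨n, hp', hn⟩ := FiniteField.card K' p
  have : Fact p.Prime := ⟨hp'⟩
  have hf : Fintype (GaloisField p n) := Fintype.ofFinite _
  have hc : Fintype.card (GaloisField p n) = Fintype.card K' := by
    rw [hn, ← Nat.card_eq_fintype_card, GaloisField.card p n (PNat.ne_zero n)]
  exact ⟨GaloisField p n, inferInstance, hf, ⟨FiniteField.ringEquivOfCardEq hc⟩⟩

/-- A commutative group `H` acting on a nontrivial finite abelian group `V` without invariant
subgroups: `V` is the additive group of a finite field and `H` acts by multiplications. -/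
theorem exists_field_coord {H V : Type*} [Group H] [AddCommGroup V] [Finite V] [Nontrivial V]
    (hcomm : ∀ a b : H, a * b = b * a) (φ : H →* AddMonoid.End V)
    (hirr : ∀ W : AddSubgroup V, (∀ h : H, ∀ w ∈ W, φ h w ∈ W) → W = ⊥ ∨ W = ⊤) :
    ∃ (K : Type) (_ : Field K) (_ : Fintype K) (e : K ≃+ V) (ρ : H →* Kˣ),
      ∀ (h : H) (x : K), φ h (e x) = e ((ρ h : K) * x) := by
  classical
  let s : Set (AddMonoid.End V) := Set.range φ
  have hs : ∀ x ∈ s, ∀ y ∈ s, x * y = y * x := by
    rintro _ ⟨a, rfl⟩ _ ⟨b, rfl⟩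
    rw [← map_mul, hcomm, map_mul]
  let R := Subring.closure s
  letI : CommRing R := Subring.closureCommRingOfComm hs
  have hφR : ∀ h : H, φ h ∈ R := fun h => Subring.subset_closure ⟨h, rfl⟩
  have hsimple : IsSimpleModule R V := by
    rw [isSimpleModule_iff]
    refine { exists_pair_ne := ⟨⊥, ⊤, bot_ne_top⟩, eq_bot_or_eq_top := fun W => ?_ }
    have hW := hirr W.toAddSubgroup (fun h w hw => W.smul_mem (⟨φ h, hφR h⟩ : R) hw)
    rcases hW with hW | hW
    · left
      rw [eq_bot_iff]
      intro w hw
      have : w ∈ W.toAddSubgroup := hw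
      rw [hW] at this
      exact this
    · right
      rw [eq_top_iff]
      intro w _
      have : w ∈ W.toAddSubgroup := by rw [hW]; trivial
      exact this
  obtain ⟨I, hI, ⟨f⟩⟩ := isSimpleModule_iff_quot_maximal.mp hsimple
  letI : Field (R ⧸ I) := Ideal.Quotient.field I
  have hfin : Finite (R ⧸ I) := Finite.of_equiv V f.toEquiv
  obtain ⟨K, hK, hK', ⟨ψ⟩⟩ := exists_small_field (R ⧸ I)
  let φR : H →* R := φ.codRestrict R hφR
  let ρ : H →* Kˣ := MonoidHom.toHomUnits
    ((ψ.symm : (R ⧸ I) →* K).comp ((Ideal.Quotient.mk I : R →* R ⧸ I).comp φR))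
  refine ⟨K, hK, hK', ψ.toAddEquiv.trans f.symm.toAddEquiv, ρ, ?_⟩
  intro h x
  have h1 : (ρ h : K) = ψ.symm (Ideal.Quotient.mk I (φR h)) := rfl
  change φR h • f.symm (ψ x) = f.symm (ψ ((ρ h : K) * x))
  rw [h1, map_mul, RingEquiv.apply_symm_apply, ← map_smul]
  rfl

end Cfsg.Agent.PermutationGroups.FieldCoord
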