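import Mathlib
set_option linter.all false

/-!
`PSL(2, K)` and `PGL(2, K)` as permutation groups on the projective line `OnePoint K`, and a
recognition criterion for subgroups of `Perm (OnePoint K)`.
-/

set_option autoImplicit false

namespace Cfsg.Agent.PermutationGroups.PSLPerm

open Matrix OnePoint

section

variable (K : Type*) [Field K] [DecidableEq K]

/-- The Moebius representation of `GL(2, K)`. -/
def glPerm : GL (Fin 2) K →* Equiv.Perm (OnePoint K) := MulAction.toPermHom _ _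

/-- The Moebius representation of `SL(2, K)`. -/
def slPerm : Matrix.SpecialLinearGroup (Fin 2) K →* Equiv.Perm (OnePoint K) :=
  (glPerm K).comp SpecialLinearGroup.toGL

variable {K}

theorem glPerm_infty (g : GL (Fin 2) K) :
    glPerm K g ∞ = if g 1 0 = 0 then ∞ else ((g 0 0 / g 1 0 : K) : OnePoint K) :=
  smul_infty_eq_ite g

theorem glPerm_coe (g : GL (Fin 2) K) (k : K) :
    glPerm K g (k : OnePoint K) = if g 1 0 * k + g 1 1 = 0 then ∞ else
      (((g 0 0 * k + g 0 1) / (g 1 0 * k + g 1 1) : K) : OnePoint K) :=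
  smul_some_eq_ite

theorem slPerm_infty (g : Matrix.SpecialLinearGroup (Fin 2) K) :
    slPerm K g ∞ = if g 1 0 = 0 then ∞ else ((g 0 0 / g 1 0 : K) : OnePoint K) :=
  glPerm_infty (SpecialLinearGroup.toGL g)

theorem slPerm_coe (g : Matrix.SpecialLinearGroup (Fin 2) K) (k : K) :
    slPerm K g (k : OnePoint K) = if g 1 0 * k + g 1 1 = 0 then ∞ else
      (((g 0 0 * k + g 0 1) / (g 1 0 * k + g 1 1) : K) : OnePoint K) :=
  glPerm_coe (SpecialLinearGroup.toGL g) k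

omit [Field K] [DecidableEq K] in
/-- Two permutations of the projective line agreeing at `∞` and on `K` are equal. -/
theorem perm_ext {σ τ : Equiv.Perm (OnePoint K)} (h1 : σ ∞ = τ ∞)
    (h2 : ∀ x : K, σ (x : OnePoint K) = τ (x : OnePoint K)) : σ = τ := by
  ext x
  induction x using OnePoint.rec with
  | infty => exact h1
  | coe x => exact h2 x

theorem glPerm_eq_one_iff (g : GL (Fin 2) K) :
    glPerm K g = 1 ↔ g 1 0 = 0 ∧ g 0 1 = 0 ∧ g 0 0 = g 1 1 := by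
  have hdet : g 0 0 * g 1 1 - g 0 1 * g 1 0 ≠ 0 := by
    have := g.det_ne_zero
    rwa [det_fin_two] at this
  constructor
  · intro h
    have h1 : glPerm K g ∞ = ∞ := by rw [h]; rfl
    have h2 : glPerm K g ((0 : K) : OnePoint K) = ((0 : K) : OnePoint K) := by rw [h]; rfl
    have h3 : glPerm K g ((1 : K) : OnePoint K) = ((1 : K) : OnePoint K) := by rw [h]; rfl
    rw [glPerm_infty] at h1
    have e1 : g 1 0 = 0 := by
      by_contra hne
      rw [if_neg hne] at h1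
      exact OnePoint.coe_ne_infty _ h1
    have e2 : g 1 1 ≠ 0 := by
      intro h4
      rw [e1, h4] at hdet
      simp at hdet
    rw [glPerm_coe, e1, mul_zero, mul_zero, zero_add, zero_add, if_neg e2, OnePoint.coe_eq_coe,
      div_eq_zero_iff] at h2
    have e3 : g 0 1 = 0 := h2.resolve_right e2
    rw [glPerm_coe, e1, e3, zero_mul, zero_add, if_neg e2, OnePoint.coe_eq_coe, mul_one,
      add_zero, div_eq_one_iff_eq e2] at h3
    exact ⟨e1, e3, h3⟩
  · rintro ⟨e1, e3, e4⟩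
    have e2 : g 1 1 ≠ 0 := by
      intro h4
      rw [e1, h4] at hdet
      simp at hdet
    refine perm_ext ?_ ?_
    · rw [glPerm_infty, if_pos e1]; rfl
    · intro x
      rw [glPerm_coe, e1, zero_mul, zero_add, if_neg e2, e3, e4, add_zero,
        mul_div_cancel_left₀ _ e2]
      rfl

theorem ker_glPerm : (glPerm K).ker = Subgroup.center (GL (Fin 2) K) := by
  ext g
  rw [MonoidHom.mem_ker, glPerm_eq_one_iff, GeneralLinearGroup.mem_center_iff_val_mem_range_scalar]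
  constructor
  · rintro ⟨h1, h2, h3⟩
    refine ⟨g 0 0, ?_⟩
    ext i j
    fin_cases i <;> fin_cases j <;> simp [h1, h2, h3]
  · rintro ⟨r, hr⟩
    have h : ∀ i j, g i j = scalar (Fin 2) r i j := fun i j => by rw [hr]
    refine ⟨?_, ?_, ?_⟩ <;> simp [h]

theorem ker_slPerm : (slPerm K).ker = Subgroup.center (Matrix.SpecialLinearGroup (Fin 2) K) := by
  ext g
  have h0 : slPerm K g = 1 ↔ g 1 0 = 0 ∧ g 0 1 = 0 ∧ g 0 0 = g 1 1 :=
    glPerm_eq_one_iff (SpecialLinearGroup.toGL g)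
  rw [MonoidHom.mem_ker, h0, Matrix.SpecialLinearGroup.mem_center_iff]
  constructor
  · rintro ⟨h1, h2, h3⟩
    refine ⟨g 0 0, ?_, ?_⟩
    · have := g.det_coe
      rw [det_fin_two, h1, h2, ← h3] at this
      simp only [Fintype.card_fin]
      rw [pow_two]
      simpa using this
    · ext i j
      fin_cases i <;> fin_cases j <;> simp [h1, h2, h3]
  · rintro ⟨r, -, hr⟩
    have h : ∀ i j, g i j = scalar (Fin 2) r i j := fun i j => by rw [hr]
    refine ⟨?_, ?_, ?_⟩ <;> simp [h]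

variable (K) in
/-- `PSL(2, K)` as a permutation group. -/
noncomputable def pslEquivRange :
    Matrix.ProjectiveSpecialLinearGroup (Fin 2) K ≃* (slPerm K).range :=
  (QuotientGroup.quotientMulEquivOfEq ker_slPerm.symm).trans
    (QuotientGroup.quotientKerEquivRange (slPerm K))

variable (K) in
/-- `PGL(2, K)` as a permutation group. -/
noncomputable def pglEquivRange :
    Matrix.ProjGenLinGroup (Fin 2) K ≃* (glPerm K).range :=
  (QuotientGroup.quotientMulEquivOfEq ker_glPerm.symm).trans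
    (QuotientGroup.quotientKerEquivRange (glPerm K))

omit [DecidableEq K] in
/-- Two groups of permutations of the projective line sharing the translations and an element
swapping `0` and `∞` are compared by the stabilisers of `0` and `∞`. -/
theorem le_of_stabilizer_le {A B : Subgroup (Equiv.Perm (OnePoint K))}
    (hN : ∀ c : K, ∃ σ ∈ A, σ ∈ B ∧ σ ∞ = ∞ ∧ ∀ x : K, σ (x : OnePoint K) = ((x + c : K) : OnePoint K))
    (hT : ∃ τ ∈ A, τ ∈ B ∧ τ ((0 : K) : OnePoint K) = ∞)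
    (hH : ∀ σ ∈ A, σ ∞ = ∞ → σ ((0 : K) : OnePoint K) = ((0 : K) : OnePoint K) → σ ∈ B) :
    A ≤ B := by
  have claim : ∀ g ∈ A, g ∞ = ∞ → g ∈ B := by
    intro g hg hinf
    obtain ⟨y, hy⟩ : ∃ y : K, g ((0 : K) : OnePoint K) = (y : OnePoint K) := by
      have : g ((0 : K) : OnePoint K) ≠ ∞ := by
        intro h
        have := g.injective (h.trans hinf.symm)
        exact OnePoint.coe_ne_infty _ this
      obtain ⟨y, hy⟩ := OnePoint.ne_infty_iff_exists.mp this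
      exact ⟨y, hy.symm⟩
    obtain ⟨σ, hσA, hσB, hσ1, hσ2⟩ := hN (-y)
    have h1 : σ * g ∈ B := by
      refine hH _ (A.mul_mem hσA hg) ?_ ?_
      · rw [Equiv.Perm.mul_apply, hinf, hσ1]
      · rw [Equiv.Perm.mul_apply, hy, hσ2, add_neg_cancel]
    have h2 : g = σ⁻¹ * (σ * g) := by group
    rw [h2]
    exact B.mul_mem (B.inv_mem hσB) h1
  intro g hg
  by_cases hinf : g ∞ = ∞
  · exact claim g hg hinf
  · obtain ⟨y, hy⟩ := OnePoint.ne_infty_iff_exists.mp hinf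
    obtain ⟨σ, hσA, hσB, hσ1, hσ2⟩ := hN (-y)
    obtain ⟨τ, hτA, hτB, hτ⟩ := hT
    have h1 : τ * (σ * g) ∈ B := by
      refine claim _ (A.mul_mem hτA (A.mul_mem hσA hg)) ?_
      rw [Equiv.Perm.mul_apply, Equiv.Perm.mul_apply, ← hy, hσ2, add_neg_cancel, hτ]
    have h2 : g = σ⁻¹ * (τ⁻¹ * (τ * (σ * g))) := by group
    rw [h2]
    exact B.mul_mem (B.inv_mem hσB) (B.mul_mem (B.inv_mem hτB) h1)

/-- the element of `SL(2, K)` with given entries -/
def mkSL (a b c d : K) (h : a * d - b * c = 1) : Matrix.SpecialLinearGroup (Fin 2) K :=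
  ⟨!![a, b; c, d], by rw [det_fin_two]; exact h⟩

theorem mkSL_infty (a b c d : K) (h : a * d - b * c = 1) :
    slPerm K (mkSL a b c d h) ∞ = if c = 0 then ∞ else ((a / c : K) : OnePoint K) :=
  slPerm_infty _

theorem mkSL_coe (a b c d : K) (h : a * d - b * c = 1) (k : K) :
    slPerm K (mkSL a b c d h) (k : OnePoint K) = if c * k + d = 0 then ∞ else
      (((a * k + b) / (c * k + d) : K) : OnePoint K) :=
  slPerm_coe _ k

theorem slPerm_trans_infty (c : K) : slPerm K (mkSL 1 c 0 1 (by simp)) ∞ = ∞ := by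
  rw [mkSL_infty, if_pos rfl]

theorem slPerm_trans_coe (c x : K) :
    slPerm K (mkSL 1 c 0 1 (by simp)) (x : OnePoint K) = ((x + c : K) : OnePoint K) := by
  rw [mkSL_coe, if_neg (by simp)]
  simp

theorem slPerm_diag_infty (r : K) (hr : r ≠ 0) :
    slPerm K (mkSL r 0 0 r⁻¹ (by simp [hr])) ∞ = ∞ := by
  rw [mkSL_infty, if_pos rfl]

theorem slPerm_diag_coe (r : K) (hr : r ≠ 0) (x : K) :
    slPerm K (mkSL r 0 0 r⁻¹ (by simp [hr])) (x : OnePoint K)
      = ((r ^ 2 * x : K) : OnePoint K) := by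
  rw [mkSL_coe, if_neg (by simp [hr])]
  congr 1
  simp
  ring

theorem slPerm_inv_infty (r : K) (hr : r ≠ 0) :
    slPerm K (mkSL 0 (-r) r⁻¹ 0 (by simp [hr])) ∞ = ((0 : K) : OnePoint K) := by
  rw [mkSL_infty, if_neg (by simp [hr])]
  simp

theorem slPerm_inv_zero (r : K) (hr : r ≠ 0) :
    slPerm K (mkSL 0 (-r) r⁻¹ 0 (by simp [hr])) ((0 : K) : OnePoint K) = ∞ := by
  rw [mkSL_coe, if_pos (by simp)]

theorem slPerm_inv_coe (r : K) (hr : r ≠ 0) (x : K) (hx : x ≠ 0) :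
    slPerm K (mkSL 0 (-r) r⁻¹ 0 (by simp [hr])) (x : OnePoint K)
      = ((-(r ^ 2) / x : K) : OnePoint K) := by
  rw [mkSL_coe, if_neg (by simp [hr, hx])]
  congr 1
  simp
  field_simp

/-- elements of the image of `SL(2, K)` fixing `0` and `∞` -/
theorem slPerm_fix (g : Matrix.SpecialLinearGroup (Fin 2) K) (h1 : slPerm K g ∞ = ∞)
    (h2 : slPerm K g ((0 : K) : OnePoint K) = ((0 : K) : OnePoint K)) :
    ∃ r : K, r ≠ 0 ∧ ∀ x : K, slPerm K g (x : OnePoint K) = ((r ^ 2 * x : K) : OnePoint K) := by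
  have hdet : g 0 0 * g 1 1 - g 0 1 * g 1 0 = 1 := by
    have := g.det_coe
    rwa [det_fin_two] at this
  rw [slPerm_infty] at h1
  have e1 : g 1 0 = 0 := by
    by_contra hne
    rw [if_neg hne] at h1
    exact OnePoint.coe_ne_infty _ h1
  rw [e1, mul_zero, sub_zero] at hdet
  have e2 : g 1 1 ≠ 0 := by
    intro h4
    rw [h4] at hdet
    simp at hdet
  have e5 : g 0 0 ≠ 0 := by
    intro h4
    rw [h4] at hdet
    simp at hdet
  rw [slPerm_coe, e1, mul_zero, mul_zero, zero_add, zero_add, if_neg e2, OnePoint.coe_eq_coe,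
    div_eq_zero_iff] at h2
  have e3 : g 0 1 = 0 := h2.resolve_right e2
  refine ⟨g 0 0, e5, fun x => ?_⟩
  rw [slPerm_coe, e1, zero_mul, zero_add, if_neg e2, e3, add_zero]
  congr 1
  have e6 : g 1 1 = (g 0 0)⁻¹ := eq_inv_of_mul_eq_one_right hdet
  rw [e6]
  field_simp

/-- Recognition of `PSL(2, K)` among permutation groups of the projective line. -/
theorem nonempty_mulEquiv_psl (A : Subgroup (Equiv.Perm (OnePoint K)))
    (hN : ∀ c : K, ∃ σ ∈ A, σ ∞ = ∞ ∧ ∀ x : K, σ (x : OnePoint K) = ((x + c : K) : OnePoint K))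
    (hT : ∃ r : K, r ≠ 0 ∧ ∃ τ ∈ A, τ ∞ = ((0 : K) : OnePoint K) ∧ τ ((0 : K) : OnePoint K) = ∞ ∧
      ∀ x : K, x ≠ 0 → τ (x : OnePoint K) = ((-(r ^ 2) / x : K) : OnePoint K))
    (hH1 : ∀ r : K, r ≠ 0 → ∃ σ ∈ A, σ ∞ = ∞ ∧
      ∀ x : K, σ (x : OnePoint K) = ((r ^ 2 * x : K) : OnePoint K))
    (hH2 : ∀ σ ∈ A, σ ∞ = ∞ → σ ((0 : K) : OnePoint K) = ((0 : K) : OnePoint K) →
      ∃ r : K, r ≠ 0 ∧ ∀ x : K, σ (x : OnePoint K) = ((r ^ 2 * x : K) : OnePoint K)) :
    Nonempty (A ≃* Matrix.ProjectiveSpecialLinearGroup (Fin 2) K) := by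
  have hN' : ∀ c : K, ∃ σ ∈ A, σ ∈ (slPerm K).range ∧ σ ∞ = ∞ ∧
      ∀ x : K, σ (x : OnePoint K) = ((x + c : K) : OnePoint K) := by
    intro c
    obtain ⟨σ, hσ, h1, h2⟩ := hN c
    refine ⟨σ, hσ, ⟨mkSL 1 c 0 1 (by simp), ?_⟩, h1, h2⟩
    refine perm_ext ?_ fun x => ?_
    · rw [h1, slPerm_trans_infty]
    · rw [h2, slPerm_trans_coe]
  have hT' : ∃ τ ∈ A, τ ∈ (slPerm K).range ∧ τ ((0 : K) : OnePoint K) = ∞ := by
    obtain ⟨r, hr, τ, hτ, h1, h2, h3⟩ := hT
    refine ⟨τ, hτ, ⟨mkSL 0 (-r) r⁻¹ 0 (by simp [hr]), ?_⟩, h2⟩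
    refine perm_ext ?_ fun x => ?_
    · rw [h1, slPerm_inv_infty r hr]
    · by_cases hx : x = 0
      · rw [hx, h2, slPerm_inv_zero r hr]
      · rw [h3 x hx, slPerm_inv_coe r hr x hx]
  have h1 : A ≤ (slPerm K).range := by
    refine le_of_stabilizer_le hN' hT' ?_
    intro σ hσ hσ1 hσ2
    obtain ⟨r, hr, h⟩ := hH2 σ hσ hσ1 hσ2
    refine ⟨mkSL r 0 0 r⁻¹ (by simp [hr]), ?_⟩
    refine perm_ext ?_ fun x => ?_
    · rw [hσ1, slPerm_diag_infty r hr]
    · rw [h, slPerm_diag_coe r hr]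
  have h2 : (slPerm K).range ≤ A := by
    refine le_of_stabilizer_le ?_ ?_ ?_
    · intro c
      obtain ⟨σ, h1, h2, h3⟩ := hN' c
      exact ⟨σ, h2, h1, h3⟩
    · obtain ⟨τ, h1, h2, h3⟩ := hT'
      exact ⟨τ, h2, h1, h3⟩
    · rintro _ ⟨g, rfl⟩ hg1 hg2
      obtain ⟨r, hr, h⟩ := slPerm_fix g hg1 hg2
      obtain ⟨σ, hσ, hσ1, hσ2⟩ := hH1 r hr
      have : slPerm K g = σ := perm_ext (by rw [hg1, hσ1]) fun x => by rw [h, hσ2]
      rw [this]
      exact hσ
  have h3 : A = (slPerm K).range := le_antisymm h1 h2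
  exact ⟨(MulEquiv.subgroupCongr h3).trans (pslEquivRange K).symm⟩

/-- the element of `GL(2, K)` with given entries -/
noncomputable def mkGL (a b c d : K) (h : a * d - b * c ≠ 0) : GL (Fin 2) K :=
  GeneralLinearGroup.mkOfDetNeZero !![a, b; c, d] (by rw [det_fin_two]; exact h)

theorem mkGL_infty (a b c d : K) (h : a * d - b * c ≠ 0) :
    glPerm K (mkGL a b c d h) ∞ = if c = 0 then ∞ else ((a / c : K) : OnePoint K) :=
  glPerm_infty _

theorem mkGL_coe (a b c d : K) (h : a * d - b * c ≠ 0) (k : K) :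
    glPerm K (mkGL a b c d h) (k : OnePoint K) = if c * k + d = 0 then ∞ else
      (((a * k + b) / (c * k + d) : K) : OnePoint K) :=
  glPerm_coe _ k

/-- elements of the image of `GL(2, K)` fixing `0` and `∞` -/
theorem glPerm_fix (g : GL (Fin 2) K) (h1 : glPerm K g ∞ = ∞)
    (h2 : glPerm K g ((0 : K) : OnePoint K) = ((0 : K) : OnePoint K)) :
    ∃ r : K, r ≠ 0 ∧ ∀ x : K, glPerm K g (x : OnePoint K) = ((r * x : K) : OnePoint K) := by
  have hdet : g 0 0 * g 1 1 - g 0 1 * g 1 0 ≠ 0 := by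
    have := g.det_ne_zero
    rwa [det_fin_two] at this
  rw [glPerm_infty] at h1
  have e1 : g 1 0 = 0 := by
    by_contra hne
    rw [if_neg hne] at h1
    exact OnePoint.coe_ne_infty _ h1
  rw [e1, mul_zero, sub_zero] at hdet
  have e2 : g 1 1 ≠ 0 := by
    intro h4
    rw [h4] at hdet
    simp at hdet
  have e5 : g 0 0 ≠ 0 := by
    intro h4
    rw [h4] at hdet
    simp at hdet
  rw [glPerm_coe, e1, mul_zero, mul_zero, zero_add, zero_add, if_neg e2, OnePoint.coe_eq_coe,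
    div_eq_zero_iff] at h2
  have e3 : g 0 1 = 0 := h2.resolve_right e2
  refine ⟨g 0 0 / g 1 1, div_ne_zero e5 e2, fun x => ?_⟩
  rw [glPerm_coe, e1, zero_mul, zero_add, if_neg e2, e3, add_zero]
  congr 1
  field_simp

/-- Recognition of `PGL(2, K)` among permutation groups of the projective line. -/
theorem nonempty_mulEquiv_pgl (A : Subgroup (Equiv.Perm (OnePoint K)))
    (hN : ∀ c : K, ∃ σ ∈ A, σ ∞ = ∞ ∧ ∀ x : K, σ (x : OnePoint K) = ((x + c : K) : OnePoint K))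
    (hT : ∃ r : K, r ≠ 0 ∧ ∃ τ ∈ A, τ ∞ = ((0 : K) : OnePoint K) ∧ τ ((0 : K) : OnePoint K) = ∞ ∧
      ∀ x : K, x ≠ 0 → τ (x : OnePoint K) = ((r / x : K) : OnePoint K))
    (hH1 : ∀ r : K, r ≠ 0 → ∃ σ ∈ A, σ ∞ = ∞ ∧
      ∀ x : K, σ (x : OnePoint K) = ((r * x : K) : OnePoint K))
    (hH2 : ∀ σ ∈ A, σ ∞ = ∞ → σ ((0 : K) : OnePoint K) = ((0 : K) : OnePoint K) →
      ∃ r : K, r ≠ 0 ∧ ∀ x : K, σ (x : OnePoint K) = ((r * x : K) : OnePoint K)) :
    Nonempty (A ≃* Matrix.ProjGenLinGroup (Fin 2) K) := by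
  have hN' : ∀ c : K, ∃ σ ∈ A, σ ∈ (glPerm K).range ∧ σ ∞ = ∞ ∧
      ∀ x : K, σ (x : OnePoint K) = ((x + c : K) : OnePoint K) := by
    intro c
    obtain ⟨σ, hσ, h1, h2⟩ := hN c
    refine ⟨σ, hσ, ⟨mkGL 1 c 0 1 (by simp), ?_⟩, h1, h2⟩
    refine perm_ext ?_ fun x => ?_
    · rw [h1, mkGL_infty, if_pos rfl]
    · rw [h2, mkGL_coe, if_neg (by simp)]
      simp
  have hT' : ∃ τ ∈ A, τ ∈ (glPerm K).range ∧ τ ((0 : K) : OnePoint K) = ∞ := by
    obtain ⟨r, hr, τ, hτ, h1, h2, h3⟩ := hT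
    refine ⟨τ, hτ, ⟨mkGL 0 r 1 0 (by simp [hr]), ?_⟩, h2⟩
    refine perm_ext ?_ fun x => ?_
    · rw [h1, mkGL_infty, if_neg (by simp)]
      simp
    · by_cases hx : x = 0
      · rw [hx, h2, mkGL_coe, if_pos (by simp)]
      · rw [h3 x hx, mkGL_coe, if_neg (by simp [hx])]
        simp
  have h1 : A ≤ (glPerm K).range := by
    refine le_of_stabilizer_le hN' hT' ?_
    intro σ hσ hσ1 hσ2
    obtain ⟨r, hr, h⟩ := hH2 σ hσ hσ1 hσ2
    refine ⟨mkGL r 0 0 1 (by simp [hr]), ?_⟩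
    refine perm_ext ?_ fun x => ?_
    · rw [hσ1, mkGL_infty, if_pos rfl]
    · rw [h, mkGL_coe, if_neg (by simp)]
      simp
  have h2 : (glPerm K).range ≤ A := by
    refine le_of_stabilizer_le ?_ ?_ ?_
    · intro c
      obtain ⟨σ, h1, h2, h3⟩ := hN' c
      exact ⟨σ, h2, h1, h3⟩
    · obtain ⟨τ, h1, h2, h3⟩ := hT'
      exact ⟨τ, h2, h1, h3⟩
    · rintro _ ⟨g, rfl⟩ hg1 hg2
      obtain ⟨r, hr, h⟩ := glPerm_fix g hg1 hg2
      obtain ⟨σ, hσ, hσ1, hσ2⟩ := hH1 r hr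
      have : glPerm K g = σ := perm_ext (by rw [hg1, hσ1]) fun x => by rw [h, hσ2]
      rw [this]
      exact hσ
  have h3 : A = (glPerm K).range := le_antisymm h1 h2
  exact ⟨(MulEquiv.subgroupCongr h3).trans (pglEquivRange K).symm⟩

end

end Cfsg.Agent.PermutationGroups.PSLPerm
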