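import Mathlib
import Cfsg.Prelude.Def_LieExceptional
import Cfsg.Agent.PermutationGroups.ZassenhausBasic
set_option linter.all false

set_option autoImplicit false

namespace Cfsg.Agent.PermutationGroups.ZassenhausInvolutions

open Cfsg.Agent.PermutationGroups.ZassenhausBasic

variable {G Ω : Type*} [Group G] [MulAction G Ω]

/-- a nontrivial element of a Zassenhaus group has at most two fixed points -/
theorem card_fixedBy_le_two [Finite Ω] (hZ : Cfsg.IsZassenhausGroup G Ω) {g : G} (hg : g ≠ 1) :
    Nat.card (MulAction.fixedBy Ω g) ≤ 2 := by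
  classical
  have := Fintype.ofFinite (MulAction.fixedBy Ω g)
  rw [Nat.card_eq_fintype_card]
  by_contra h
  push Not at h
  obtain ⟨x, y, z, hxy, hxz, hyz⟩ := Fintype.two_lt_card_iff.mp h
  refine hg (eq_one_of_fix hZ (a := x.1) (b := y.1) (c := z.1) ?_ ?_ ?_ x.2 y.2 z.2)
  · exact fun h => hxy (Subtype.ext h)
  · exact fun h => hyz (Subtype.ext h)
  · exact fun h => hxz (Subtype.ext h)

/-- the number of fixed points of an element with trivial square has the parity of the degree -/
theorem card_fixedBy_modEq_two [Fintype Ω] {s : G} (hs : s * s = 1) :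
    Fintype.card Ω ≡ Nat.card (MulAction.fixedBy Ω s) [MOD 2] := by
  classical
  let f : Function.End Ω := fun x => s • x
  have h1 : f ^ 2 ^ 1 = 1 := by
    funext x
    change s • s • x = x
    rw [smul_smul, hs, one_smul]
  haveI : Fact (Nat.Prime 2) := ⟨Nat.prime_two⟩
  have h2 := Equiv.Perm.card_fixedPoints_modEq (p := 2) (n := 1) h1
  have h3 : Fintype.card (Function.fixedPoints f) =
      Nat.card (MulAction.fixedBy Ω s) := by
    rw [← Nat.card_eq_fintype_card]
    apply Nat.card_congr
    exact Equiv.refl _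
  rw [← h3]
  exact h2

/-- an element with nontrivial action moves a point -/
theorem exists_smul_ne (hZ : Cfsg.IsZassenhausGroup G Ω) {g : G} (hg : g ≠ 1) :
    ∃ c : Ω, g • c ≠ c := by
  have := hZ.1
  by_contra h
  push Not at h
  apply hg
  apply FaithfulSMul.eq_of_smul_eq_smul (α := Ω)
  intro c
  rw [one_smul, h c]

/-- every involution has a conjugate interchanging two given points -/
theorem exists_conj_swap (hZ : Cfsg.IsZassenhausGroup G Ω) {a b : Ω} (hab : a ≠ b) {t : G}
    (ht : orderOf t = 2) :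
    ∃ x : G, orderOf (x * t * x⁻¹) = 2 ∧ (x * t * x⁻¹) • a = b ∧ (x * t * x⁻¹) • b = a := by
  have ht1 : t ≠ 1 := by
    intro h; rw [h, orderOf_one] at ht; omega
  have htt : t * t = 1 := by rw [← pow_two, ← ht, pow_orderOf_eq_one]
  obtain ⟨c, hc⟩ := exists_smul_ne hZ ht1
  obtain ⟨x, hx1, hx2⟩ := exists_smul_eq hZ (Ne.symm hc) hab
  refine ⟨x, ?_, ?_, ?_⟩
  · have : orderOf (x * t * x⁻¹) = orderOf t := by
      have := orderOf_injective (MulAut.conj x).toMonoidHom (MulAut.conj x).injective t
      simpa using this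
    rw [this, ht]
  · rw [mul_smul, mul_smul, ← hx1, inv_smul_smul, hx2]
  · rw [mul_smul, mul_smul, ← hx2, inv_smul_smul, smul_smul t t, htt, one_smul, hx1]

/-- a group acting doubly transitively on at least two points contains an involution -/
theorem exists_orderOf_eq_two [Finite G] (hZ : Cfsg.IsZassenhausGroup G Ω) {a b : Ω}
    (hab : a ≠ b) : ∃ t : G, orderOf t = 2 := by
  haveI : Fact (Nat.Prime 2) := ⟨Nat.prime_two⟩
  obtain ⟨g, hga, hgb⟩ := exists_swap hZ hab
  have h2 : ∀ k : ℕ, (g ^ (2 * k)) • a = a ∧ (g ^ (2 * k + 1)) • a = b := by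
    intro k
    induction k with
    | zero => simp [hga]
    | succ k ih =>
      have h1 : (g ^ (2 * (k + 1))) • a = a := by
        have : g ^ (2 * (k + 1)) = g * g ^ (2 * k + 1) := by
          rw [← pow_succ']; congr 1
        rw [this, mul_smul, ih.2, hgb]
      refine ⟨h1, ?_⟩
      rw [pow_succ', mul_smul, h1, hga]
  have h3 : 2 ∣ Nat.card G := by
    refine dvd_trans ?_ (orderOf_dvd_natCard g)
    rw [← even_iff_two_dvd]
    by_contra h
    rw [Nat.not_even_iff_odd] at h
    obtain ⟨k, hk⟩ := h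
    have h4 := (h2 k).2
    rw [← hk, pow_orderOf_eq_one, one_smul] at h4
    exact hab h4
  exact exists_prime_orderOf_dvd_card' 2 h3

/-- if a two-point stabiliser has even order, any two points are fixed by an involution -/
theorem exists_involution_fixing [Finite G] (hZ : Cfsg.IsZassenhausGroup G Ω) {a b : Ω}
    (hab : a ≠ b)
    (heven : Even (Nat.card ↥(MulAction.stabilizer G a ⊓ MulAction.stabilizer G b)))
    {c d : Ω} (hcd : c ≠ d) : ∃ t : G, orderOf t = 2 ∧ t • c = c ∧ t • d = d := by
  haveI : Fact (Nat.Prime 2) := ⟨Nat.prime_two⟩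
  obtain ⟨t, ht⟩ := exists_prime_orderOf_dvd_card' 2 (even_iff_two_dvd.mp heven)
  have ht' : orderOf (t : G) = 2 := by rw [Subgroup.orderOf_coe, ht]
  have hta : (t : G) • a = a := t.2.1
  have htb : (t : G) • b = b := t.2.2
  obtain ⟨x, hxa, hxb⟩ := exists_smul_eq hZ hab hcd
  refine ⟨x * t * x⁻¹, ?_, ?_, ?_⟩
  · have : orderOf (x * t * x⁻¹) = orderOf (t : G) := by
      have := orderOf_injective (MulAut.conj x).toMonoidHom (MulAut.conj x).injective (t : G)
      simpa using this
    rw [this, ht']
  · rw [mul_smul, mul_smul, ← hxa, inv_smul_smul, hta]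
  · rw [mul_smul, mul_smul, ← hxb, inv_smul_smul, htb]

/-- an involution fixing two distinct points has exactly two fixed points -/
theorem card_fixedBy_eq_two [Finite Ω] (hZ : Cfsg.IsZassenhausGroup G Ω) {c d : Ω} (hcd : c ≠ d)
    {t : G} (ht : t ≠ 1) (hc : t • c = c) (hd : t • d = d) :
    Nat.card (MulAction.fixedBy Ω t) = 2 := by
  apply le_antisymm (card_fixedBy_le_two hZ ht)
  have := Fintype.ofFinite (MulAction.fixedBy Ω t)
  rw [Nat.card_eq_fintype_card]
  rw [Nat.succ_le_iff, Fintype.one_lt_card_iff]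
  exact ⟨⟨c, hc⟩, ⟨d, hd⟩, fun h => hcd (congrArg Subtype.val h)⟩

end Cfsg.Agent.PermutationGroups.ZassenhausInvolutions
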