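import Mathlib
set_option linter.all false

/-!
Coprime action of a Klein four-group on a group of odd order: generation by the centralisers of
the three involutions, by explicit square roots.
-/

set_option autoImplicit false

namespace Cfsg.Agent.PermutationGroups.OddKlein

/-- square roots in a finite group of odd order -/
theorem exists_sqrt {K : Type*} [Group K] [Finite K] (hodd : Odd (Nat.card K)) (x : K) :
    ∃ y : K, y * y = x := by
  obtain ⟨m, hm⟩ := hodd
  refine ⟨x ^ (m + 1), ?_⟩
  rw [← pow_add, show m + 1 + (m + 1) = Nat.card K + 1 by omega, pow_succ, pow_card_eq_one',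
    one_mul]

theorem sqrt_unique {K : Type*} [Group K] [Finite K] (hodd : Odd (Nat.card K)) {x y : K}
    (h : x * x = y * y) : x = y := by
  obtain ⟨m, hm⟩ := hodd
  have key : ∀ z : K, (z * z) ^ (m + 1) = z := by
    intro z
    rw [← pow_two, ← pow_mul, show 2 * (m + 1) = Nat.card K + 1 by omega, pow_succ,
      pow_card_eq_one', one_mul]
  rw [← key x, ← key y, h]

/-- If two commuting involutory automorphisms `σ`, `τ` act on a finite group `K` of odd order, then
`K` is generated by the fixed points of `σ`, `τ` and `σ τ`. -/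
theorem eq_top_of_fixed_le {K : Type*} [Group K] [Finite K] (hodd : Odd (Nat.card K))
    (σ τ : K →* K) (hσ : ∀ x, σ (σ x) = x) (hτ : ∀ x, τ (τ x) = x)
    (hστ : ∀ x, σ (τ x) = τ (σ x)) (L : Subgroup K)
    (h1 : ∀ x, σ x = x → x ∈ L) (h2 : ∀ x, τ x = x → x ∈ L)
    (h3 : ∀ x, σ (τ x) = x → x ∈ L) : L = ⊤ := by
  -- step B: elements inverted by `σ`
  have hB : ∀ x : K, σ x = x⁻¹ → x ∈ L := by
    intro x hx
    have uniq : ∀ u u' : K, u * x⁻¹ * u = u' * x⁻¹ * u' → u = u' := by
      intro u u' h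
      have : u * x⁻¹ = u' * x⁻¹ := by
        apply sqrt_unique hodd
        calc u * x⁻¹ * (u * x⁻¹) = u * x⁻¹ * u * x⁻¹ := by group
          _ = u' * x⁻¹ * u' * x⁻¹ := by rw [h]
          _ = u' * x⁻¹ * (u' * x⁻¹) := by group
      exact mul_right_cancel this
    obtain ⟨s, hs⟩ := exists_sqrt hodd (τ x * x⁻¹)
    obtain ⟨u, hu⟩ : ∃ u : K, u * x⁻¹ * u = τ x := by
      refine ⟨s * x, ?_⟩
      calc s * x * x⁻¹ * (s * x) = s * s * x := by group
        _ = τ x := by rw [hs]; group
    have hτu : τ u = u := by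
      apply uniq
      have h4 : τ u * (τ x)⁻¹ * τ u = x := by
        have := congrArg τ hu
        rw [hτ, map_mul, map_mul, map_inv] at this
        exact this
      calc τ u * x⁻¹ * τ u = τ u * (τ u * (τ x)⁻¹ * τ u)⁻¹ * τ u := by rw [h4]
        _ = τ x := by group
        _ = u * x⁻¹ * u := hu.symm
    have hσu : σ u = u⁻¹ := by
      have h4 : (σ u) * x * (σ u) = (τ x)⁻¹ := by
        have := congrArg σ hu
        rw [map_mul, map_mul, map_inv, hx, inv_inv, hστ, hx, map_inv] at this
        exact this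
      have h5 : (σ u)⁻¹ = u := by
        apply uniq
        calc (σ u)⁻¹ * x⁻¹ * (σ u)⁻¹ = ((σ u) * x * (σ u))⁻¹ := by group
          _ = τ x := by rw [h4, inv_inv]
          _ = u * x⁻¹ * u := hu.symm
      exact inv_eq_iff_eq_inv.mp h5
    obtain ⟨a, ha⟩ := exists_sqrt hodd u
    have hτa : τ a = a := by
      apply sqrt_unique hodd
      rw [← map_mul, ha, hτu]
    have hσa : σ a = a⁻¹ := by
      apply sqrt_unique hodd
      rw [← map_mul, ha, hσu, ← mul_inv_rev, ha]
    have hb : a⁻¹ * x * a⁻¹ ∈ L := by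
      apply h3
      have e1 : τ (a⁻¹ * x * a⁻¹) = a * x⁻¹ * a := by
        rw [map_mul, map_mul, map_inv, hτa, ← hu, ← ha]
        group
      rw [e1, map_mul, map_mul, map_inv, hσa, hx, inv_inv]
    have : x = a * (a⁻¹ * x * a⁻¹) * a := by group
    rw [this]
    exact L.mul_mem (L.mul_mem (h2 a hτa) hb) (h2 a hτa)
  rw [eq_top_iff]
  intro k _
  obtain ⟨x, hx⟩ := exists_sqrt hodd (k * (σ k)⁻¹)
  have hσx : σ x = x⁻¹ := by
    apply sqrt_unique hodd
    rw [← map_mul, hx, ← mul_inv_rev, hx, map_mul, map_inv, hσ]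
    group
  have hc : x⁻¹ * k ∈ L := by
    apply h1
    rw [map_mul, map_inv, hσx, inv_inv]
    have : σ k = (x * x)⁻¹ * k := by rw [hx]; group
    rw [this]
    group
  have : k = x * (x⁻¹ * k) := by group
  rw [this]
  exact L.mul_mem (hB x hσx) hc

end Cfsg.Agent.PermutationGroups.OddKlein
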