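import Mathlib
set_option linter.all false

set_option autoImplicit false

namespace Cfsg.Agent.PermutationGroups.Gleason

open MulAction

/-- Gleason's lemma, transitive case. -/
theorem isPretransitive {G α : Type*} [Group G] [MulAction G α] [Finite α] {p : ℕ} (hp : p.Prime)
    (h : ∀ a : α, ∃ P : Subgroup G, IsPGroup p P ∧ fixedPoints P α = {a}) :
    IsPretransitive G α := by
  haveI : Fact p.Prime := ⟨hp⟩
  refine ⟨fun a b => ?_⟩
  by_contra hne
  have hb : b ∉ orbit G a := fun ⟨g, hg⟩ => hne ⟨g, hg⟩
  obtain ⟨P, hP, hPa⟩ := h a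
  obtain ⟨Q, hQ, hQb⟩ := h b
  have h1 := hP.card_modEq_card_fixedPoints (orbit G a)
  have h2 := hQ.card_modEq_card_fixedPoints (orbit G a)
  have e1 : Nat.card (fixedPoints P (orbit G a)) = 1 := by
    rw [Nat.card_eq_one_iff_unique]
    constructor
    · constructor
      rintro ⟨⟨x, hx⟩, hx'⟩ ⟨⟨y, hy⟩, hy'⟩
      have hxa : x ∈ fixedPoints P α := fun g => congrArg Subtype.val (hx' g)
      have hya : y ∈ fixedPoints P α := fun g => congrArg Subtype.val (hy' g)
      rw [hPa] at hxa hya
      simp only [Set.mem_singleton_iff] at hxa hya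
      subst hxa
      subst hya
      rfl
    · have ha : a ∈ fixedPoints P α := by rw [hPa]; rfl
      exact ⟨⟨⟨a, mem_orbit_self a⟩, fun g => Subtype.ext (ha g)⟩⟩
  have e2 : Nat.card (fixedPoints Q (orbit G a)) = 0 := by
    rw [Nat.card_eq_zero]
    left
    constructor
    rintro ⟨⟨x, hx⟩, hx'⟩
    have hxa : x ∈ fixedPoints Q α := fun g => congrArg Subtype.val (hx' g)
    rw [hQb] at hxa
    simp only [Set.mem_singleton_iff] at hxa
    exact hb (hxa ▸ hx)
  rw [e1] at h1
  rw [e2] at h2
  have h3 : 1 ≡ 0 [MOD p] := h1.symm.trans h2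
  have := hp.two_le
  rw [Nat.ModEq, Nat.mod_eq_of_lt (by omega), Nat.mod_eq_of_lt (by omega)] at h3
  exact absurd h3 one_ne_zero

theorem gleason {k : ℕ} : ∀ {G α : Type*} [Group G] [MulAction G α] [Finite α] {p : ℕ}
    (_ : p.Prime) (_ : k + 1 < Nat.card α)
    (_ : ∀ s : Set α, s.ncard = k + 1 → ∃ P : Subgroup G, IsPGroup p P ∧ fixedPoints P α = s),
    IsMultiplyPretransitive G α (k + 1) := by
  induction k with
  | zero =>
    intro G α _ _ _ p hp _ h
    rw [zero_add, is_one_pretransitive_iff]
    exact isPretransitive hp fun a => h {a} (by simp)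
  | succ k ih =>
    intro G α _ _ _ p hp hk h
    have key : ∀ a : α, IsMultiplyPretransitive (stabilizer G a)
        (SubMulAction.ofStabilizer G a) (k + 1) := by
      intro a
      refine ih hp ?_ ?_
      · have := SubMulAction.nat_card_ofStabilizer_add_one_eq G a
        omega
      · intro s hs
        obtain ⟨P, hP, hPs⟩ := h (insert a (Subtype.val '' s)) (by
          rw [Set.ncard_insert_of_notMem (SubMulAction.notMem_val_image G s),
            Set.ncard_image_of_injective _ Subtype.coe_injective, hs])
        have hPa : ∀ g ∈ P, g • a = a := by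
          intro g hg
          have : a ∈ fixedPoints P α := by rw [hPs]; exact Set.mem_insert _ _
          exact this ⟨g, hg⟩
        refine ⟨P.subgroupOf (stabilizer G a), hP.comap_subtype, ?_⟩
        ext ⟨x, hx⟩
        have hiff : x ∈ fixedPoints P α ↔
            (⟨x, hx⟩ : SubMulAction.ofStabilizer G a) ∈ s := by
          rw [hPs, Set.mem_insert_iff]
          constructor
          · rintro (rfl | ⟨y, hy, hyx⟩)
            · exact absurd rfl hx
            · have : y = ⟨x, hx⟩ := Subtype.ext hyx
              exact this ▸ hy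
          · intro hxs
            exact Or.inr ⟨_, hxs, rfl⟩
        rw [← hiff]
        constructor
        · intro hfix g
          have := hfix ⟨⟨(g : G), hPa g g.2⟩, g.2⟩
          exact congrArg Subtype.val this
        · intro hfix g
          refine Subtype.ext ?_
          exact hfix ⟨((g : stabilizer G a) : G), g.2⟩
    haveI : IsPretransitive G α := by
      refine ⟨fun a b => ?_⟩
      obtain ⟨c, hca, hcb⟩ : ∃ c : α, c ≠ a ∧ c ≠ b := by
        by_contra hcon
        push Not at hcon
        have hsub : (Set.univ : Set α) ⊆ {a, b} := by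
          intro c _
          by_cases hc : c = a
          · exact Or.inl hc
          · exact Or.inr (hcon c hc)
        have h1 := Set.ncard_le_ncard hsub (Set.toFinite _)
        rw [Set.ncard_univ] at h1
        have h2 : ({a, b} : Set α).ncard ≤ 2 := Set.ncard_insert_le a {b} |>.trans (by simp)
        omega
      haveI := key c
      have h1 : IsMultiplyPretransitive (stabilizer G c) (SubMulAction.ofStabilizer G c) 1 := by
        refine isMultiplyPretransitive_of_le (n := k + 1) (by omega) ?_
        have := SubMulAction.nat_card_ofStabilizer_add_one_eq G c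
        omega
      rw [is_one_pretransitive_iff] at h1
      obtain ⟨g, hg⟩ := h1.exists_smul_eq ⟨a, hca.symm⟩ ⟨b, hcb.symm⟩
      exact ⟨g, congrArg Subtype.val hg⟩
    obtain ⟨a⟩ : Nonempty α := by
      by_contra hcon
      rw [not_nonempty_iff] at hcon
      simp at hk
    exact (SubMulAction.ofStabilizer.isMultiplyPretransitive (a := a)).mpr (key a)

end Cfsg.Agent.PermutationGroups.Gleason
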