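import Mathlib
set_option linter.all false

set_option autoImplicit false

namespace Cfsg.Agent.PermutationGroups.TwoTransitiveNormal

open MulAction

section Orbits

variable {G : Type*} [Group G] {X : Type*} [MulAction G X]

/-- If all point stabilisers have the same index `h`, then `h` divides the size of the set. -/
theorem dvd_card_of_index_stabilizer_eq [Finite X] {h : ℕ}
    (hh : ∀ x : X, (stabilizer G x).index = h) : h ∣ Nat.card X := by
  classical
  have e := Nat.card_congr (MulAction.selfEquivSigmaOrbits G X)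
  have : Finite (Quotient (MulAction.orbitRel G X)) := inferInstance
  have := Fintype.ofFinite (Quotient (MulAction.orbitRel G X))
  rw [Nat.card_sigma] at e
  rw [e]
  apply Finset.dvd_sum
  intro ω _
  rw [← hh ω.out, MulAction.index_stabilizer, Nat.card_coe_set_eq]

/-- Same for an invariant subset. -/
theorem dvd_ncard_of_index_stabilizer_eq {h : ℕ} {S : Set X} (hS : S.Finite)
    (hinv : ∀ g : G, ∀ x ∈ S, g • x ∈ S)
    (hh : ∀ x ∈ S, (stabilizer G x).index = h) : h ∣ S.ncard := by
  let P : SubMulAction G X := ⟨S, fun g {x} hx => hinv g x hx⟩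
  have : Finite P := hS
  have := dvd_card_of_index_stabilizer_eq (G := G) (X := P) (h := h) (by
    intro x
    rw [SubMulAction.stabilizer_of_subMul]
    exact hh _ x.2)
  rwa [← Nat.card_coe_set_eq]

end Orbits

section ThreeHalves

open scoped Pointwise

variable {G : Type*} [Group G] [Finite G] {X : Type*} [Finite X] [MulAction G X]

omit [Finite G] [Finite X] in
theorem card_stabilizer_eq [IsPretransitive G X] (a b : X) :
    Nat.card (stabilizer G a) = Nat.card (stabilizer G b) := by
  obtain ⟨g, rfl⟩ := exists_smul_eq G a b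
  exact Nat.card_congr (stabilizerEquivStabilizer rfl).toEquiv

omit [Finite G] [Finite X] in
/-- Index of the stabiliser of `x` inside a subgroup `S`. -/
theorem card_eq_index_mul (S : Subgroup G) (x : X) :
    (stabilizer S x).index * Nat.card ↥(S ⊓ stabilizer G x) = Nat.card S := by
  have h1 := (stabilizer S x).index_mul_card
  rw [← h1]
  congr 1
  refine Nat.card_congr ⟨fun g => ⟨⟨g.1, (Subgroup.mem_inf.mp g.2).1⟩, ?_⟩,
    fun g => ⟨g.1.1, Subgroup.mem_inf.mpr ⟨g.1.2, ?_⟩⟩, fun _ => rfl, fun _ => rfl⟩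
  · exact (Subgroup.mem_inf.mp g.2).2
  · exact g.2

/-- Wielandt 10.4 (sizes form): a transitive finite group all of whose two-point stabilisers have
the same order is primitive, or its two-point stabilisers act trivially. -/
theorem isPreprimitive_or_of_card_inf_stabilizer_eq [IsPretransitive G X] {m : ℕ}
    (hm : ∀ a b : X, a ≠ b → Nat.card ↥(stabilizer G a ⊓ stabilizer G b) = m) :
    IsPreprimitive G X ∨
      ∀ a b : X, a ≠ b → ∀ g ∈ stabilizer G a ⊓ stabilizer G b, ∀ x : X, g • x = x := by
  classical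
  by_cases hprim : IsPreprimitive G X
  · exact Or.inl hprim
  right
  -- get a nontrivial block
  have hB : ∃ B : Set X, IsBlock G B ∧ ¬ B.Subsingleton ∧ B ≠ Set.univ := by
    by_contra hcon
    push Not at hcon
    apply hprim
    refine { isTrivialBlock_of_isBlock := ?_ }
    intro B hB
    by_cases h1 : B.Subsingleton
    · exact Or.inl h1
    · exact Or.inr (hcon B hB (Set.not_subsingleton_iff.mp h1))
  obtain ⟨B, hB, hBns, hBu⟩ := hB
  rw [Set.not_subsingleton_iff] at hBns
  obtain ⟨a, haB, b, hbB, hab⟩ := hBns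
  obtain ⟨c₀, hc₀⟩ := (Set.ne_univ_iff_exists_notMem B).mp hBu
  have hmpos : 0 < m := by
    rw [← hm a b hab]
    exact Nat.card_pos
  -- the common index
  obtain ⟨h, hh⟩ : ∃ h, ∀ x y : X, x ≠ y →
      (stabilizer (stabilizer G x) y).index = h := by
    refine ⟨Nat.card (stabilizer G a) / m, ?_⟩
    intro x y hxy
    have := card_eq_index_mul (stabilizer G x) y
    rw [hm x y hxy, card_stabilizer_eq x a] at this
    rw [← this, Nat.mul_div_cancel _ hmpos]
  have hs : ∀ x : X, Nat.card (stabilizer G x) = h * m := by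
    intro x
    obtain ⟨y, hy⟩ : ∃ y, x ≠ y := by
      by_cases hxa : x = a
      · exact ⟨b, hxa ▸ hab⟩
      · exact ⟨a, hxa⟩
    rw [← card_eq_index_mul (stabilizer G x) y, hh x y hy, hm x y hy]
  have hdvd1 : h ∣ (B \ {a}).ncard := by
    apply dvd_ncard_of_index_stabilizer_eq (G := stabilizer G a) (Set.toFinite _)
    · rintro ⟨g, hg⟩ x ⟨hxB, hxa⟩
      have hga : g • a = a := hg
      have hgB : g • B = B := hB.smul_eq_of_mem haB (by rw [hga]; exact haB)
      refine ⟨?_, ?_⟩
      · have : g • x ∈ g • B := Set.smul_mem_smul_set hxB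
        rw [hgB] at this
        exact this
      · intro hx
        apply hxa
        rw [Set.mem_singleton_iff] at hx ⊢
        have hx' : g • x = a := hx
        rw [← hga] at hx'
        exact (MulAction.injective g) hx'
    · intro x hx
      exact hh a x (fun h => hx.2 h.symm)
  have hcardB : (B \ {a}).ncard + 1 = B.ncard :=
    Set.ncard_sdiff_singleton_add_one haB (Set.toFinite _)
  -- key claim
  have key : ∀ c ∉ B, ∀ x ∈ B, ∀ y ∈ B, stabilizer G c ⊓ stabilizer G x ≤ stabilizer G y := by
    intro c hc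
    set S : Subgroup G := stabilizer G c ⊓ stabilizer G B with hS
    have hle : ∀ x ∈ B, stabilizer G c ⊓ stabilizer G x ≤ S := by
      intro x hx g hg
      refine ⟨hg.1, ?_⟩
      have hgx : g • x = x := hg.2
      exact hB.smul_eq_of_mem hx (by rw [hgx]; exact hx)
    have hSx : ∀ x ∈ B, S ⊓ stabilizer G x = stabilizer G c ⊓ stabilizer G x := by
      intro x hx
      apply le_antisymm
      · exact inf_le_inf_right _ inf_le_left
      · exact le_inf (hle x hx) inf_le_right
    have hne : ∀ x ∈ B, c ≠ x := fun x hx hcx => hc (hcx ▸ hx)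
    obtain ⟨r, hr⟩ : ∃ r, ∀ x ∈ B, (stabilizer S x).index = r := by
      refine ⟨Nat.card S / m, ?_⟩
      intro x hx
      have := card_eq_index_mul S x
      rw [hSx x hx, hm c x (hne x hx)] at this
      rw [← this, Nat.mul_div_cancel _ hmpos]
    have hSr : Nat.card S = r * m := by
      rw [← card_eq_index_mul S a, hSx a haB, hm c a (hne a haB), hr a haB]
    have hrB : r ∣ B.ncard := by
      apply dvd_ncard_of_index_stabilizer_eq (G := S) (Set.toFinite _)
      · rintro ⟨g, hg⟩ x hx
        have hgB : g • B = B := hg.2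
        have : g • x ∈ g • B := Set.smul_mem_smul_set hx
        rw [hgB] at this
        exact this
      · exact hr
    have hrh : r ∣ h := by
      have h1 : Nat.card S ∣ Nat.card (stabilizer G c) :=
        Subgroup.card_dvd_of_le inf_le_left
      rw [hSr, hs c] at h1
      exact Nat.dvd_of_mul_dvd_mul_right hmpos h1
    have hr1 : r = 1 := by
      have h1 : r ∣ (B \ {a}).ncard + 1 := hcardB ▸ hrB
      have h2 : r ∣ (B \ {a}).ncard := hrh.trans hdvd1
      exact Nat.dvd_one.mp ((Nat.dvd_add_right h2).mp h1)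
    rw [hr1, one_mul] at hSr
    have hSeq : ∀ x ∈ B, stabilizer G c ⊓ stabilizer G x = S := by
      intro x hx
      apply Subgroup.eq_of_le_of_card_ge (hle x hx)
      rw [hSr, hm c x (hne x hx)]
    intro x hx y hy
    rw [hSeq x hx, ← hSeq y hy]
    exact inf_le_right
  -- the two-point stabiliser of `a`, `b` is contained in the kernel
  have hT : ∀ c ∉ B, stabilizer G a ⊓ stabilizer G b = stabilizer G c ⊓ stabilizer G a := by
    intro c hc
    have hca : c ≠ a := fun h => hc (h ▸ haB)
    symm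
    apply Subgroup.eq_of_le_of_card_ge
    · exact le_inf inf_le_right (key c hc a haB b hbB)
    · rw [hm a b hab, hm c a hca]
  have hTker : stabilizer G a ⊓ stabilizer G b ≤ (MulAction.toPermHom G X).ker := by
    intro g hg
    rw [MonoidHom.mem_ker]
    ext x
    rw [MulAction.toPermHom_apply, MulAction.toPerm_apply, Equiv.Perm.one_apply]
    by_cases hx : x ∈ B
    · have := key c₀ hc₀ a haB x hx
      rw [← hT c₀ hc₀] at this
      exact this hg
    · rw [hT x hx] at hg
      exact hg.1
  intro u v huv g hg x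
  have h1 : (MulAction.toPermHom G X).ker = stabilizer G u ⊓ stabilizer G v := by
    apply Subgroup.eq_of_le_of_card_ge
    · intro k hk
      rw [MonoidHom.mem_ker] at hk
      have hk' : ∀ z : X, k • z = z := by
        intro z
        have := congrArg (fun e : Equiv.Perm X => e z) hk
        simpa using this
      exact ⟨hk' u, hk' v⟩
    · rw [hm u v huv, ← hm a b hab]
      exact Subgroup.card_le_of_le hTker
  rw [← h1, MonoidHom.mem_ker] at hg
  have := congrArg (fun e : Equiv.Perm X => e x) hg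
  simpa using this

end ThreeHalves

section TwoTransitive

variable {G : Type*} [Group G] {X : Type*} [MulAction G X]

/-- In a 2-transitive group the two-point stabilisers of a normal subgroup all have the
same order. -/
theorem card_inf_stabilizer_eq
    (h2 : ∀ a b c d : X, a ≠ b → c ≠ d → ∃ g : G, g • a = c ∧ g • b = d)
    (N : Subgroup G) [hN : N.Normal] {a b c d : X} (hab : a ≠ b) (hcd : c ≠ d) :
    Nat.card ↥(stabilizer N a ⊓ stabilizer N b) = Nat.card ↥(stabilizer N c ⊓ stabilizer N d) := by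
  obtain ⟨g, hga, hgb⟩ := h2 a b c d hab hcd
  have key : ∀ (g : G) (x y : X), g • x = y → ∀ n ∈ N, n • x = x →
      (g * n * g⁻¹) • y = y := by
    intro g x y hxy n _ hn
    rw [← hxy, mul_smul, mul_smul, inv_smul_smul, hn]
  have key' : ∀ (g : G) (x y : X), g • x = y → ∀ n ∈ N, n • y = y →
      (g⁻¹ * n * g) • x = x := by
    intro g x y hxy n _ hn
    rw [mul_smul, mul_smul, hxy, hn, ← hxy, inv_smul_smul]
  refine Nat.card_congr
    { toFun := fun n => ⟨⟨g * n.1.1 * g⁻¹, hN.conj_mem _ n.1.2 _⟩,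
        ⟨key g a c hga n.1.1 n.1.2 n.2.1, key g b d hgb n.1.1 n.1.2 n.2.2⟩⟩
      invFun := fun n => ⟨⟨g⁻¹ * n.1.1 * g, hN.conj_mem' _ n.1.2 _⟩,
        ⟨key' g a c hga n.1.1 n.1.2 n.2.1, key' g b d hgb n.1.1 n.1.2 n.2.2⟩⟩
      left_inv := ?_
      right_inv := ?_ }
  · intro n
    apply Subtype.ext
    apply Subtype.ext
    change g⁻¹ * (g * n.1.1 * g⁻¹) * g = n.1.1
    group
  · intro n
    apply Subtype.ext
    apply Subtype.ext
    change g * (g⁻¹ * n.1.1 * g) * g⁻¹ = n.1.1
    group

/-- A regular normal subgroup of a finite 2-transitive group is elementary abelian: all its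
non-identity elements are conjugate in `G`. -/
theorem exists_conj_of_regular
    (h2 : ∀ a b c d : X, a ≠ b → c ≠ d → ∃ g : G, g • a = c ∧ g • b = d)
    (N : Subgroup G) [hN : N.Normal] (hreg : ∀ a : X, stabilizer N a = ⊥) [Nonempty X]
    {x y : G} (hx : x ∈ N) (hy : y ∈ N) (hx1 : x ≠ 1) (hy1 : y ≠ 1) :
    ∃ g : G, g * x * g⁻¹ = y := by
  obtain ⟨a⟩ := ‹Nonempty X›
  have hst : ∀ z ∈ N, z • a = a → z = 1 := by
    intro z hz hza
    have : (⟨z, hz⟩ : N) ∈ stabilizer N a := hza
    rw [hreg a, Subgroup.mem_bot] at this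
    exact congrArg Subtype.val this
  have hxa : a ≠ x • a := fun h => hx1 (hst x hx h.symm)
  have hya : a ≠ y • a := fun h => hy1 (hst y hy h.symm)
  obtain ⟨g, hga, hgx⟩ := h2 a (x • a) a (y • a) hxa hya
  refine ⟨g, ?_⟩
  have h1 : y⁻¹ * (g * x * g⁻¹) = 1 := by
    apply hst _ (N.mul_mem (N.inv_mem hy) (hN.conj_mem _ hx _))
    rw [mul_smul, mul_smul, mul_smul]
    have : g⁻¹ • a = a := by rw [inv_smul_eq_iff, hga]
    rw [this, hgx, inv_smul_smul]
  exact (inv_mul_eq_one.mp h1).symm

theorem regular_normal_elementary_abelian [Finite G]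
    (h2 : ∀ a b c d : X, a ≠ b → c ≠ d → ∃ g : G, g • a = c ∧ g • b = d)
    (N : Subgroup G) [hN : N.Normal] (hreg : ∀ a : X, stabilizer N a = ⊥) [Nonempty X] :
    IsMulCommutative N ∧ ∃ p : ℕ, p.Prime ∧ ∀ n ∈ N, n ^ p = 1 := by
  by_cases hbot : N = ⊥
  · subst hbot
    refine ⟨⟨⟨fun x y => Subsingleton.elim _ _⟩⟩, 2, Nat.prime_two, ?_⟩
    intro n hn
    rw [Subgroup.mem_bot] at hn
    simp [hn]
  have hntr : Nontrivial N := (Subgroup.nontrivial_iff_ne_bot N).mpr hbot
  have hcard : Nat.card N ≠ 1 := by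
    have := Finite.one_lt_card (α := N)
    omega
  obtain ⟨p, hp, hpd⟩ := Nat.exists_prime_and_dvd hcard
  have hpf : Fact p.Prime := ⟨hp⟩
  obtain ⟨x, hx⟩ := exists_prime_orderOf_dvd_card' (G := N) p hpd
  have hx1 : (x : G) ≠ 1 := by
    intro h
    have : x = 1 := Subtype.ext h
    rw [this, orderOf_one] at hx
    exact hp.one_lt.ne hx
  have hxp : (x : G) ^ p = 1 := by
    have := pow_orderOf_eq_one x
    rw [hx] at this
    exact_mod_cast congrArg Subtype.val this
  have hexp : ∀ n ∈ N, n ^ p = 1 := by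
    intro n hn
    by_cases hn1 : n = 1
    · rw [hn1, one_pow]
    · obtain ⟨g, rfl⟩ := exists_conj_of_regular h2 N hreg x.2 hn hx1 hn1
      rw [conj_pow, hxp]
      group
  refine ⟨?_, p, hp, hexp⟩
  have hpg : IsPGroup p N := by
    intro n
    refine ⟨1, ?_⟩
    apply Subtype.ext
    rw [pow_one]
    exact hexp n.1 n.2
  have hcen : Nontrivial (Subgroup.center N) := hpg.center_nontrivial
  -- a nontrivial central element; all non-identity elements are conjugate to it, hence central
  obtain ⟨z, hz1⟩ := exists_ne (1 : Subgroup.center N)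
  have hzc : (z : N) ∈ Subgroup.center N := z.2
  have hz1' : ((z : N) : G) ≠ 1 := by
    intro h
    exact hz1 (Subtype.ext (Subtype.ext h))
  have hall : ∀ n m : N, n * m = m * n := by
    intro n m
    by_cases hn1 : (n : G) = 1
    · have : n = 1 := Subtype.ext hn1
      rw [this, one_mul, mul_one]
    · obtain ⟨g, hg⟩ := exists_conj_of_regular h2 N hreg (z : N).2 n.2 hz1' hn1
      rw [Subgroup.mem_center_iff] at hzc
      have h1 := hzc ⟨g⁻¹ * m * g, hN.conj_mem' _ m.2 _⟩
      have h2 : g⁻¹ * (m : G) * g * ((z : N) : G) = ((z : N) : G) * (g⁻¹ * (m : G) * g) :=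
        congrArg Subtype.val h1
      apply Subtype.ext
      change (n : G) * (m : G) = m * n
      rw [← hg]
      calc g * ((z : N) : G) * g⁻¹ * (m : G)
          = g * (((z : N) : G) * (g⁻¹ * (m : G) * g)) * g⁻¹ := by group
        _ = g * (g⁻¹ * (m : G) * g * ((z : N) : G)) * g⁻¹ := by rw [h2]
        _ = (m : G) * (g * ((z : N) : G) * g⁻¹) := by group
  exact ⟨⟨hall⟩⟩

end TwoTransitive

section FixedPointFree

/-- In a transitive group with trivial two-point stabilisers there are exactly `n - 1`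
fixed-point-free elements. -/
theorem card_fixedPointFree {H : Type*} [Group H] [Finite H] {X : Type*} [Finite X] [Nonempty X]
    [MulAction H X] [IsPretransitive H X]
    (h1 : ∀ a b : X, a ≠ b → ∀ g : H, g • a = a → g • b = b → g = 1) :
    Nat.card {g : H // ∀ a : X, g • a ≠ a} + 1 = Nat.card X := by
  classical
  have := Fintype.ofFinite H
  have := Fintype.ofFinite X
  have hone : Fintype.card (Quotient (MulAction.orbitRel H X)) = 1 := by
    rw [Fintype.card_eq_one_iff_nonempty_unique]
    have : Subsingleton (Quotient (MulAction.orbitRel H X)) :=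
      (MulAction.pretransitive_iff_subsingleton_quotient H X).mp inferInstance
    obtain ⟨x⟩ := ‹Nonempty X›
    exact ⟨⟨⟨Quotient.mk'' x⟩, fun _ => Subsingleton.elim _ _⟩⟩
  have hB := MulAction.sum_card_fixedBy_eq_card_orbits_mul_card_group H X
  rw [hone, one_mul] at hB
  have hf1 : Fintype.card (fixedBy X (1 : H)) = Fintype.card X := by
    apply Fintype.card_congr
    refine ⟨fun x => x.1, fun x => ⟨x, by simp⟩, fun _ => rfl, fun _ => rfl⟩
  have hf : ∀ g : H, g ≠ 1 →
      Fintype.card (fixedBy X g) + (if ∀ a : X, g • a ≠ a then 1 else 0) = 1 := by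
    intro g hg
    split_ifs with hfp
    · have : IsEmpty (fixedBy X g) := ⟨fun x => hfp x.1 x.2⟩
      rw [Fintype.card_eq_zero]
    · push Not at hfp
      obtain ⟨a, ha⟩ := hfp
      rw [add_zero, Fintype.card_eq_one_iff]
      refine ⟨⟨a, ha⟩, ?_⟩
      rintro ⟨b, hb⟩
      apply Subtype.ext
      by_contra hne
      exact hg (h1 b a hne g hb ha)
  have hsum : ∑ g ∈ Finset.univ.erase (1 : H),
      (Fintype.card (fixedBy X g) + (if ∀ a : X, g • a ≠ a then 1 else 0)) =
      Fintype.card H - 1 := by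
    rw [Finset.sum_congr rfl (g := fun _ => 1)]
    · rw [Finset.sum_const, smul_eq_mul, mul_one, Finset.card_erase_of_mem (Finset.mem_univ _),
        Finset.card_univ]
    · intro g hg
      exact hf g (Finset.ne_of_mem_erase hg)
  rw [Finset.sum_add_distrib] at hsum
  rw [← Finset.add_sum_erase _ _ (Finset.mem_univ (1 : H)), hf1] at hB
  have hcnt : ∑ g ∈ Finset.univ.erase (1 : H), (if ∀ a : X, g • a ≠ a then 1 else 0) =
      Nat.card {g : H // ∀ a : X, g • a ≠ a} := by
    rw [Nat.card_eq_fintype_card, Fintype.card_subtype, Finset.card_filter,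
      ← Finset.add_sum_erase _ _ (Finset.mem_univ (1 : H))]
    rw [if_neg, zero_add]
    push Not
    obtain ⟨x⟩ := ‹Nonempty X›
    exact ⟨x, one_smul _ _⟩
  rw [hcnt] at hsum
  have hH : 0 < Fintype.card H := Fintype.card_pos
  rw [Nat.card_eq_fintype_card (α := X)]
  omega

variable {G : Type*} [Group G] [Finite G] {X : Type*} [Finite X] [Nontrivial X] [MulAction G X]

/-- Elementary Frobenius kernel: if `N` is a transitive normal subgroup of the finite 2-transitive
group `G` with trivial two-point stabilisers, then for `a ≠ b` there is a unique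
fixed-point-free element of `N` mapping `a` to `b`. -/
theorem existsUnique_fixedPointFree
    (h2 : ∀ a b c d : X, a ≠ b → c ≠ d → ∃ g : G, g • a = c ∧ g • b = d)
    (N : Subgroup G) [hN : N.Normal] [IsPretransitive N X]
    (h1 : ∀ a b : X, a ≠ b → ∀ g ∈ N, g • a = a → g • b = b → g = 1) (a b : X) (hab : a ≠ b) :
    ∃! k : {g : N // ∀ a : X, g • a ≠ a}, k.1 • a = b := by
  classical
  have := Fintype.ofFinite G
  have := Fintype.ofFinite X
  have := Fintype.ofFinite N
  let F := {g : N // ∀ a : X, g • a ≠ a}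
  have hFcard : Nat.card F + 1 = Nat.card X :=
    card_fixedPointFree (H := N) (X := X) (fun a b hab g ha hb =>
      Subtype.ext (h1 a b hab g.1 g.2 ha hb))
  -- count
  let c : X → X → ℕ := fun a b => Fintype.card {k : F // k.1 • a = b}
  have hc : ∀ a b a' b' : X, a ≠ b → a' ≠ b' → c a b = c a' b' := by
    intro a b a' b' hab hab'
    obtain ⟨g, hga, hgb⟩ := h2 a b a' b' hab hab'
    have hga' : g⁻¹ • a' = a := by rw [inv_smul_eq_iff, hga]
    have hgb' : g⁻¹ • b' = b := by rw [inv_smul_eq_iff, hgb]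
    have hconj : ∀ (g : G) (k : N), (∀ a : X, k • a ≠ a) →
        ∀ a : X, (⟨g * k * g⁻¹, hN.conj_mem _ k.2 _⟩ : N) • a ≠ a := by
      intro g k hk x hx
      have hx' : (g * (k : G) * g⁻¹) • x = x := hx
      apply hk (g⁻¹ • x)
      change (k : G) • g⁻¹ • x = g⁻¹ • x
      rw [eq_inv_smul_iff, ← mul_smul, ← mul_smul]
      exact hx'
    refine Fintype.card_congr
      { toFun := fun k => ⟨⟨⟨g * k.1.1 * g⁻¹, hN.conj_mem _ k.1.1.2 _⟩, hconj g k.1.1 k.1.2⟩, ?_⟩
        invFun := fun k => ⟨⟨⟨g⁻¹ * k.1.1 * g⁻¹⁻¹, hN.conj_mem _ k.1.1.2 _⟩,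
          hconj g⁻¹ k.1.1 k.1.2⟩, ?_⟩
        left_inv := ?_
        right_inv := ?_ }
    · change (g * (k.1.1 : G) * g⁻¹) • a' = b'
      have hk : (k.1.1 : G) • a = b := k.2
      rw [mul_smul, mul_smul, hga', hk, hgb]
    · change (g⁻¹ * (k.1.1 : G) * g⁻¹⁻¹) • a = b
      have hk : (k.1.1 : G) • a' = b' := k.2
      rw [mul_smul, mul_smul, inv_inv, hga, hk, hgb']
    · intro k
      apply Subtype.ext
      apply Subtype.ext
      apply Subtype.ext
      change g⁻¹ * (g * (k.1.1 : G) * g⁻¹) * g⁻¹⁻¹ = k.1.1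
      group
    · intro k
      apply Subtype.ext
      apply Subtype.ext
      apply Subtype.ext
      change g * (g⁻¹ * (k.1.1 : G) * g⁻¹⁻¹) * g⁻¹ = k.1.1
      group
  have hsum : Fintype.card F = ∑ b : X, c a b := by
    rw [← Fintype.card_sigma]
    apply Fintype.card_congr
    refine ⟨fun k => ⟨k.1 • a, ⟨k, rfl⟩⟩, fun k => k.2.1, fun _ => rfl, ?_⟩
    rintro ⟨b, ⟨k, rfl⟩⟩
    rfl
  have hcaa : c a a = 0 := by
    change Fintype.card {k : F // k.1 • a = a} = 0
    rw [Fintype.card_eq_zero_iff]
    exact ⟨fun k => k.1.2 a k.2⟩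
  rw [← Finset.add_sum_erase _ _ (Finset.mem_univ a), hcaa, zero_add,
    Finset.sum_congr rfl (g := fun _ => c a b)] at hsum
  · rw [Finset.sum_const, Finset.card_erase_of_mem (Finset.mem_univ _), Finset.card_univ,
      smul_eq_mul] at hsum
    rw [Nat.card_eq_fintype_card, Nat.card_eq_fintype_card] at hFcard
    have hX1 : 1 < Fintype.card X := Fintype.one_lt_card
    have hcab : c a b = 1 := by
      have h3 : Fintype.card X - 1 = Fintype.card F := by omega
      rw [h3] at hsum
      have h4 : 0 < Fintype.card F := by omega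
      have : Fintype.card F * c a b = Fintype.card F * 1 := by rw [← hsum, mul_one]
      exact Nat.eq_of_mul_eq_mul_left h4 this
    have hcab' : Fintype.card {k : F // k.1 • a = b} = 1 := hcab
    rw [Fintype.card_eq_one_iff] at hcab'
    obtain ⟨k, hk⟩ := hcab'
    refine ⟨k.1, k.2, ?_⟩
    intro l hl
    exact congrArg Subtype.val (hk ⟨l, hl⟩)
  · intro x hx
    exact hc a x a b (Finset.ne_of_mem_erase hx).symm hab

/-- Elementary Frobenius kernel for a transitive normal subgroup `N` (with trivial two-point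
stabilisers) of a finite 2-transitive group. -/
theorem exists_regular_normal_of_two_point_trivial
    (h2 : ∀ a b c d : X, a ≠ b → c ≠ d → ∃ g : G, g • a = c ∧ g • b = d)
    (N : Subgroup G) [hN : N.Normal] [IsPretransitive N X]
    (h1 : ∀ a b : X, a ≠ b → ∀ g ∈ N, g • a = a → g • b = b → g = 1) :
    ∃ K : Subgroup G, K.Normal ∧ K ≤ N ∧ IsPretransitive K X ∧
      (∀ a : X, stabilizer K a = ⊥) ∧
      ∀ g : G, g ∈ K ↔ g ∈ N ∧ (g = 1 ∨ ∀ a : X, g • a ≠ a) := by
  have hex := existsUnique_fixedPointFree h2 N h1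
  have huniq : ∀ a b : X, a ≠ b → ∀ k ∈ N, ∀ l ∈ N, (∀ x : X, k • x ≠ x) → (∀ x : X, l • x ≠ x) →
      k • a = b → l • a = b → k = l := by
    intro a b hab k hk l hl hk' hl' hka hla
    obtain ⟨u, -, hu⟩ := hex a b hab
    have e1 := hu ⟨⟨k, hk⟩, hk'⟩ hka
    have e2 := hu ⟨⟨l, hl⟩, hl'⟩ hla
    exact congrArg (fun z => ((z.1 : N) : G)) (e1.trans e2.symm)
  let K : Subgroup G :=
    { carrier := {g | g ∈ N ∧ (g = 1 ∨ ∀ a : X, g • a ≠ a)}
      one_mem' := ⟨N.one_mem, Or.inl rfl⟩
      inv_mem' := by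
        rintro g ⟨hg, hg'⟩
        refine ⟨N.inv_mem hg, ?_⟩
        rcases hg' with rfl | hg'
        · left; simp
        · right
          intro a ha
          apply hg' a
          rw [inv_smul_eq_iff] at ha
          exact ha.symm
      mul_mem' := by
        have inv_fpf : ∀ g : G, (∀ a : X, g • a ≠ a) → ∀ a : X, g⁻¹ • a ≠ a := by
          intro g hg a ha
          apply hg a
          rw [inv_smul_eq_iff] at ha
          exact ha.symm
        rintro x y ⟨hx, hx'⟩ ⟨hy, hy'⟩
        refine ⟨N.mul_mem hx hy, ?_⟩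
        rcases hx' with rfl | hx'
        · rw [one_mul]; exact hy'
        rcases hy' with rfl | hy'
        · rw [mul_one]; exact Or.inr hx'
        by_cases hxy : x * y = 1
        · exact Or.inl hxy
        · right
          intro a ha
          apply hxy
          rw [mul_smul, ← eq_inv_smul_iff] at ha
          have := huniq a (y • a) (fun h => hy' a h.symm) y hy x⁻¹ (N.inv_mem hx) hy'
            (inv_fpf x hx') rfl ha.symm
          rw [this, mul_inv_cancel] }
  have hmem : ∀ g : G, g ∈ K ↔ g ∈ N ∧ (g = 1 ∨ ∀ a : X, g • a ≠ a) := fun g => Iff.rfl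
  refine ⟨K, ⟨?_⟩, fun g hg => hg.1, ⟨?_⟩, ?_, hmem⟩
  · rintro n ⟨hn, hn'⟩ g
    refine ⟨hN.conj_mem _ hn _, ?_⟩
    rcases hn' with rfl | hn'
    · left; group
    · right
      intro a ha
      apply hn' (g⁻¹ • a)
      rw [eq_inv_smul_iff, ← mul_smul, ← mul_smul]
      exact ha
  · intro a b
    by_cases hab : a = b
    · exact ⟨1, by rw [hab, one_smul]⟩
    · obtain ⟨k, hk, -⟩ := hex a b hab
      exact ⟨⟨k.1.1, k.1.2, Or.inr k.2⟩, hk⟩
  · intro a
    rw [eq_bot_iff]
    rintro ⟨k, hk, hk'⟩ hka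
    rw [Subgroup.mem_bot]
    apply Subtype.ext
    rcases hk' with rfl | hk'
    · rfl
    · exact absurd hka (hk' a)

end FixedPointFree

section Simple

/-- The centraliser of a transitive group is semiregular (elementwise form). -/
theorem eq_of_commute_of_transitive {H : Type*} [Group H] {X : Type*} [MulAction H X]
    [FaithfulSMul H X] (M : Subgroup H) [IsPretransitive M X] {x : H}
    (hx : ∀ m ∈ M, m * x = x * m) {a : X} (ha : x • a = a) : x = 1 := by
  apply FaithfulSMul.eq_of_smul_eq_smul (α := X)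
  intro b
  obtain ⟨⟨m, hm⟩, rfl⟩ := exists_smul_eq M a b
  rw [one_smul]
  change x • m • a = m • a
  rw [← mul_smul, ← hx m hm, mul_smul, ha]

variable {G : Type*} [Group G] [Finite G] {X : Type*} [Finite X] [Nontrivial X] [MulAction G X]
  [FaithfulSMul G X]

omit [Finite G] [Finite X] [Nontrivial X] in
/-- A nontrivial normal subgroup of a primitive faithful group is transitive. -/
theorem isPretransitive_of_normal_of_ne_bot [IsPreprimitive G X] (M : Subgroup G) [M.Normal]
    (hM : M ≠ ⊥) : IsPretransitive M X := by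
  apply IsQuasiPreprimitive.isPretransitive_of_normal
  intro h
  apply hM
  rw [eq_bot_iff]
  intro m hm
  rw [Subgroup.mem_bot]
  apply FaithfulSMul.eq_of_smul_eq_smul (α := X)
  intro x
  have hx : x ∈ fixedPoints M X := by rw [h]; trivial
  rw [one_smul]
  exact hx ⟨m, hm⟩

/-- The main step of Burnside's theorem: simplicity. -/
theorem isSimpleGroup_of_primitive
    (h2 : ∀ a b c d : X, a ≠ b → c ≠ d → ∃ g : G, g • a = c ∧ g • b = d)
    (N : Subgroup G) [hN : N.Normal] (hNbot : N ≠ ⊥)
    (hmin : ∀ M : Subgroup G, M.Normal → M ≤ N → M = ⊥ ∨ M = N)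
    (hprim : IsPreprimitive N X)
    (hnr : ∃ a : X, stabilizer N a ≠ ⊥) : IsSimpleGroup N := by
  classical
  have hntr : Nontrivial N := (Subgroup.nontrivial_iff_ne_bot N).mpr hNbot
  -- minimality transferred to subgroups of `N`
  have hmin' : ∀ M : Subgroup N, (∀ g : G, ∀ m : N, m ∈ M →
      (⟨g * m * g⁻¹, hN.conj_mem _ m.2 _⟩ : N) ∈ M) → M = ⊥ ∨ M = ⊤ := by
    intro M hM
    have hnorm : (M.map N.subtype).Normal := by
      refine ⟨?_⟩
      rintro _ ⟨m, hm, rfl⟩ g
      exact ⟨_, hM g m hm, rfl⟩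
    rcases hmin _ hnorm (Subgroup.map_subtype_le M) with h | h
    · left
      rw [eq_bot_iff]
      intro m hm
      have : (m : G) ∈ M.map N.subtype := ⟨m, hm, rfl⟩
      rw [h, Subgroup.mem_bot] at this
      rw [Subgroup.mem_bot]
      exact Subtype.ext this
    · right
      rw [eq_top_iff]
      intro m _
      have : (m : G) ∈ M.map N.subtype := by rw [h]; exact m.2
      obtain ⟨m', hm', he⟩ := this
      have : m' = m := Subtype.ext he
      exact this ▸ hm'
  refine { exists_pair_ne := hntr.exists_pair_ne, eq_bot_or_eq_top_of_normal := ?_ }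
  intro M hM
  by_contra hcon
  push Not at hcon
  obtain ⟨hMbot, hMtop⟩ := hcon
  -- choose a minimal normal subgroup
  obtain ⟨M₀, hM₀le, hM₀⟩ : ∃ M₀ ≤ M, Minimal (fun L : Subgroup N => L.Normal ∧ L ≠ ⊥) M₀ :=
    exists_minimal_le_of_wellFoundedLT (fun L : Subgroup N => L.Normal ∧ L ≠ ⊥) M ⟨hM, hMbot⟩
  have hM₀n : M₀.Normal := hM₀.prop.1
  have hM₀b : M₀ ≠ ⊥ := hM₀.prop.2
  have hM₀t : M₀ ≠ ⊤ := by
    intro h
    exact hMtop (top_le_iff.mp (h ▸ hM₀le))
  have hM₀min : ∀ L : Subgroup N, L.Normal → L ≤ M₀ → L = ⊥ ∨ L = M₀ := by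
    intro L hL hle
    by_cases hb : L = ⊥
    · exact Or.inl hb
    · right
      exact le_antisymm hle (hM₀.le_of_le ⟨hL, hb⟩ hle)
  -- conjugates
  let cj : G → Subgroup N := fun g => M₀.map (MulAut.conjNormal g : MulAut N).toMonoidHom
  have hcjmem : ∀ (g : G) (x : N), x ∈ cj g ↔
      (⟨g⁻¹ * x * g, hN.conj_mem' _ x.2 _⟩ : N) ∈ M₀ := by
    intro g x
    constructor
    · rintro ⟨m, hm, rfl⟩
      have : (⟨g⁻¹ * ((MulAut.conjNormal g : MulAut N) m : N) * g,
          hN.conj_mem' _ ((MulAut.conjNormal g : MulAut N) m).2 _⟩ : N) = m := by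
        apply Subtype.ext
        change g⁻¹ * (((MulAut.conjNormal g : MulAut N) m : N) : G) * g = m
        rw [MulAut.conjNormal_apply]
        group
      change (⟨g⁻¹ * ((MulAut.conjNormal g : MulAut N) m : N) * g,
          hN.conj_mem' _ ((MulAut.conjNormal g : MulAut N) m).2 _⟩ : N) ∈ M₀
      rw [this]
      exact hm
    · intro h
      refine ⟨_, h, ?_⟩
      apply Subtype.ext
      change (((MulAut.conjNormal g : MulAut N) _ : N) : G) = x
      rw [MulAut.conjNormal_apply]
      change g * (g⁻¹ * (x : G) * g) * g⁻¹ = x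
      group
  have hcjn : ∀ g, (cj g).Normal := by
    intro g
    exact hM₀n.map _ (MulAut.conjNormal g : MulAut N).surjective
  have hcjcard : ∀ g, Nat.card (cj g) = Nat.card M₀ := by
    intro g
    exact Subgroup.card_map_of_injective (MulAut.conjNormal g : MulAut N).injective
  -- there is a conjugate different from `M₀`
  obtain ⟨g₁, hg₁⟩ : ∃ g, cj g ≠ M₀ := by
    by_contra hcon
    push Not at hcon
    rcases hmin' M₀ (by
      intro g m hm
      rw [← hcon g, hcjmem]
      have : (⟨g⁻¹ * (g * (m : G) * g⁻¹) * g, hN.conj_mem' _ (hN.conj_mem _ m.2 _) _⟩ : N) = m := by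
        apply Subtype.ext
        change g⁻¹ * (g * (m : G) * g⁻¹) * g = m
        group
      change (⟨g⁻¹ * (g * (m : G) * g⁻¹) * g, hN.conj_mem' _ (hN.conj_mem _ m.2 _) _⟩ : N) ∈ M₀
      rw [this]
      exact hm) with h | h
    · exact hM₀b h
    · exact hM₀t h
  have hdisj : ∀ g, cj g ≠ M₀ → Disjoint M₀ (cj g) := by
    intro g hg
    rw [disjoint_iff]
    have := hcjn g
    rcases hM₀min (M₀ ⊓ cj g) inferInstance inf_le_left with h | h
    · exact h
    · exfalso
      apply hg
      symm
      apply Subgroup.eq_of_le_of_card_ge (inf_eq_left.mp h)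
      rw [hcjcard]
  have hcomm : ∀ g, cj g ≠ M₀ → ∀ x ∈ cj g, ∀ m ∈ M₀, m * x = x * m := by
    intro g hg x hx m hm
    exact Subgroup.commute_of_normal_of_disjoint M₀ (cj g) hM₀n (hcjn g) (hdisj g hg) m x hm hx
  have hM₀tr : IsPretransitive M₀ X := isPretransitive_of_normal_of_ne_bot M₀ hM₀b
  have hcjb : ∀ g, cj g ≠ ⊥ := by
    intro g h
    have := hcjcard g
    rw [h, Subgroup.card_bot] at this
    exact hM₀b (Subgroup.card_eq_one.mp this.symm)
  have hcjtr : ∀ g, IsPretransitive (cj g) X := by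
    intro g
    have := hcjn g
    exact isPretransitive_of_normal_of_ne_bot (cj g) (hcjb g)
  -- all conjugates are `M₀` or `cj g₁`
  have htwo : ∀ g, cj g = M₀ ∨ cj g = cj g₁ := by
    intro g
    by_cases hg : cj g = M₀
    · exact Or.inl hg
    right
    apply Subgroup.eq_of_le_of_card_ge
    · intro x hx
      -- `x` commutes with `M₀`; find `y ∈ cj g₁` with `y • a = x • a`
      obtain ⟨a⟩ : Nonempty X := inferInstance
      have := hcjtr g₁
      obtain ⟨⟨y, hy⟩, hya⟩ := exists_smul_eq (cj g₁) a (x • a)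
      have hya' : y • a = x • a := hya
      have h1 : y⁻¹ * x = 1 := by
        apply eq_of_commute_of_transitive M₀ (a := a)
        · intro m hm
          have e1 := hcomm g hg x hx m hm
          have e2 := hcomm g₁ hg₁ y⁻¹ (inv_mem hy) m hm
          rw [← mul_assoc, e2, mul_assoc, e1, mul_assoc]
        · rw [mul_smul, ← hya', inv_smul_smul]
      rw [← inv_mul_eq_one.mp h1]
      exact hy
    · rw [hcjcard, hcjcard]
  -- the join is everything
  have hconjcj : ∀ (g h : G) (x : N), x ∈ cj h →
      (⟨g * x * g⁻¹, hN.conj_mem _ x.2 _⟩ : N) ∈ cj (g * h) := by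
    intro g h x hx
    rw [hcjmem] at hx ⊢
    have : (⟨(g * h)⁻¹ * (g * (x : G) * g⁻¹) * (g * h),
        hN.conj_mem' _ (hN.conj_mem _ x.2 _) _⟩ : N) =
        ⟨h⁻¹ * x * h, hN.conj_mem' _ x.2 _⟩ := by
      apply Subtype.ext
      change (g * h)⁻¹ * (g * (x : G) * g⁻¹) * (g * h) = h⁻¹ * x * h
      group
    change (⟨(g * h)⁻¹ * (g * (x : G) * g⁻¹) * (g * h),
        hN.conj_mem' _ (hN.conj_mem _ x.2 _) _⟩ : N) ∈ M₀
    rw [this]
    exact hx
  have hcj1 : cj 1 = M₀ := by
    ext x
    rw [hcjmem]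
    have : (⟨(1 : G)⁻¹ * x * 1, hN.conj_mem' _ x.2 _⟩ : N) = x := by
      apply Subtype.ext
      change (1 : G)⁻¹ * x * 1 = x
      group
    rw [this]
  have hle : ∀ g, cj g ≤ M₀ ⊔ cj g₁ := by
    intro g
    rcases htwo g with h | h
    · rw [h]; exact le_sup_left
    · rw [h]; exact le_sup_right
  have hL : M₀ ⊔ cj g₁ = ⊤ := by
    refine (hmin' _ ?_).resolve_left ?_
    · intro g m hm
      have hcc : ∀ x : N, (MulAut.conjNormal g : MulAut N).toMonoidHom x =
          (⟨g * x * g⁻¹, hN.conj_mem _ x.2 _⟩ : N) := by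
        intro x
        apply Subtype.ext
        exact MulAut.conjNormal_apply g x
      have hle2 : M₀ ⊔ cj g₁ ≤ (M₀ ⊔ cj g₁).comap (MulAut.conjNormal g : MulAut N).toMonoidHom := by
        apply sup_le
        · intro x hx
          rw [Subgroup.mem_comap]
          rw [hcc]
          exact hle _ (hconjcj g 1 x (by rw [hcj1]; exact hx))
        · intro x hx
          rw [Subgroup.mem_comap]
          rw [hcc]
          exact hle _ (hconjcj g g₁ x hx)
      have h4 := hle2 hm
      rw [Subgroup.mem_comap, hcc] at h4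
      exact h4
    · intro h
      exact hM₀b (le_bot_iff.mp (h ▸ le_sup_left))
  -- count
  have hcardN : Nat.card N = Nat.card M₀ * Nat.card M₀ := by
    have hc : Subgroup.IsComplement' M₀ (cj g₁) := by
      apply Subgroup.isComplement'_of_disjoint_and_mul_eq_univ (hdisj g₁ hg₁)
      have := hcjn g₁
      rw [← Subgroup.mul_normal, hL, Subgroup.coe_top]
    rw [← hc.card_mul_card, hcjcard]
  have hM₀reg : ∀ x ∈ M₀, ∀ a : X, x • a = a → x = 1 := by
    intro x hx a ha
    have := hcjtr g₁
    apply eq_of_commute_of_transitive (cj g₁) (a := a) (x := x) _ ha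
    intro y hy
    exact (hcomm g₁ hg₁ y hy x hx).symm
  have hM₀card : Nat.card M₀ = Nat.card X := by
    obtain ⟨a⟩ : Nonempty X := inferInstance
    have h1 := MulAction.index_stabilizer_of_transitive M₀ a
    have h3 : stabilizer M₀ a = ⊥ := by
      rw [eq_bot_iff]
      rintro ⟨x, hx⟩ hxa
      rw [Subgroup.mem_bot]
      exact Subtype.ext (hM₀reg x hx a hxa)
    rw [h3, Subgroup.index_bot] at h1
    exact h1
  -- order of point stabilisers
  have hXpos : 0 < Nat.card X := Nat.card_pos
  have hstab : ∀ a : X, Nat.card (stabilizer N a) = Nat.card X := by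
    intro a
    have h1 := (stabilizer N a).index_mul_card
    rw [MulAction.index_stabilizer_of_transitive N a, hcardN, hM₀card] at h1
    exact Nat.eq_of_mul_eq_mul_left hXpos h1
  -- the common index of two-point stabilisers
  obtain ⟨a, ha⟩ := hnr
  obtain ⟨b, hba⟩ := exists_ne a
  set m := Nat.card ↥(stabilizer N a ⊓ stabilizer N b) with hm
  have hmall : ∀ c : X, c ≠ a → Nat.card ↥(stabilizer N a ⊓ stabilizer N c) = m := by
    intro c hc
    exact card_inf_stabilizer_eq h2 N hc.symm hba.symm
  have hmpos : 0 < m := Nat.card_pos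
  set h := Nat.card X / m with hh
  have hidx : ∀ c : X, c ≠ a → (stabilizer (stabilizer N a) c).index * m = Nat.card X := by
    intro c hc
    have h1 := card_eq_index_mul (stabilizer N a) c
    rw [hmall c hc, hstab] at h1
    exact h1
  have hidx' : ∀ c : X, c ≠ a → (stabilizer (stabilizer N a) c).index = h := by
    intro c hc
    rw [hh, ← hidx c hc, Nat.mul_div_cancel _ hmpos]
  have hd1 : h ∣ ({a}ᶜ : Set X).ncard := by
    apply dvd_ncard_of_index_stabilizer_eq (G := stabilizer N a) (Set.toFinite _)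
    · rintro ⟨g, hg⟩ x hx hx'
      apply hx
      rw [Set.mem_singleton_iff] at hx' ⊢
      have hx'' : g • x = a := hx'
      have hga : g • a = a := hg
      rw [← hga] at hx''
      exact MulAction.injective g hx''
    · intro x hx
      exact hidx' x hx
  have hd2 : h ∣ Nat.card X := ⟨m, by rw [← hidx b hba, hidx' b hba]⟩
  have hcompl : ({a}ᶜ : Set X).ncard + 1 = Nat.card X := by
    have := Set.ncard_add_ncard_compl ({a} : Set X)
    rw [Set.ncard_singleton] at this
    omega
  have hh1 : h = 1 := by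
    rw [← hcompl] at hd2
    exact Nat.dvd_one.mp ((Nat.dvd_add_right hd1).mp hd2)
  -- so the point stabiliser is trivial
  apply ha
  rw [eq_bot_iff]
  intro x hx
  rw [Subgroup.mem_bot]
  apply FaithfulSMul.eq_of_smul_eq_smul (α := X)
  intro c
  rw [one_smul]
  by_cases hc : c = a
  · rw [hc]; exact hx
  · have h1 := hidx' c hc
    rw [hh1, Subgroup.index_eq_one] at h1
    have : (⟨x, hx⟩ : stabilizer N a) ∈ stabilizer (stabilizer N a) c := by rw [h1]; trivial
    exact this

/-- **Burnside's theorem** on minimal normal subgroups of finite 2-transitive groups. -/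
theorem burnside_minimal_normal
    (h2 : ∀ a b c d : X, a ≠ b → c ≠ d → ∃ g : G, g • a = c ∧ g • b = d)
    (N : Subgroup G) [hN : N.Normal] (hNbot : N ≠ ⊥)
    (hmin : ∀ M : Subgroup G, M.Normal → M ≤ N → M = ⊥ ∨ M = N) :
    (IsMulCommutative N ∧ (∃ p : ℕ, p.Prime ∧ ∀ n ∈ N, n ^ p = 1) ∧
      ∀ a : X, stabilizer N a = ⊥) ∨ (IsSimpleGroup N ∧ IsPreprimitive N X) := by
  by_cases hreg : ∀ a : X, stabilizer N a = ⊥
  · left
    obtain ⟨h1, h3⟩ := regular_normal_elementary_abelian h2 N hreg
    exact ⟨h1, h3, hreg⟩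
  right
  have hGprim : IsPreprimitive G X := by
    apply isPreprimitive_of_is_two_pretransitive
    rw [is_two_pretransitive_iff]
    intro a b c d hab hcd
    exact h2 a b c d hab hcd
  have hNtr : IsPretransitive N X := isPretransitive_of_normal_of_ne_bot N hNbot
  have hprim : IsPreprimitive N X := by
    obtain ⟨a, b, hab⟩ := exists_pair_ne X
    rcases isPreprimitive_or_of_card_inf_stabilizer_eq (G := N) (X := X)
      (m := Nat.card ↥(stabilizer N a ⊓ stabilizer N b))
      (fun c d hcd => card_inf_stabilizer_eq h2 N hcd hab) with h | h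
    · exact h
    · exfalso
      obtain ⟨K, hKn, hKN, hKt, hKr, -⟩ := exists_regular_normal_of_two_point_trivial h2 N (by
        intro a b hab g hg ha hb
        apply FaithfulSMul.eq_of_smul_eq_smul (α := X)
        intro x
        rw [one_smul]
        exact h a b hab ⟨g, hg⟩ ⟨ha, hb⟩ x)
      rcases hmin K hKn hKN with hK | hK
      · obtain ⟨⟨k, hk⟩, hkb⟩ := exists_smul_eq K a b
        rw [hK, Subgroup.mem_bot] at hk
        subst hk
        apply hab
        have : (1 : G) • a = b := hkb
        rw [one_smul] at this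
        exact this
      · subst hK
        exact hreg hKr
  push Not at hreg
  exact ⟨isSimpleGroup_of_primitive h2 N hNbot hmin hprim hreg, hprim⟩

end Simple

end Cfsg.Agent.PermutationGroups.TwoTransitiveNormal
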