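import Mathlib.Algebra.Algebra.ZMod
import Mathlib.Algebra.Field.ZMod
import Mathlib.FieldTheory.Finiteness
import Mathlib.LinearAlgebra.FreeModule.Finite.Matrix
import Mathlib.LinearAlgebra.FreeModule.PID
import Mathlib.LinearAlgebra.Matrix.FiniteDimensional
import Mathlib.RingTheory.IntegralDomain
import Mathlib.RingTheory.LittleWedderburn
import Mathlib.GroupTheory.SpecificGroups.Cyclic
import Mathlib.GroupTheory.Subgroup.Centralizer
import Mathlib.Tactic
set_option linter.all false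

/-!
# Linear groups transitive (regular) on the non-zero vectors of a finite space

`H ≤ GL(V)` transitive on `V \ {0}`, `N` normal in `H`:
* `simple_orbit`: every cyclic module of a subalgebra normalised by `H` is simple;
* `irreducible_of_normal_nonabelian`: a non-abelian normal subgroup is irreducible;
* `commute_of_irreducible`: the centraliser of an irreducible set is commutative (Schur+Wedderburn);
* `isCyclic_of_free`: an abelian group acting freely on non-zero vectors is cyclic.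
-/

set_option autoImplicit false

namespace Cfsg.Agent.PermutationGroups.RegularLinear

open Module

variable {p : ℕ} [Fact p.Prime] {V : Type*} [AddCommGroup V] [Module (ZMod p) V]

theorem finite_end [Finite V] : Finite (End (ZMod p) V) :=
  Finite.of_injective (fun f : End (ZMod p) V => (f : V → V)) DFunLike.coe_injective

theorem finite_gl [Finite V] : Finite (V ≃ₗ[ZMod p] V) :=
  Finite.of_injective (fun f : V ≃ₗ[ZMod p] V => (f : V → V)) DFunLike.coe_injective

/-- If a subalgebra `K` of `End V` is normalised by a group transitive on nonzero vectors, every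
`K v` (`v ≠ 0`) is a simple `K`-module. -/
theorem simple_orbit [Finite V] [Nontrivial V] (K : Subalgebra (ZMod p) (End (ZMod p) V))
    (H : Subgroup (V ≃ₗ[ZMod p] V))
    (htr : ∀ v w : V, v ≠ 0 → w ≠ 0 → ∃ h ∈ H, h v = w)
    (hnorm : ∀ h ∈ H, ∀ k ∈ K, h.conjAlgEquiv (ZMod p) k ∈ K) :
    ∀ v : V, v ≠ 0 → ∀ k ∈ K, k v ≠ 0 → ∃ k' ∈ K, k' (k v) = v := by
  classical
  -- a vector with minimal orbit
  obtain ⟨v₀, hv₀, hP⟩ : ∃ v₀ : V, v₀ ≠ 0 ∧ ∀ k ∈ K, k v₀ ≠ 0 → ∃ k' ∈ K, k' (k v₀) = v₀ := by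
    obtain ⟨u, hu⟩ := exists_ne (0 : V)
    have : Nonempty {v : V // v ≠ 0} := ⟨⟨u, hu⟩⟩
    obtain ⟨⟨v₀, hv₀⟩, hmin⟩ := Finite.exists_min
      (fun v : {v : V // v ≠ 0} => ({w | ∃ k ∈ K, k v.1 = w} : Set V).ncard)
    refine ⟨v₀, hv₀, fun k hk hkv => ?_⟩
    have h1 := hmin ⟨k v₀, hkv⟩
    simp only at h1
    have hsub : ({w | ∃ k' ∈ K, k' (k v₀) = w} : Set V) ⊆ {w | ∃ k' ∈ K, k' v₀ = w} := by
      rintro w ⟨k', hk', rfl⟩
      exact ⟨k' * k, K.mul_mem hk' hk, rfl⟩
    have heq := Set.eq_of_subset_of_ncard_le hsub h1 (Set.toFinite _)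
    have : v₀ ∈ ({w | ∃ k' ∈ K, k' v₀ = w} : Set V) := ⟨1, K.one_mem, rfl⟩
    rw [← heq] at this
    exact this
  intro v hv k hk hkv
  obtain ⟨h, hh, rfl⟩ := htr v₀ v hv₀ hv
  have hk2 := hnorm h⁻¹ (H.inv_mem hh) k hk
  have e1 : (h⁻¹.conjAlgEquiv (ZMod p) k) v₀ = h.symm (k (h v₀)) := rfl
  have hne : (h⁻¹.conjAlgEquiv (ZMod p) k) v₀ ≠ 0 := by
    rw [e1]
    intro h0
    apply hkv
    have := congrArg h h0
    rw [map_zero] at this
    rwa [LinearEquiv.apply_symm_apply] at this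
  obtain ⟨k', hk', hk'e⟩ := hP _ hk2 hne
  refine ⟨h.conjAlgEquiv (ZMod p) k', hnorm h hh k' hk', ?_⟩
  have : (h.conjAlgEquiv (ZMod p) k') (k (h v₀)) = h (k' (h.symm (k (h v₀)))) := rfl
  rw [this]
  rw [e1] at hk'e
  exact congrArg h hk'e

/-- If all `K v` are simple and `K` is commutative, non-zero elements of `K` are injective. -/
theorem injective_of_comm (K : Subalgebra (ZMod p) (End (ZMod p) V))
    (hcomm : ∀ a ∈ K, ∀ b ∈ K, a * b = b * a)
    (hP : ∀ v : V, v ≠ 0 → ∀ k ∈ K, k v ≠ 0 → ∃ k' ∈ K, k' (k v) = v) :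
    ∀ k ∈ K, ∀ v : V, v ≠ 0 → k v = 0 → k = 0 := by
  intro k hk v hv hkv
  by_contra hk0
  obtain ⟨w, hw⟩ : ∃ w, k w ≠ 0 := by
    by_contra hcon
    push Not at hcon
    exact hk0 (LinearMap.ext hcon)
  have hw0 : w ≠ 0 := by rintro rfl; simp at hw
  have hkvw : k (v + w) = k w := by rw [map_add, hkv, zero_add]
  have hvw : v + w ≠ 0 := by
    intro h0
    rw [h0, map_zero] at hkvw
    exact hw hkvw.symm
  obtain ⟨k', hk', e'⟩ := hP (v + w) hvw k hk (by rw [hkvw]; exact hw)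
  obtain ⟨k'', hk'', e''⟩ := hP w hw0 k hk hw
  rw [hkvw] at e'
  set c := (k' - k'') * k with hc
  have hcK : c ∈ K := K.mul_mem (K.sub_mem hk' hk'') hk
  have hcw : c w = v := by
    rw [hc]
    change (k' - k'') (k w) = v
    rw [LinearMap.sub_apply, e', e'', add_sub_cancel_right]
  obtain ⟨d, hd, ed⟩ := hP w hw0 c hcK (by rw [hcw]; exact hv)
  rw [hcw] at ed
  apply hw
  rw [← ed]
  have : k (d v) = d (k v) := by
    change (k * d) v = (d * k) v
    rw [hcomm k hk d hd]
  rw [this, hkv, map_zero]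

/-- If all `K v` are simple and `K` has a proper non-zero invariant subspace, then non-zero
elements of `K` are injective. -/
theorem injective_of_reducible (K : Subalgebra (ZMod p) (End (ZMod p) V))
    (hP : ∀ v : V, v ≠ 0 → ∀ k ∈ K, k v ≠ 0 → ∃ k' ∈ K, k' (k v) = v)
    (W : Submodule (ZMod p) V) (hW0 : W ≠ ⊥) (hW1 : W ≠ ⊤)
    (hWK : ∀ k ∈ K, ∀ v ∈ W, k v ∈ W) :
    ∀ k ∈ K, ∀ v : V, v ≠ 0 → k v = 0 → k = 0 := by
  obtain ⟨u, huW, hu0⟩ := W.exists_mem_ne_zero_of_ne_bot hW0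
  obtain ⟨x, hx⟩ : ∃ x, x ∉ W := by
    by_contra hc
    push Not at hc
    exact hW1 (by ext x; simp [hc x])
  -- `K v ≠ V`
  have hne : ∀ v : V, v ≠ 0 → ∃ w, ∀ k ∈ K, k v ≠ w := by
    intro v hv
    by_contra hcon
    push Not at hcon
    obtain ⟨k, hk, hkv⟩ := hcon u
    obtain ⟨k', hk', e⟩ := hP v hv k hk (by rw [hkv]; exact hu0)
    have hvW : v ∈ W := by
      rw [← e, hkv]; exact hWK k' hk' u huW
    obtain ⟨k2, hk2, hk2v⟩ := hcon x
    exact hx (by rw [← hk2v]; exact hWK k2 hk2 v hvW)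
  intro k hk v hv hkv
  have hout : ∀ w, (∀ k ∈ K, k v ≠ w) → k w = 0 := by
    intro w hw
    by_contra hkw
    have hw0 : w ≠ 0 := by
      rintro rfl
      exact hw 0 K.zero_mem rfl
    have hkvw : k (v + w) = k w := by rw [map_add, hkv, zero_add]
    have hvw : v + w ≠ 0 := by
      intro h0
      rw [h0, map_zero] at hkvw
      exact hkw hkvw.symm
    obtain ⟨k', hk', e'⟩ := hP (v + w) hvw k hk (by rw [hkvw]; exact hkw)
    obtain ⟨k'', hk'', e''⟩ := hP w hw0 k hk hkw
    rw [hkvw] at e'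
    set c := (k' - k'') * k with hc
    have hcK : c ∈ K := K.mul_mem (K.sub_mem hk' hk'') hk
    have hcw : c w = v := by
      rw [hc]
      change (k' - k'') (k w) = v
      rw [LinearMap.sub_apply, e', e'', add_sub_cancel_right]
    obtain ⟨d, hd, ed⟩ := hP w hw0 c hcK (by rw [hcw]; exact hv)
    rw [hcw] at ed
    exact hw d hd ed
  obtain ⟨w₀, hw₀⟩ := hne v hv
  apply LinearMap.ext
  intro y
  rw [LinearMap.zero_apply]
  by_cases hy : ∀ k ∈ K, k v ≠ y
  · exact hout y hy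
  · push Not at hy
    obtain ⟨k2, hk2, e2⟩ := hy
    have h3 : ∀ k ∈ K, k v ≠ y + w₀ := by
      intro k3 hk3 e3
      refine hw₀ (k3 - k2) (K.sub_mem hk3 hk2) ?_
      rw [LinearMap.sub_apply, e3, e2, add_sub_cancel_left]
    have h4 := hout _ h3
    rw [map_add, hout w₀ hw₀, add_zero] at h4
    exact h4

/-- A subalgebra of `End V` all of whose non-zero elements are injective has no zero divisors. -/
theorem isDomain_of_injective [Nontrivial V] (K : Subalgebra (ZMod p) (End (ZMod p) V))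
    (hinj : ∀ k ∈ K, ∀ v : V, v ≠ 0 → k v = 0 → k = 0) : IsDomain K := by
  have hKnz : NoZeroDivisors K := by
    refine ⟨fun {a b} hab => ?_⟩
    by_contra hcon
    push Not at hcon
    obtain ⟨ha, hb⟩ := hcon
    have hab' : (a : End (ZMod p) V) * b = 0 := congrArg Subtype.val hab
    obtain ⟨v, hv⟩ : ∃ v, (b : End (ZMod p) V) v ≠ 0 := by
      by_contra hc
      push Not at hc
      exact hb (Subtype.ext (LinearMap.ext hc))
    have : (a : End (ZMod p) V) = 0 := by
      refine hinj a a.2 _ hv ?_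
      exact DFunLike.congr_fun hab' v
    exact ha (Subtype.ext this)
  exact NoZeroDivisors.to_isDomain K

/-- Wedderburn: such a subalgebra is commutative (`V` finite). -/
theorem comm_of_injective [Finite V] [Nontrivial V] (K : Subalgebra (ZMod p) (End (ZMod p) V))
    (hinj : ∀ k ∈ K, ∀ v : V, v ≠ 0 → k v = 0 → k = 0) :
    ∀ a ∈ K, ∀ b ∈ K, a * b = b * a := by
  have := isDomain_of_injective K hinj
  have : Finite (End (ZMod p) V) := finite_end
  have hF : IsField K := Finite.isDomain_to_isField K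
  intro a ha b hb
  exact congrArg Subtype.val (hF.mul_comm ⟨a, ha⟩ ⟨b, hb⟩)

/-- The subalgebra spanned by a subgroup of `H`. -/
noncomputable def groupAlg {H : Subgroup (V ≃ₗ[ZMod p] V)} (N : Subgroup H) :
    Subalgebra (ZMod p) (End (ZMod p) V) :=
  Algebra.adjoin (ZMod p)
    ((fun a : H => ((a : V ≃ₗ[ZMod p] V) : End (ZMod p) V)) '' (N : Set H))

theorem coe_mem_groupAlg {H : Subgroup (V ≃ₗ[ZMod p] V)} (N : Subgroup H) {a : H} (ha : a ∈ N) :
    ((a : V ≃ₗ[ZMod p] V) : End (ZMod p) V) ∈ groupAlg N :=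
  Algebra.subset_adjoin ⟨a, ha, rfl⟩

theorem conj_mem_groupAlg {H : Subgroup (V ≃ₗ[ZMod p] V)} (N : Subgroup H) (hN : N.Normal) :
    ∀ h ∈ H, ∀ k ∈ groupAlg N, h.conjAlgEquiv (ZMod p) k ∈ groupAlg N := by
  intro h hh k hk
  have hmap : (groupAlg N).map
      (h.conjAlgEquiv (ZMod p) : End (ZMod p) V →ₐ[ZMod p] End (ZMod p) V) ≤ groupAlg N := by
    rw [groupAlg, AlgHom.map_adjoin]
    refine Algebra.adjoin_mono ?_
    rintro _ ⟨_, ⟨a, ha, rfl⟩, rfl⟩
    refine ⟨⟨h, hh⟩ * a * ⟨h, hh⟩⁻¹, hN.conj_mem a ha ⟨h, hh⟩, ?_⟩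
    ext v
    rfl
  exact hmap ⟨k, hk, rfl⟩

theorem groupAlg_apply_mem {H : Subgroup (V ≃ₗ[ZMod p] V)} (N : Subgroup H)
    (W : Submodule (ZMod p) V) (hW : ∀ a ∈ N, ∀ v ∈ W, ((a : H) : V ≃ₗ[ZMod p] V) v ∈ W) :
    ∀ k ∈ groupAlg N, ∀ v ∈ W, k v ∈ W := by
  intro k hk
  refine Algebra.adjoin_induction (p := fun k _ => ∀ v ∈ W, k v ∈ W) ?_ ?_ ?_ ?_ hk
  · rintro _ ⟨a, ha, rfl⟩ v hv
    exact hW a ha v hv
  · intro r v hv
    rw [Module.algebraMap_end_apply]
    exact W.smul_mem r hv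
  · intro x y _ _ hx hy v hv
    exact W.add_mem (hx v hv) (hy v hv)
  · intro x y _ _ hx hy v hv
    exact hx _ (hy v hv)

theorem groupAlg_comm {H : Subgroup (V ≃ₗ[ZMod p] V)} (A : Subgroup H) (hA : IsMulCommutative A) :
    ∀ a ∈ groupAlg A, ∀ b ∈ groupAlg A, a * b = b * a := by
  have hScomm : ∀ x ∈ ((fun a : H => ((a : V ≃ₗ[ZMod p] V) : End (ZMod p) V)) '' (A : Set H)),
      ∀ y ∈ ((fun a : H => ((a : V ≃ₗ[ZMod p] V) : End (ZMod p) V)) '' (A : Set H)),
      x * y = y * x := by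
    rintro _ ⟨a, ha, rfl⟩ _ ⟨b, hb, rfl⟩
    have := congrArg Subtype.val (hA.is_comm.comm ⟨a, ha⟩ ⟨b, hb⟩)
    have h2 : (a : V ≃ₗ[ZMod p] V) * b = b * a := congrArg Subtype.val this
    ext v
    exact DFunLike.congr_fun h2 v
  have hKc : IsMulCommutative (groupAlg A) := Algebra.isMulCommutative_adjoin (ZMod p) hScomm
  intro a ha b hb
  exact congrArg Subtype.val (hKc.is_comm.comm ⟨a, ha⟩ ⟨b, hb⟩)

theorem commutative_of_groupAlg_comm {H : Subgroup (V ≃ₗ[ZMod p] V)} (N : Subgroup H)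
    (h : ∀ a ∈ groupAlg N, ∀ b ∈ groupAlg N, a * b = b * a) : IsMulCommutative N := by
  refine ⟨⟨fun a b => ?_⟩⟩
  have h1 := h _ (coe_mem_groupAlg N a.2) _ (coe_mem_groupAlg N b.2)
  apply Subtype.ext
  apply Subtype.ext
  ext v
  exact DFunLike.congr_fun h1 v

/-- In a linear group transitive on non-zero vectors, every `F_p[N] v`, `N` normal, is simple. -/
theorem groupAlg_simple_orbit [Finite V] [Nontrivial V] (H : Subgroup (V ≃ₗ[ZMod p] V))
    (htr : ∀ v w : V, v ≠ 0 → w ≠ 0 → ∃ h ∈ H, h v = w) (N : Subgroup H) (hN : N.Normal) :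
    ∀ v : V, v ≠ 0 → ∀ k ∈ groupAlg N, k v ≠ 0 → ∃ k' ∈ groupAlg N, k' (k v) = v :=
  simple_orbit (groupAlg N) H htr (conj_mem_groupAlg N hN)

/-- The algebra generated by an abelian normal subgroup consists of `0` and injective maps. -/
theorem groupAlg_injective_of_comm [Finite V] [Nontrivial V] (H : Subgroup (V ≃ₗ[ZMod p] V))
    (htr : ∀ v w : V, v ≠ 0 → w ≠ 0 → ∃ h ∈ H, h v = w) (A : Subgroup H) (hA : A.Normal)
    (hAc : IsMulCommutative A) :
    ∀ k ∈ groupAlg A, ∀ v : V, v ≠ 0 → k v = 0 → k = 0 :=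
  injective_of_comm _ (groupAlg_comm A hAc) (groupAlg_simple_orbit H htr A hA)

/-- In a linear group transitive on non-zero vectors, a non-abelian normal subgroup is
irreducible. -/
theorem irreducible_of_normal_nonabelian [Finite V] [Nontrivial V]
    (H : Subgroup (V ≃ₗ[ZMod p] V))
    (htr : ∀ v w : V, v ≠ 0 → w ≠ 0 → ∃ h ∈ H, h v = w) (N : Subgroup H) (hN : N.Normal)
    (hna : ¬ IsMulCommutative N) (W : Submodule (ZMod p) V)
    (hW : ∀ n ∈ N, ∀ v ∈ W, ((n : H) : V ≃ₗ[ZMod p] V) v ∈ W) : W = ⊥ ∨ W = ⊤ := by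
  by_contra hcon
  push Not at hcon
  apply hna
  apply commutative_of_groupAlg_comm
  refine comm_of_injective _ ?_
  exact injective_of_reducible _ (groupAlg_simple_orbit H htr N hN) W hcon.1 hcon.2
    (groupAlg_apply_mem N W hW)

/-- The algebra of endomorphisms commuting with an irreducible set `S`: non-zero elements are
injective (Schur). -/
theorem injective_of_commute_irreducible (S : Set (End (ZMod p) V))
    (hirr : ∀ W : Submodule (ZMod p) V, (∀ s ∈ S, ∀ v ∈ W, s v ∈ W) → W = ⊥ ∨ W = ⊤) :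
    ∀ k ∈ Subalgebra.centralizer (ZMod p) S, ∀ v : V, v ≠ 0 → k v = 0 → k = 0 := by
  intro k hk v hv hkv
  rw [Subalgebra.mem_centralizer_iff] at hk
  rcases hirr (LinearMap.ker k) (by
    intro s hs w hw
    rw [LinearMap.mem_ker] at hw ⊢
    have := DFunLike.congr_fun (hk s hs) w
    change s (k w) = k (s w) at this
    rw [← this, hw, map_zero]) with h | h
  · exfalso
    apply hv
    have : v ∈ LinearMap.ker k := hkv
    rw [h] at this
    exact this
  · exact LinearMap.ker_eq_top.1 h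

/-- Schur + Wedderburn: endomorphisms commuting with an irreducible set commute. -/
theorem commute_of_irreducible [Finite V] [Nontrivial V] (S : Set (End (ZMod p) V))
    (hirr : ∀ W : Submodule (ZMod p) V, (∀ s ∈ S, ∀ v ∈ W, s v ∈ W) → W = ⊥ ∨ W = ⊤)
    (a b : End (ZMod p) V) (ha : ∀ s ∈ S, s * a = a * s) (hb : ∀ s ∈ S, s * b = b * s) :
    a * b = b * a :=
  comm_of_injective _ (injective_of_commute_irreducible S hirr) a
    ((Subalgebra.mem_centralizer_iff _).2 ha) b ((Subalgebra.mem_centralizer_iff _).2 hb)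

/-- The centraliser of an irreducible subgroup is abelian. -/
theorem centralizer_comm_of_irreducible [Finite V] [Nontrivial V]
    (H : Subgroup (V ≃ₗ[ZMod p] V)) (N : Subgroup H)
    (hirr : ∀ W : Submodule (ZMod p) V,
      (∀ n ∈ N, ∀ v ∈ W, ((n : H) : V ≃ₗ[ZMod p] V) v ∈ W) → W = ⊥ ∨ W = ⊤) :
    IsMulCommutative (Subgroup.centralizer (N : Set H)) := by
  refine ⟨⟨fun a b => ?_⟩⟩
  have key := commute_of_irreducible
    ((fun a : H => ((a : V ≃ₗ[ZMod p] V) : End (ZMod p) V)) '' (N : Set H))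
    (by
      intro W hW
      refine hirr W fun n hn v hv => hW _ ⟨n, hn, rfl⟩ v hv)
    ((a.1.1 : V ≃ₗ[ZMod p] V) : End (ZMod p) V) ((b.1.1 : V ≃ₗ[ZMod p] V) : End (ZMod p) V)
    (by
      rintro _ ⟨n, hn, rfl⟩
      have := (Subgroup.mem_centralizer_iff.1 a.2) n hn
      have h2 : (n : V ≃ₗ[ZMod p] V) * a.1.1 = a.1.1 * n := congrArg Subtype.val this
      ext v
      exact DFunLike.congr_fun h2 v)
    (by
      rintro _ ⟨n, hn, rfl⟩
      have := (Subgroup.mem_centralizer_iff.1 b.2) n hn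
      have h2 : (n : V ≃ₗ[ZMod p] V) * b.1.1 = b.1.1 * n := congrArg Subtype.val this
      ext v
      exact DFunLike.congr_fun h2 v)
  apply Subtype.ext
  apply Subtype.ext
  ext v
  exact DFunLike.congr_fun key v

/-- A commutative subgroup lying in a subalgebra whose non-zero elements are injective embeds in
a finite field, so it is cyclic of order dividing `|K| - 1`. -/
theorem isCyclic_and_card_dvd [Finite V] [Nontrivial V]
    (K : Subalgebra (ZMod p) (End (ZMod p) V))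
    (hinj : ∀ k ∈ K, ∀ v : V, v ≠ 0 → k v = 0 → k = 0)
    {G : Type*} [Group G] (f : G →* (V ≃ₗ[ZMod p] V)) (hf : Function.Injective f)
    (hfK : ∀ g, ((f g : V ≃ₗ[ZMod p] V) : End (ZMod p) V) ∈ K) :
    IsCyclic G ∧ Nat.card G ∣ Nat.card K - 1 := by
  have hdom := isDomain_of_injective K hinj
  have : Finite (End (ZMod p) V) := finite_end
  have : Finite (V ≃ₗ[ZMod p] V) := finite_gl
  have : Finite G := Finite.of_injective f hf
  have hF : IsField K := Finite.isDomain_to_isField K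
  let _ : Field K := hF.toField
  let g : G →* K :=
    { toFun := fun a => ⟨_, hfK a⟩
      map_one' := by
        apply Subtype.ext
        change ((f 1 : V ≃ₗ[ZMod p] V) : End (ZMod p) V) = 1
        rw [map_one]; rfl
      map_mul' := by
        intro a b
        apply Subtype.ext
        change ((f (a * b) : V ≃ₗ[ZMod p] V) : End (ZMod p) V) = _
        rw [map_mul]; rfl }
  have hg : Function.Injective g := by
    intro a b hab
    apply hf
    have h1 : ((f a : V ≃ₗ[ZMod p] V) : End (ZMod p) V) = f b := congrArg Subtype.val hab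
    ext v
    exact DFunLike.congr_fun h1 v
  refine ⟨isCyclic_of_injective_ringHom g hg, ?_⟩
  have hgu : Function.Injective g.toHomUnits := by
    intro a b hab
    apply hg
    have := congrArg (Units.val) hab
    simpa using this
  rw [← Nat.card_units]
  exact Subgroup.card_dvd_of_injective _ hgu

end Cfsg.Agent.PermutationGroups.RegularLinear
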