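import Mathlib
set_option linter.all false

/-!
# Functions on `ZMod p` and a primitive `p`-th root of unity
-/

set_option autoImplicit false

namespace Cfsg.Agent.PermutationGroups.Wielandt2pFourier

open Polynomial

variable {p : ℕ} [hp : Fact p.Prime]

/-- A rational relation between the powers of a primitive `p`-th root of unity is constant. -/
theorem const_of_sum_eq_zero {ζ : ℂ} (hζ : IsPrimitiveRoot ζ p) (f : ZMod p → ℚ)
    (h : ∑ x, (f x : ℂ) * ζ ^ x.val = 0) (x y : ZMod p) : f x = f y := by
  have hp1 : 1 < p := hp.out.one_lt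
  have hp0 : 0 < p := hp.out.pos
  let P : ℚ[X] := ∑ x : ZMod p, C (f x) * X ^ x.val
  have hP : aeval ζ P = 0 := by
    simp only [P, map_sum, map_mul, aeval_C, map_pow, aeval_X]
    exact h
  have hmin : minpoly ℚ ζ = cyclotomic p ℚ := (cyclotomic_eq_minpoly_rat hζ hp0).symm
  have hdvd : cyclotomic p ℚ ∣ P := by
    rw [← hmin]
    exact minpoly.dvd ℚ ζ hP
  have hcoeff : ∀ x : ZMod p, P.coeff x.val = f x := by
    intro x
    simp only [P, finsetSum_coeff, coeff_C_mul, coeff_X_pow]
    rw [Finset.sum_eq_single x]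
    · simp
    · intro b _ hb
      rw [if_neg, mul_zero]
      intro hbx
      exact hb (ZMod.val_injective p hbx).symm
    · intro hx
      exact absurd (Finset.mem_univ x) hx
  have hdeg : P.degree < p := by
    apply lt_of_le_of_lt (degree_sum_le _ _)
    rw [Finset.sup_lt_iff]
    · intro x _
      apply lt_of_le_of_lt (degree_C_mul_X_pow_le _ _)
      exact_mod_cast ZMod.val_lt x
    · exact WithBot.bot_lt_coe p
  obtain ⟨R, hR⟩ := hdvd
  have hcyc : (cyclotomic p ℚ).natDegree = p - 1 := by
    rw [natDegree_cyclotomic, Nat.totient_prime hp.out]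
  have hRc : ∃ c : ℚ, R = C c := by
    by_cases hR0 : R = 0
    · exact ⟨0, by rw [hR0, C_0]⟩
    · have hP0 : P ≠ 0 := by
        rw [hR]
        exact mul_ne_zero (cyclotomic_ne_zero p ℚ) hR0
      have h1 : P.natDegree < p := (natDegree_lt_iff_degree_lt hP0).mpr hdeg
      rw [hR, natDegree_mul (cyclotomic_ne_zero p ℚ) hR0, hcyc] at h1
      have h2 : R.natDegree = 0 := by omega
      exact ⟨R.coeff 0, eq_C_of_natDegree_eq_zero h2⟩
  obtain ⟨c, hc⟩ := hRc
  have key : ∀ x : ZMod p, f x = c := by
    intro x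
    rw [← hcoeff x, hR, hc, mul_comm, coeff_C_mul, cyclotomic_prime]
    simp only [finsetSum_coeff, coeff_X_pow]
    rw [Finset.sum_eq_single x.val]
    · simp
    · intro b _ hb
      rw [if_neg hb.symm]
    · intro hx
      exact absurd (Finset.mem_range.mpr (ZMod.val_lt x)) hx
  rw [key x, key y]

/-- the additive character attached to a primitive root -/
theorem exists_char : ∃ ψ : AddChar (ZMod p) ℂ, ∀ f : ZMod p → ℚ,
    ∑ x, (f x : ℂ) * ψ x = 0 → ∀ x y, f x = f y := by
  have hp0 : p ≠ 0 := hp.out.ne_zero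
  let ζ : ℂ := Complex.exp (2 * Real.pi * Complex.I / p)
  have hζ : IsPrimitiveRoot ζ p := Complex.isPrimitiveRoot_exp p hp0
  refine ⟨AddChar.zmodChar p hζ.pow_eq_one, fun f h => ?_⟩
  apply const_of_sum_eq_zero hζ f
  simpa only [AddChar.zmodChar_apply] using h

end Cfsg.Agent.PermutationGroups.Wielandt2pFourier
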