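import Mathlib
import Cfsg.Agent.S0711
import Cfsg.Agent.S0713
set_option linter.all false

/-!
# Praeger–Saxl, part (K1)

An `(f + 1)`-transitive group of degree `q p + f`, `p ≥ 5` prime, `q ≤ 2`, `f ≥ 3`, contains the
alternating group.
-/

set_option autoImplicit false

namespace Cfsg.Agent.PermutationGroups.PSTransOne

open MulAction Equiv

/-- The support of an element of prime order `p` has a multiple of `p` elements. -/
theorem exists_support_card {α : Type*} [Fintype α] [DecidableEq α] {p : ℕ} (hp : p.Prime)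
    {c : Perm α} (hc : orderOf c = p) :
    ∃ k : ℕ, c.cycleType = Multiset.replicate (k + 1) p ∧ c.support.card = (k + 1) * p := by
  have hpp : (orderOf c).Prime := by rwa [hc]
  obtain ⟨k, hk⟩ := Perm.cycleType_prime_order hpp
  rw [hc] at hk
  refine ⟨k, hk, ?_⟩
  rw [← Perm.sum_cycleType, hk, Multiset.sum_replicate, smul_eq_mul]

/-- A primitive group with an element of prime order `p` moving fewer than `2 p` points. -/
theorem alternating_le_of_small_support {α : Type*} [Fintype α] [DecidableEq α]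
    (G : Subgroup (Perm α)) (hG : IsPreprimitive G α) {p : ℕ} (hp : p.Prime)
    (hp5 : 5 ≤ p) (hpn : p + 3 ≤ Fintype.card α) {c : Perm α} (hcG : c ∈ G) (hc : orderOf c = p)
    (hs : c.support.card < 2 * p) : alternatingGroup α ≤ G := by
  obtain ⟨k, hk, hcard⟩ := exists_support_card hp hc
  have hk0 : k = 0 := by
    by_contra h
    have h1 : 2 ≤ k + 1 := by omega
    have h2 := Nat.mul_le_mul_right p h1
    omega
  subst hk0
  have hcyc : c.IsCycle := by
    rw [← Perm.card_cycleType_eq_one, hk]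
    simp
  exact Cfsg.Agent.S0713.result G hG hp (by omega) hpn hcyc (by omega) hcG

/-- Witt's argument for a Sylow subgroup of order `p` of the pointwise stabiliser. -/
theorem exists_normalizing {α : Type*} [Fintype α] [DecidableEq α] {G : Subgroup (Perm α)}
    {p : ℕ} (hp : p.Prime) {g : Perm α} (hord : orderOf g = p)
    (hg : g ∈ G) (hG : IsMultiplyPretransitive G α ((g.support : Set α)ᶜ).ncard)
    (hp2 : ¬ p ^ 2 ∣ Nat.card ↥(G ⊓ fixingSubgroup (Perm α) (g.support : Set α)ᶜ))
    (σ : Perm α) (hσ : ∀ a, g a = a → g (σ a) = σ a) :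
    ∃ y ∈ G, (∀ a, g a = a → y a = σ a) ∧ ∃ k : ℤ, y * g * y⁻¹ = g ^ k := by
  set s : Set α := (g.support : Set α)ᶜ with hs
  have hmem : ∀ a, a ∈ s ↔ g a = a := by
    intro a
    simp [hs]
  obtain ⟨x, hxG, hx⟩ := Cfsg.Agent.S0713.exists_mem_eqOn s hG σ
  have : Fact p.Prime := ⟨hp⟩
  let H : Subgroup (Perm α) := G ⊓ fixingSubgroup (Perm α) s
  have hHmem : ∀ h : Perm α, h ∈ H ↔ h ∈ G ∧ ∀ a, g a = a → h a = a := by
    intro h
    simp only [H, Subgroup.mem_inf, mem_fixingSubgroup_iff, Perm.smul_def, hmem]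
  have hgH : g ∈ H := (hHmem g).2 ⟨hg, fun a h => h⟩
  have hgxH : x⁻¹ * g * x ∈ H := by
    refine (hHmem _).2 ⟨G.mul_mem (G.mul_mem (G.inv_mem hxG) hg) hxG, fun a h => ?_⟩
    have h1 : x a = σ a := hx a ((hmem a).2 h)
    have h2 : g (x a) = x a := by rw [h1]; exact hσ a h
    simp [Perm.mul_apply, h2]
  have hordx : orderOf (x⁻¹ * g * x) = p := by
    have : x⁻¹ * g * x = MulAut.conj x⁻¹ g := by simp
    rw [this, ← hord]
    exact orderOf_injective (MulAut.conj x⁻¹).toMonoidHom (MulAut.conj x⁻¹).injective g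
  have hpd : p ∣ Nat.card H := by
    rw [← hord, ← Subgroup.orderOf_mk g hgH]
    exact orderOf_dvd_natCard _
  have hfac : (Nat.card H).factorization p = 1 := by
    have hne : Nat.card H ≠ 0 := Nat.card_pos.ne'
    apply le_antisymm
    · by_contra hcon
      exact hp2 ((hp.pow_dvd_iff_le_factorization hne).2 (by omega))
    · exact (hp.pow_dvd_iff_le_factorization hne).1 (by simpa using hpd)
  -- the two Sylow subgroups
  let g1 : H := ⟨g, hgH⟩
  let g2 : H := ⟨x⁻¹ * g * x, hgxH⟩
  have hc1 : Nat.card (Subgroup.zpowers g1) = p ^ (Nat.card H).factorization p := by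
    rw [Nat.card_zpowers, hfac, pow_one, Subgroup.orderOf_mk, hord]
  have hc2 : Nat.card (Subgroup.zpowers g2) = p ^ (Nat.card H).factorization p := by
    rw [Nat.card_zpowers, hfac, pow_one, Subgroup.orderOf_mk, hordx]
  obtain ⟨h, hh⟩ := MulAction.exists_smul_eq H (Sylow.ofCard _ hc1) (Sylow.ofCard _ hc2)
  have hmem2 : h * g1 * h⁻¹ ∈ Subgroup.zpowers g2 := by
    have h1 : h * g1 * h⁻¹ ∈ ((h • Sylow.ofCard _ hc1 : Sylow p H) : Subgroup H) := by
      rw [Sylow.coe_subgroup_smul]
      have h2 : g1 ∈ ((Sylow.ofCard _ hc1 : Sylow p H) : Subgroup H) := by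
        simp
      have h3 := Subgroup.smul_mem_pointwise_smul g1 (MulAut.conj h) _ h2
      simpa [MulAut.smul_def, MulAut.conj_apply] using h3
    rw [hh] at h1
    simpa using h1
  obtain ⟨k, hk⟩ := Subgroup.mem_zpowers_iff.1 hmem2
  refine ⟨x * h, G.mul_mem hxG ((hHmem _).1 h.2).1, ?_, k, ?_⟩
  · intro a ha
    rw [Perm.mul_apply, ((hHmem _).1 h.2).2 a ha]
    exact hx a ((hmem a).2 ha)
  · have h1 := congrArg Subtype.val hk
    simp only [g1, g2, Subgroup.coe_mul, Subgroup.coe_inv, SubgroupClass.coe_zpow] at h1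
    have h2 : (x⁻¹ * g * x) ^ k = x⁻¹ * g ^ k * x := by
      have := conj_zpow (a := x⁻¹) (b := g) (i := k)
      simpa using this
    rw [h2] at h1
    calc x * (h : Perm α) * g * (x * (h : Perm α))⁻¹
        = x * ((h : Perm α) * g * (h : Perm α)⁻¹) * x⁻¹ := by group
      _ = x * (x⁻¹ * g ^ k * x) * x⁻¹ := by rw [← h1]
      _ = g ^ k := by group

/-- An element commuting with an element `c` of prime order `p` with at most `2 p` moved points
acts, after squaring, on every `c`-cycle as a power of `c`. -/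
theorem pow_two_mul_fix {α : Type*} [Fintype α] [DecidableEq α] {p : ℕ} (hp : p.Prime)
    {c z : Perm α} (hc : orderOf c = p) (hs : c.support.card < 3 * p) (hcz : Commute c z)
    {x : α} (hx : c x ≠ x) : (z ^ (2 * p)) x = x := by
  have hxs : x ∈ c.support := Perm.mem_support.mpr hx
  have hzs : ∀ (j : ℕ) (i : ℕ), (c ^ i * z ^ j) x ∈ c.support := by
    intro j i
    rw [Perm.mem_support]
    intro h
    apply hx
    have h1 : c ((c ^ i * z ^ j) x) = (c ^ i * z ^ j) (c x) := by
      have h2 : Commute c (c ^ i * z ^ j) :=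
        ((Commute.refl c).pow_right i).mul_right (hcz.pow_right j)
      exact congrArg (fun f : Perm α => f x) h2.eq
    rw [h1] at h
    exact (c ^ i * z ^ j).injective h
  -- minimal period
  have hmp : Function.minimalPeriod c x = p := by
    have : Fact p.Prime := ⟨hp⟩
    apply Function.minimalPeriod_eq_prime
    · show (c : α → α)^[p] x = x
      rw [← Perm.coe_pow, ← hc, pow_orderOf_eq_one]
      rfl
    · exact hx
  have hinj : ∀ i j : ℕ, i < p → j < p → (c ^ i) x = (c ^ j) x → i = j := by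
    intro i j hi hj hij
    have h1 := Function.iterate_injOn_Iio_minimalPeriod (f := c) (x := x)
    rw [hmp] at h1
    apply h1 (Set.mem_Iio.mpr hi) (Set.mem_Iio.mpr hj)
    show (c : α → α)^[i] x = (c : α → α)^[j] x
    rw [← Perm.coe_pow, ← Perm.coe_pow, hij]
  -- pigeonhole
  have hkey : ∃ r : ℕ, (r = 1 ∨ r = 2) ∧ ∃ k : ℤ, (z ^ r) x = (c ^ k) x := by
    let φ : Fin 3 × Fin p → c.support := fun u => ⟨(c ^ (u.2 : ℕ) * z ^ (u.1 : ℕ)) x, hzs _ _⟩
    have hlt : Fintype.card c.support < Fintype.card (Fin 3 × Fin p) := by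
      rw [Fintype.card_prod, Fintype.card_fin, Fintype.card_fin, Fintype.card_coe]
      exact hs
    obtain ⟨⟨j, i⟩, ⟨j', i'⟩, hne, heq⟩ := Fintype.exists_ne_map_eq_of_card_lt φ hlt
    have heq' : (c ^ (i : ℕ) * z ^ (j : ℕ)) x = (c ^ (i' : ℕ) * z ^ (j' : ℕ)) x :=
      congrArg Subtype.val heq
    -- the general step
    have step : ∀ (i i' j j' : ℕ), j < j' → (c ^ i * z ^ j) x = (c ^ i' * z ^ j') x →
        ∃ k : ℤ, (z ^ (j' - j)) x = (c ^ k) x := by
      intro i i' j j' hj h
      refine ⟨(i : ℤ) - i', ?_⟩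
      have hcomm : ∀ (a : ℤ) (b : ℕ), c ^ a * z ^ b = z ^ b * c ^ a := fun a b =>
        ((hcz.pow_right b).zpow_left a).eq
      have e1 : (c ^ i * z ^ j) x = (z ^ j) ((c ^ (i : ℤ)) x) := by
        rw [← zpow_natCast c i, hcomm]
        rfl
      have e2 : (c ^ i' * z ^ j') x = (z ^ j) ((c ^ (i' : ℤ)) ((z ^ (j' - j)) x)) := by
        have h3 : z ^ j' = z ^ j * z ^ (j' - j) := by
          rw [← pow_add]; congr 1; omega
        rw [h3, ← mul_assoc, ← zpow_natCast c i', hcomm]
        rfl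
      rw [e1, e2] at h
      have h4 := (z ^ j).injective h
      have h5 : (c ^ ((i : ℤ) - i')) x = (c ^ (-(i' : ℤ))) ((c ^ (i : ℤ)) x) := by
        rw [← Perm.mul_apply, ← zpow_add]
        congr 2
        ring
      rw [h5, h4, ← Perm.mul_apply, ← zpow_add, neg_add_cancel, zpow_zero]
      rfl
    rcases lt_trichotomy (j : ℕ) (j' : ℕ) with h | h | h
    · obtain ⟨k, hk⟩ := step i i' j j' h heq'
      exact ⟨(j' : ℕ) - j, by have := j'.2; omega, k, hk⟩
    · exfalso
      apply hne
      have hjj : j = j' := Fin.ext h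
      subst hjj
      have h6 : (z ^ (j : ℕ)) ((c ^ (i : ℕ)) x) = (z ^ (j : ℕ)) ((c ^ (i' : ℕ)) x) := by
        have hcomm : ∀ (a : ℕ) (b : ℕ), c ^ a * z ^ b = z ^ b * c ^ a := fun a b =>
          ((hcz.pow_right b).pow_left a).eq
        rw [hcomm, hcomm] at heq'
        exact heq'
      have h7 := hinj i i' i.2 i'.2 ((z ^ (j : ℕ)).injective h6)
      rw [Fin.ext h7]
    · obtain ⟨k, hk⟩ := step i' i j' j h heq'.symm
      exact ⟨(j : ℕ) - j', by have := j.2; omega, k, hk⟩
  -- the square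
  have hsq : ∃ k : ℤ, (z ^ 2) x = (c ^ k) x := by
    obtain ⟨r, hr | hr, k, hk⟩ := hkey
    · subst hr
      refine ⟨k + k, ?_⟩
      rw [pow_one] at hk
      have h1 : z ((c ^ k) x) = (c ^ k) (z x) := by
        have h2 : z * c ^ k = c ^ k * z := (hcz.zpow_left k).eq.symm
        exact congrArg (fun f : Perm α => f x) h2
      rw [pow_two, Perm.mul_apply, hk, h1, hk, zpow_add, Perm.mul_apply]
    · subst hr
      exact ⟨k, hk⟩
  obtain ⟨k, hk⟩ := hsq
  have hpow : ∀ j : ℕ, ((z ^ 2) ^ j) x = (c ^ (k * j)) x := by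
    intro j
    induction j with
    | zero => simp
    | succ j ih =>
      have h1 : ((z ^ 2) ^ j) ((c ^ k) x) = (c ^ k) (((z ^ 2) ^ j) x) := by
        have h2 : (z ^ 2) ^ j * c ^ k = c ^ k * (z ^ 2) ^ j :=
          (((hcz.pow_right 2).pow_right j).zpow_left k).eq.symm
        exact congrArg (fun f : Perm α => f x) h2
      rw [pow_succ, Perm.mul_apply, hk, h1, ih, ← Perm.mul_apply, ← zpow_add]
      congr 2
      push_cast
      ring
  rw [pow_mul, hpow p, mul_comm, zpow_mul, zpow_natCast, ← hc, pow_orderOf_eq_one, one_zpow]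
  rfl

theorem alternating_le_of_prime {α : Type*} [Fintype α] [DecidableEq α] (G : Subgroup (Perm α))
    {p q f : ℕ} (hp : p.Prime) (hp5 : 5 ≤ p) (hq : q = 1 ∨ q = 2) (hf : 3 ≤ f)
    (hn : Fintype.card α = q * p + f) (hG : IsMultiplyPretransitive G α (f + 1)) :
    alternatingGroup α ≤ G := by
  classical
  have hqp : p ≤ q * p ∧ q * p ≤ 2 * p := by
    rcases hq with rfl | rfl <;> omega
  have hprim : IsPreprimitive G α := by
    have h2 : IsMultiplyPretransitive G α 2 :=
      isMultiplyPretransitive_of_le (n := f + 1) (by omega)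
        (by rw [Nat.card_eq_fintype_card]; omega)
    exact isPreprimitive_of_is_two_pretransitive h2
  -- a set of `f` points
  obtain ⟨F, -, hF⟩ := Finset.exists_subset_card_eq (s := (Finset.univ : Finset α)) (n := f)
    (by rw [Finset.card_univ]; omega)
  let H : Subgroup (Perm α) := G ⊓ fixingSubgroup (Perm α) (F : Set α)
  have hHmem : ∀ h : Perm α, h ∈ H ↔ h ∈ G ∧ ∀ a ∈ F, h a = a := by
    intro h
    simp only [H, Subgroup.mem_inf, mem_fixingSubgroup_iff, Perm.smul_def, Finset.mem_coe]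
  have hHtr : ∀ a b : α, a ∉ F → b ∉ F → ∃ h ∈ H, h a = b := by
    intro a b ha hb
    obtain ⟨h, hhG, hhF, hhab⟩ := Cfsg.Agent.S0711.exists_fix_move G (k := f + 1) (by omega) hG F
      (by omega) ha hb
    exact ⟨h, (hHmem h).mpr ⟨hhG, hhF⟩, hhab⟩
  obtain ⟨a0, ha0⟩ : ∃ a0, a0 ∉ F := by
    by_contra hcon
    push Not at hcon
    have h1 : F = Finset.univ := Finset.eq_univ_iff_forall.mpr hcon
    rw [h1, Finset.card_univ] at hF
    have := hp.pos
    omega
  have horb : Nat.card (orbit H a0) = q * p := by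
    have h1 : orbit H a0 = ((Fᶜ : Finset α) : Set α) := by
      ext x
      rw [Finset.mem_coe, Finset.mem_compl]
      constructor
      · rintro ⟨h, rfl⟩ hx
        apply ha0
        have h2 := ((hHmem h).mp h.2).2 _ hx
        have h3 : (h : Perm α) ((h : Perm α) a0) = (h : Perm α) a0 := h2
        have h4 := (h : Perm α).injective h3
        have h5 : (h • a0 : α) = a0 := h4
        have h6 : (h • a0 : α) ∈ F := hx
        rwa [h5] at h6
      · intro hx
        obtain ⟨h, hh, hx'⟩ := hHtr a0 x ha0 hx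
        exact ⟨⟨h, hh⟩, hx'⟩
    rw [h1, Nat.card_coe_set_eq, Set.ncard_coe_finset, Finset.card_compl, hF]
    omega
  have hcardH : q * p * Nat.card (stabilizer H a0) = Nat.card H := by
    rw [← horb]
    have h1 := MulAction.card_orbit_mul_card_stabilizer_eq_card_group H a0
    rw [← Nat.card_eq_fintype_card, ← Nat.card_eq_fintype_card, ← Nat.card_eq_fintype_card] at h1
    exact h1
  have hsuppF : ∀ h ∈ H, (h : Perm α).support ⊆ Fᶜ := by
    intro h hh x hx
    rw [Finset.mem_compl]
    intro hxF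
    exact (Perm.mem_support.mp hx) (((hHmem h).mp hh).2 x hxF)
  have hFc : (Fᶜ : Finset α).card = q * p := by
    rw [Finset.card_compl, hF]; omega
  have : Fact p.Prime := ⟨hp⟩
  -- an element of order `p`
  obtain ⟨c, hcH, hc⟩ : ∃ c ∈ H, orderOf c = p := by
    have h1 : p ∣ Nat.card H := by
      rw [← hcardH]
      exact Dvd.dvd.mul_right (Dvd.intro_left q rfl) _
    obtain ⟨c, hc⟩ := exists_prime_orderOf_dvd_card' p h1
    exact ⟨c, c.2, by rw [← hc, Subgroup.orderOf_coe]⟩
  have hcG : c ∈ G := ((hHmem c).mp hcH).1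
  by_cases hsmall : c.support.card < 2 * p
  · exact alternating_le_of_small_support G hprim hp hp5 (by omega) hcG hc hsmall
  have hq2 : q = 2 := by
    rcases hq with rfl | rfl
    · exfalso
      apply hsmall
      have := Finset.card_le_card (hsuppF c hcH)
      have := hp.pos
      omega
    · rfl
  subst hq2
  have hsupp : c.support = Fᶜ := by
    apply Finset.eq_of_subset_of_card_le (hsuppF c hcH)
    omega
  have hfix : ∀ x, c x = x ↔ x ∈ F := by
    intro x
    have h1 : x ∉ c.support ↔ x ∈ F := by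
      rw [hsupp, Finset.mem_compl, not_not]
    rw [← h1, Perm.notMem_support]
  by_cases hp2 : p ^ 2 ∣ Nat.card H
  · -- an element of order `p` fixing one more point
    have h1 : p ∣ Nat.card (stabilizer H a0) := by
      rw [← hcardH] at hp2
      have h2 : p * p ∣ p * (2 * Nat.card (stabilizer H a0)) := by
        rw [← pow_two]
        convert hp2 using 1
        ring
      have h3 := Nat.dvd_of_mul_dvd_mul_left hp.pos h2
      rcases (Nat.Prime.dvd_mul hp).mp h3 with h4 | h4
      · exfalso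
        have := Nat.le_of_dvd (by norm_num) h4
        omega
      · exact h4
    obtain ⟨d, hd⟩ := exists_prime_orderOf_dvd_card' p h1
    have hdH : ((d : H) : Perm α) ∈ H := (d : H).2
    have hda : ((d : H) : Perm α) a0 = a0 := d.2
    have hdo : orderOf ((d : H) : Perm α) = p := by
      rw [Subgroup.orderOf_coe, Subgroup.orderOf_coe, hd]
    apply alternating_le_of_small_support G hprim hp hp5 (by omega) ((hHmem _).mp hdH).1 hdo
    have h5 : ((d : H) : Perm α).support ⊆ (Fᶜ : Finset α).erase a0 := by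
      intro x hx
      rw [Finset.mem_erase]
      refine ⟨?_, hsuppF _ hdH hx⟩
      rintro rfl
      exact (Perm.mem_support.mp hx) hda
    have h6 := Finset.card_le_card h5
    rw [Finset.card_erase_of_mem (by rwa [Finset.mem_compl]), hFc] at h6
    have := hp.pos
    omega
  -- the Witt argument
  have hcompl : ((c.support : Set α)ᶜ) = (F : Set α) := by
    rw [hsupp]
    simp
  have hGf : IsMultiplyPretransitive G α ((c.support : Set α)ᶜ).ncard := by
    rw [hcompl, Set.ncard_coe_finset, hF]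
    exact isMultiplyPretransitive_of_le (n := f + 1) (by omega)
      (by rw [Nat.card_eq_fintype_card]; omega)
  have hp2' : ¬ p ^ 2 ∣ Nat.card ↥(G ⊓ fixingSubgroup (Perm α) (c.support : Set α)ᶜ) := by
    rw [hcompl]
    exact hp2
  obtain ⟨a, b, d, ha, hb, hd, hab, had, hbd⟩ : ∃ a b d, a ∈ F ∧ b ∈ F ∧ d ∈ F ∧ a ≠ b ∧ a ≠ d ∧
      b ≠ d := by
    obtain ⟨a, b, d, ha, hb, hd, hab, had, hbd⟩ := Finset.two_lt_card_iff.mp
      (show 2 < F.card by omega)
    exact ⟨a, b, d, ha, hb, hd, hab, had, hbd⟩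
  have hswF : ∀ u v : α, u ∈ F → v ∈ F → ∀ x, x ∈ F → swap u v x ∈ F := by
    intro u v hu hv x hx
    rcases swap_apply_def u v x with h
    rw [h]
    split_ifs <;> assumption
  obtain ⟨y1, hy1G, hy1, k1, hk1⟩ := exists_normalizing hp hc hcG hGf hp2' (swap a b)
    (by
      intro x hx
      rw [hfix] at hx ⊢
      exact hswF a b ha hb x hx)
  obtain ⟨y2, hy2G, hy2, k2, hk2⟩ := exists_normalizing hp hc hcG hGf hp2' (swap a d)
    (by
      intro x hx
      rw [hfix] at hx ⊢
      exact hswF a d ha hd x hx)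
  have hy1' : ∀ x ∈ F, y1 x = swap a b x := fun x hx => hy1 x ((hfix x).mpr hx)
  have hy2' : ∀ x ∈ F, y2 x = swap a d x := fun x hx => hy2 x ((hfix x).mpr hx)
  obtain ⟨z, hz⟩ : ∃ z : Perm α, z = (y2 * y1)⁻¹ * (y1 * y2) := ⟨_, rfl⟩
  obtain ⟨t, ht⟩ : ∃ t : Perm α, t = (swap a d * swap a b)⁻¹ * (swap a b * swap a d) := ⟨_, rfl⟩
  have hcz : Commute c z := by
    have e1 : (y1 * y2) * c * (y1 * y2)⁻¹ = c ^ (k1 * k2) := by
      calc (y1 * y2) * c * (y1 * y2)⁻¹ = y1 * (y2 * c * y2⁻¹) * y1⁻¹ := by group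
        _ = y1 * c ^ k2 * y1⁻¹ := by rw [hk2]
        _ = (y1 * c * y1⁻¹) ^ k2 := by rw [conj_zpow]
        _ = c ^ (k1 * k2) := by rw [hk1, ← zpow_mul]
    have e2 : (y2 * y1) * c * (y2 * y1)⁻¹ = c ^ (k1 * k2) := by
      calc (y2 * y1) * c * (y2 * y1)⁻¹ = y2 * (y1 * c * y1⁻¹) * y2⁻¹ := by group
        _ = y2 * c ^ k1 * y2⁻¹ := by rw [hk1]
        _ = (y2 * c * y2⁻¹) ^ k1 := by rw [conj_zpow]
        _ = c ^ (k1 * k2) := by rw [hk2, ← zpow_mul, mul_comm]
    have e3 : z * c * z⁻¹ = c := by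
      calc z * c * z⁻¹ = (y2 * y1)⁻¹ * ((y1 * y2) * c * (y1 * y2)⁻¹) * (y2 * y1) := by
            rw [hz]; group
        _ = (y2 * y1)⁻¹ * ((y2 * y1) * c * (y2 * y1)⁻¹) * (y2 * y1) := by rw [e1, e2]
        _ = c := by group
    show c * z = z * c
    calc c * z = (z * c * z⁻¹) * z := by rw [e3]
      _ = z * c := by group
  have hzG : z ∈ G := by
    rw [hz]
    exact G.mul_mem (G.inv_mem (G.mul_mem hy2G hy1G)) (G.mul_mem hy1G hy2G)
  have htF : ∀ x ∈ F, t x ∈ F := by
    intro x hx
    rw [ht, Perm.mul_apply, mul_inv_rev, swap_inv, swap_inv, Perm.mul_apply, Perm.mul_apply]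
    exact hswF _ _ ha hb _ (hswF _ _ ha hd _ (hswF _ _ ha hb _ (hswF _ _ ha hd _ hx)))
  have hzt : ∀ x ∈ F, z x = t x := by
    intro x hx
    have h1 : (y1 * y2) x = (swap a b * swap a d) x := by
      rw [Perm.mul_apply, Perm.mul_apply, hy2' x hx, hy1' _ (hswF _ _ ha hd x hx)]
    have h2 : ∀ u ∈ F, (y2 * y1) u = (swap a d * swap a b) u := by
      intro u hu
      rw [Perm.mul_apply, Perm.mul_apply, hy1' u hu, hy2' _ (hswF _ _ ha hb u hu)]
    rw [hz, Perm.mul_apply, Perm.inv_eq_iff_eq, h1, h2 (t x) (htF x hx), ht,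
      ← Perm.mul_apply (swap a d * swap a b), mul_inv_cancel_left]
  have hpowF : ∀ (j : ℕ), ∀ x ∈ F, (z ^ j) x = (t ^ j) x ∧ (t ^ j) x ∈ F := by
    intro j
    induction j with
    | zero => intro x hx; exact ⟨rfl, hx⟩
    | succ j ih =>
      intro x hx
      have h1 := ih (t x) (htF x hx)
      rw [pow_succ, pow_succ, Perm.mul_apply, Perm.mul_apply, hzt x hx]
      exact h1
  have htout : ∀ x, x ∉ F → t x = x := by
    intro x hx
    have h1 : x ≠ a := fun h => hx (h ▸ ha)
    have h2 : x ≠ b := fun h => hx (h ▸ hb)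
    have h3 : x ≠ d := fun h => hx (h ▸ hd)
    rw [ht, Perm.mul_apply, mul_inv_rev, swap_inv, swap_inv, Perm.mul_apply, Perm.mul_apply,
      swap_apply_of_ne_of_ne h1 h3, swap_apply_of_ne_of_ne h1 h2, swap_apply_of_ne_of_ne h1 h3,
      swap_apply_of_ne_of_ne h1 h2]
  have hw : z ^ (2 * p) = t ^ (2 * p) := by
    ext x
    by_cases hx : x ∈ F
    · rw [(hpowF (2 * p) x hx).1]
    · have h1 : (z ^ (2 * p)) x = x := by
        apply pow_two_mul_fix hp hc _ hcz
        · intro h
          exact hx ((hfix x).mp h)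
        · rw [hsupp, hFc]
          have := hp.pos
          omega
      have h2 : ∀ j : ℕ, (t ^ j) x = x := by
        intro j
        induction j with
        | zero => rfl
        | succ j ih => rw [pow_succ, Perm.mul_apply, htout x hx, ih]
      rw [h1, h2]
  -- `t` is a three-cycle
  have htc : t.IsThreeCycle := by
    have h1 : (swap a b * swap a d).IsThreeCycle := Perm.isThreeCycle_swap_mul_swap_same hab had hbd
    have h2 : t = (swap a b * swap a d) * (swap a b * swap a d) := by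
      rw [ht, mul_inv_rev, swap_inv, swap_inv]
    rw [h2]
    exact h1.isThreeCycle_sq
  have ht3 : t ^ 3 = 1 := by
    rw [← htc.orderOf, pow_orderOf_eq_one]
  have hwc : (t ^ (2 * p)).IsThreeCycle := by
    have h3 : p % 3 ≠ 0 := by
      intro h
      have h4 : 3 ∣ p := Nat.dvd_of_mod_eq_zero h
      have h5 := (Nat.prime_dvd_prime_iff_eq Nat.prime_three hp).mp h4
      omega
    have h6 : (2 * p) % 3 = 1 ∨ (2 * p) % 3 = 2 := by omega
    have h7 : t ^ (2 * p) = t ^ ((2 * p) % 3) := by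
      conv_lhs => rw [← Nat.div_add_mod (2 * p) 3]
      rw [pow_add, pow_mul, ht3, one_pow, one_mul]
    rw [h7]
    rcases h6 with h6 | h6
    · rw [h6, pow_one]; exact htc
    · rw [h6, pow_two]; exact htc.isThreeCycle_sq
  exact Perm.alternatingGroup_le_of_isPreprimitive_of_isThreeCycle_mem hprim hwc
    (by rw [← hw]; exact G.pow_mem hzG _)

end Cfsg.Agent.PermutationGroups.PSTransOne
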