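import Cfsg.Agent.PermutationGroups.PrimeDegree
set_option linter.all false

/-!
Translation-invariant spaces of functions on `ZMod p` in characteristic `p`, and the
irreducibility of the heart of the permutation module of a non-solvable transitive group of
prime degree.
-/

set_option autoImplicit false

namespace Cfsg.Agent.PermutationGroups.PrimeDegreeHeart

open Polynomial Cfsg.Agent.PermutationGroups.PrimeDegree

/-- Coefficients of a shifted polynomial. -/
theorem taylor_coeff_eq_sum {R : Type*} [CommRing R] (u : R) (P : R[X]) (D N : ℕ)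
    (hD : P.natDegree ≤ D) : (Polynomial.taylor u P).coeff N =
      ∑ i ∈ Finset.range (D + 1), P.coeff i * ((i.choose N : ℕ) * u ^ (i - N)) := by
  rw [Polynomial.taylor_apply, Polynomial.comp, Polynomial.eval₂_eq_sum_range' (n := D + 1)
    _ (by omega), Polynomial.finsetSum_coeff]
  refine Finset.sum_congr rfl fun i _ => ?_
  rw [Polynomial.coeff_C_mul, Polynomial.coeff_X_add_C_pow]
  ring

section field

variable {p : ℕ} [Fact p.Prime] {K : Type*} [Field K] [CharP K p]

/-- Every function `ZMod p → K` is given by a polynomial of degree at most `p - 1`. -/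
theorem exists_poly' (f : ZMod p → K) :
    ∃ P : K[X], P.natDegree ≤ p - 1 ∧ ∀ x : ZMod p, P.eval (ZMod.castHom (dvd_refl p) K x) = f x := by
  have hp : p.Prime := Fact.out
  set c : ZMod p →+* K := ZMod.castHom (dvd_refl p) K with hc
  have hinj : Function.Injective c := c.injective
  refine ⟨Lagrange.interpolate Finset.univ c f, ?_, fun x => ?_⟩
  · have h1 := Lagrange.degree_interpolate_lt (s := Finset.univ) (v := c) f (hinj.injOn)
    rw [Finset.card_univ, ZMod.card] at h1
    by_cases h0 : Lagrange.interpolate Finset.univ c f = 0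
    · rw [h0]; simp
    · have := (Polynomial.natDegree_lt_iff_degree_lt h0).2 h1
      omega
  · exact Lagrange.eval_interpolate_at_node (s := Finset.univ) (v := c) f
      (hinj.injOn) (Finset.mem_univ x)

/-- Sum of the values of a polynomial over `ZMod p`. -/
theorem sum_eval' (Q : K[X]) (hQ : Q.natDegree ≤ p - 1) :
    ∑ x : ZMod p, Q.eval (ZMod.castHom (dvd_refl p) K x) = - Q.coeff (p - 1) := by
  have hp : p.Prime := Fact.out
  set c : ZMod p →+* K := ZMod.castHom (dvd_refl p) K with hc
  have h1 : ∀ x : ZMod p, Q.eval (c x) = ∑ i ∈ Finset.range p, Q.coeff i * c (x ^ i) := by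
    intro x
    rw [Polynomial.eval_eq_sum_range' (n := p) (by have := hp.pos; omega)]
    simp
  simp_rw [h1]
  rw [Finset.sum_comm]
  simp_rw [← Finset.mul_sum, ← map_sum]
  rw [Finset.sum_eq_single (p - 1)]
  · have h2 := sum_eval (p := p) (X ^ (p - 1)) (by simp)
    simp only [eval_pow, eval_X, coeff_X_pow, if_true] at h2
    rw [h2]; simp
  · intro i hi hne
    rw [Finset.mem_range] at hi
    have h3 := FiniteField.sum_pow_lt_card_sub_one (ZMod p) i (by rw [ZMod.card]; omega)
    rw [h3, map_zero, mul_zero]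
  · intro h
    exact absurd (Finset.mem_range.2 (by have := hp.pos; omega)) h

omit [Fact p.Prime] in
theorem natCast_ne_zero' {d : ℕ} (h0 : 0 < d) (hd : d < p) : (d : K) ≠ 0 := by
  intro h
  rw [CharP.cast_eq_zero_iff K p] at h
  have := Nat.le_of_dvd h0 h
  omega

/-- A translation-invariant space containing (the function of) a polynomial of degree `d < p`
contains all polynomials of degree at most `d`. -/
theorem mem_of_natDegree_le (W : Submodule K (ZMod p → K))
    (hW : ∀ f ∈ W, (fun x => f (x + 1)) ∈ W) :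
    ∀ (d : ℕ) (P : K[X]), P.natDegree = d → d < p → P ≠ 0 →
      (fun x : ZMod p => P.eval (ZMod.castHom (dvd_refl p) K x)) ∈ W →
      ∀ Q : K[X], Q.natDegree ≤ d →
      (fun x : ZMod p => Q.eval (ZMod.castHom (dvd_refl p) K x)) ∈ W := by
  set c : ZMod p →+* K := ZMod.castHom (dvd_refl p) K with hc
  intro d
  induction d with
  | zero =>
    intro P hP _ hP0 hPW Q hQ
    rw [Polynomial.eq_C_of_natDegree_eq_zero hP] at hPW hP0
    rw [Polynomial.eq_C_of_natDegree_le_zero hQ]
    have h1 : P.coeff 0 ≠ 0 := fun h => hP0 (by rw [h, C_0])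
    have h2 := W.smul_mem (Q.coeff 0 / P.coeff 0) hPW
    convert h2 using 1
    ext x
    simp only [eval_C, Pi.smul_apply, smul_eq_mul]
    field_simp
  | succ d ih =>
    intro P hP hd hP0 hPW Q hQ
    have hlc : P.coeff (d + 1) ≠ 0 := by
      rw [← hP]; exact Polynomial.leadingCoeff_ne_zero.2 hP0
    -- the difference polynomial
    let P₁ : K[X] := Polynomial.taylor 1 P - P
    have hP₁W : (fun x : ZMod p => P₁.eval (c x)) ∈ W := by
      have h1 := W.sub_mem (hW _ hPW) hPW
      convert h1 using 1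
      ext x
      have h2 : c (x + 1) = c x + 1 := by rw [map_add, map_one]
      simp only [P₁, eval_sub, Polynomial.taylor_apply, eval_comp, eval_add, eval_X, eval_C,
        Pi.sub_apply, h2]
    have hcoeff : P₁.coeff d = P.coeff (d + 1) * (d + 1 : ℕ) := by
      simp only [P₁, coeff_sub]
      rw [taylor_coeff_eq_sum 1 P (d + 1) d hP.le, Finset.sum_range_succ, Finset.sum_range_succ,
        Finset.sum_eq_zero]
      · have h2 : (d + 1).choose d = d + 1 := by
          rw [Nat.choose_succ_self_right]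
        rw [h2]
        simp
      · intro i hi
        rw [Finset.mem_range] at hi
        rw [Nat.choose_eq_zero_of_lt hi]
        simp
    have hP₁d : P₁.coeff d ≠ 0 := by
      rw [hcoeff]
      exact mul_ne_zero hlc (natCast_ne_zero' (Nat.succ_pos d) hd)
    have hdeg : P₁.natDegree ≤ d := by
      rw [Polynomial.natDegree_le_iff_coeff_eq_zero]
      intro N hN
      rcases Nat.lt_or_ge (d + 1) N with h | h
      · simp only [P₁, coeff_sub]
        rw [Polynomial.coeff_eq_zero_of_natDegree_lt, Polynomial.coeff_eq_zero_of_natDegree_lt,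
          sub_zero]
        · omega
        · rw [Polynomial.natDegree_taylor]; omega
      · have hN' : N = d + 1 := by omega
        subst hN'
        simp only [P₁, coeff_sub]
        rw [taylor_coeff_eq_sum 1 P (d + 1) (d + 1) hP.le, Finset.sum_range_succ,
          Finset.sum_eq_zero]
        · simp
        · intro i hi
          rw [Finset.mem_range] at hi
          rw [Nat.choose_eq_zero_of_lt hi]
          simp
    have hdeg' : P₁.natDegree = d := le_antisymm hdeg (Polynomial.le_natDegree_of_ne_zero hP₁d)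
    have hP₁0 : P₁ ≠ 0 := by
      intro h
      rw [h] at hP₁d
      simp at hP₁d
    have hsmall := ih P₁ hdeg' (by omega) hP₁0 hP₁W
    -- subtract the leading term
    let Q₁ : K[X] := Q - C (Q.coeff (d + 1) / P.coeff (d + 1)) * P
    have hQ₁ : Q₁.natDegree ≤ d := by
      rw [Polynomial.natDegree_le_iff_coeff_eq_zero]
      intro N hN
      simp only [Q₁, coeff_sub, coeff_C_mul]
      rcases Nat.lt_or_ge (d + 1) N with h | h
      · have h5 : Q.coeff N = 0 := Polynomial.coeff_eq_zero_of_natDegree_lt (by omega)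
        have h6 : P.coeff N = 0 := Polynomial.coeff_eq_zero_of_natDegree_lt (by omega)
        rw [h5, h6, mul_zero, sub_zero]
      · have hN' : N = d + 1 := by omega
        subst hN'
        field_simp
        simp
    have h1 := hsmall Q₁ hQ₁
    have h2 := W.add_mem h1 (W.smul_mem (Q.coeff (d + 1) / P.coeff (d + 1)) hPW)
    convert h2 using 1
    ext x
    simp only [Q₁, eval_sub, eval_mul, eval_C, Pi.add_apply, Pi.smul_apply, smul_eq_mul]
    ring

end field

/-- The degree argument. -/
theorem affine_of_sums {p : ℕ} [Fact p.Prime] (a b : ℕ) (ha : 1 ≤ a) (hab : a ≤ b)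
    (hsum : a + b = p - 2) (g : ZMod p → ZMod p)
    (hg : ∀ i ≤ a, ∀ j ≤ b, ∑ x : ZMod p, g x ^ i * x ^ j = 0) :
    ∃ s t, ∀ x, g x = s * x + t := by
  classical
  have hp : p.Prime := Fact.out
  obtain ⟨P, hPdeg, hPg⟩ := exists_poly g
  by_cases hn : P.natDegree ≤ 1
  · refine ⟨P.coeff 1, P.coeff 0, fun x => ?_⟩
    rw [← hPg x, Polynomial.eval_eq_sum_range' (n := 2) (by omega)]
    simp [Finset.sum_range_succ]
    ring
  exfalso
  push Not at hn
  have hP0 : P.leadingCoeff ≠ 0 := by
    have : P ≠ 0 := by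
      rintro rfl
      simp at hn
    exact Polynomial.leadingCoeff_ne_zero.2 this
  obtain ⟨i, hia, hi1, hi2⟩ : ∃ i, i ≤ a ∧ a + 1 ≤ i * P.natDegree ∧ i * P.natDegree ≤ p - 1 := by
    refine ⟨a / P.natDegree + 1, ?_, ?_, ?_⟩
    · by_cases h : a < P.natDegree
      · rw [Nat.div_eq_of_lt h]; omega
      · have h1 : a / P.natDegree ≤ a / 2 := Nat.div_le_div_left hn (by norm_num)
        omega
    · have h1 := Nat.div_add_mod a P.natDegree
      have h2 := Nat.mod_lt a (by omega : P.natDegree > 0)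
      have h3 : (a / P.natDegree + 1) * P.natDegree
        = P.natDegree * (a / P.natDegree) + P.natDegree := by ring
      omega
    · by_cases h : a < P.natDegree
      · rw [Nat.div_eq_of_lt h]; omega
      · have h1 := Nat.div_add_mod a P.natDegree
        have h3 : (a / P.natDegree + 1) * P.natDegree
          = P.natDegree * (a / P.natDegree) + P.natDegree := by ring
        omega
  set j := p - 1 - i * P.natDegree with hj
  have hjb : j ≤ b := by omega
  have h1 := hg i hia j hjb
  have hPi : (P ^ i).natDegree = i * P.natDegree := Polynomial.natDegree_pow P i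
  have hdeg : (P ^ i * X ^ j).natDegree = p - 1 := by
    have hPi0 : P ^ i ≠ 0 := pow_ne_zero i (Polynomial.leadingCoeff_ne_zero.1 hP0)
    rw [Polynomial.natDegree_mul hPi0 (pow_ne_zero j Polynomial.X_ne_zero), hPi,
      Polynomial.natDegree_X_pow]
    omega
  have h2 := sum_eval (P ^ i * X ^ j) hdeg.le
  have h3 : ∀ x : ZMod p, (P ^ i * X ^ j).eval x = g x ^ i * x ^ j := by
    intro x
    simp [hPg]
  simp_rw [h3] at h2
  rw [h1] at h2
  have h4 : (P ^ i * X ^ j).coeff (p - 1) = P.leadingCoeff ^ i := by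
    rw [← hdeg]
    change (P ^ i * X ^ j).leadingCoeff = _
    rw [Polynomial.leadingCoeff_mul, Polynomial.leadingCoeff_pow]
    simp
  rw [h4] at h2
  exact pow_ne_zero i hP0 (by simpa using h2.symm)

/-- Main lemma on `ZMod p`. -/
theorem affine_of_invariant {p : ℕ} [Fact p.Prime] {K : Type*} [Field K] [CharP K p]
    (W : Submodule K (ZMod p → K)) (H : Set (Equiv.Perm (ZMod p)))
    (hinv : ∀ h ∈ H, h⁻¹ ∈ H) (hH : ∀ h ∈ H, ∀ f ∈ W, (fun x => f (h x)) ∈ W)
    (hW : ∀ f ∈ W, (fun x => f (x + 1)) ∈ W)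
    (hsum : ∀ f ∈ W, ∑ x, f x = 0) (hne : ∃ f ∈ W, ∃ x, f x ≠ f 0)
    (hne' : ∃ f : ZMod p → K, ∑ x, f x = 0 ∧ f ∉ W) :
    ∀ h ∈ H, ∃ s t, ∀ x, h x = s * x + t := by
  classical
  have hp : p.Prime := Fact.out
  set c : ZMod p →+* K := ZMod.castHom (dvd_refl p) K with hc
  have hcinj : Function.Injective c := c.injective
  -- the maximal degree
  let S : Set ℕ := {d | ∃ P : K[X], P.natDegree = d ∧ P ≠ 0 ∧ d < p ∧
    (fun x : ZMod p => P.eval (c x)) ∈ W}
  have hSfin : ∀ d ∈ S, d ≤ p := fun d ⟨_, _, _, hd, _⟩ => hd.le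
  obtain ⟨f₀, hf₀, x₀, hx₀⟩ := hne
  obtain ⟨P₀, hP₀deg, hP₀⟩ := exists_poly' f₀
  have hP₀W : (fun x : ZMod p => P₀.eval (c x)) ∈ W := by
    convert hf₀ using 1
    ext x; exact hP₀ x
  have hP₀1 : 1 ≤ P₀.natDegree := by
    by_contra h
    have h1 := Polynomial.eq_C_of_natDegree_le_zero (by omega : P₀.natDegree ≤ 0)
    apply hx₀
    rw [← hP₀ x₀, ← hP₀ 0, h1]
    simp
  have hP₀S : P₀.natDegree ∈ S :=
    ⟨P₀, rfl, fun h => by rw [h] at hP₀1; simp at hP₀1, by have := hp.pos; omega, hP₀W⟩
  have hbdd : BddAbove S := ⟨p, fun d hd => hSfin d hd⟩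
  have haS : sSup S ∈ S := Nat.sSup_mem ⟨_, hP₀S⟩ hbdd
  have hamax : ∀ d ∈ S, d ≤ sSup S := fun d hd => le_csSup hbdd hd
  generalize sSup S = a at haS hamax
  have ha1 : 1 ≤ a := hP₀1.trans (hamax _ hP₀S)
  obtain ⟨P, hPdeg, hP0, hap, hPW⟩ := haS
  have hall := mem_of_natDegree_le W hW a P hPdeg hap hP0 hPW
  -- membership criterion
  have hmem : ∀ f ∈ W, ∃ Q : K[X], Q.natDegree ≤ a ∧ ∀ x, Q.eval (c x) = f x := by
    intro f hf
    obtain ⟨Q, hQdeg, hQ⟩ := exists_poly' f
    refine ⟨Q, ?_, hQ⟩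
    by_cases hQ0 : Q = 0
    · rw [hQ0]; simp
    · apply hamax
      refine ⟨Q, rfl, hQ0, by have := hp.pos; omega, ?_⟩
      convert hf using 1
      ext x; exact hQ x
  have ha2 : a ≠ p - 1 := by
    intro h
    have h1 := hsum _ hPW
    rw [sum_eval' P (by omega), ← h, ← hPdeg, neg_eq_zero] at h1
    exact hP0 (Polynomial.leadingCoeff_eq_zero.1 h1)
  have ha3 : a + 3 ≤ p := by
    by_contra h
    have ha : a + 2 = p := by omega
    obtain ⟨f, hf0, hfW⟩ := hne'
    apply hfW
    obtain ⟨Q, hQdeg, hQ⟩ := exists_poly' f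
    have h1 : Q.coeff (p - 1) = 0 := by
      have h2 := sum_eval' Q hQdeg
      simp_rw [hQ] at h2
      rw [hf0] at h2
      simpa using h2.symm
    have h2 : Q.natDegree ≤ a := by
      by_contra h3
      have h4 : Q.natDegree = p - 1 := by omega
      rw [← h4] at h1
      have h5 := Polynomial.leadingCoeff_eq_zero.1 h1
      rw [h5] at h3
      simp at h3
    have h3 := hall Q h2
    convert h3 using 1
    ext x; exact (hQ x).symm
  -- the sums
  have hS : ∀ h ∈ H, ∀ i ≤ a, ∀ j ≤ p - 2 - a, ∑ x : ZMod p, h x ^ i * x ^ j = 0 := by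
    intro h hh i hi j hj
    have h1 := hH h hh _ (hall (X ^ i) (by simpa using hi))
    obtain ⟨Q, hQdeg, hQ⟩ := hmem _ h1
    have h2 := sum_eval' (p := p) (Q * X ^ j) (by
      refine (Polynomial.natDegree_mul_le).trans ?_
      rw [Polynomial.natDegree_X_pow]; omega)
    have h3 : (Q * X ^ j).coeff (p - 1) = 0 := by
      apply Polynomial.coeff_eq_zero_of_natDegree_lt
      refine lt_of_le_of_lt (Polynomial.natDegree_mul_le) ?_
      rw [Polynomial.natDegree_X_pow]; omega
    rw [h3, neg_zero] at h2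
    apply hcinj
    rw [map_sum, map_zero, ← h2]
    refine Finset.sum_congr rfl fun x _ => ?_
    rw [Polynomial.eval_mul, hQ x]
    simp
    rfl
  intro h hh
  by_cases hab : a ≤ p - 2 - a
  · exact affine_of_sums a (p - 2 - a) ha1 hab (by omega) h (hS h hh)
  · refine affine_of_sums (p - 2 - a) a (by omega) (by omega) (by omega) h ?_
    intro i hi j hj
    have h1 := hS h⁻¹ (hinv h hh) j hj i hi
    rw [← h1, ← Equiv.sum_comp h (fun x => h⁻¹ x ^ j * x ^ i)]
    refine Finset.sum_congr rfl fun x _ => ?_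
    have h2 : h⁻¹ (h x) = x := h.symm_apply_apply x
    rw [h2]; ring

/-- Submodule form of the irreducibility of the heart. -/
theorem heart_irreducible {α : Type*} [Fintype α] {p : ℕ} [Fact p.Prime]
    (hα : Fintype.card α = p) (G : Subgroup (Equiv.Perm α)) [MulAction.IsPretransitive G α]
    (hG : ¬ Group.IsSolvable G) {K : Type*} [Field K] [CharP K p] (W : Submodule K (α → K))
    (hW : ∀ g ∈ G, ∀ f ∈ W, (fun x => f (g x)) ∈ W) (h₂ : ∀ f ∈ W, ∑ x, f x = 0) :
    (∀ f ∈ W, ∃ c : K, f = fun _ => c) ∨ (∀ f : α → K, ∑ x, f x = 0 → f ∈ W) := by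
  classical
  by_contra hcon
  push Not at hcon
  obtain ⟨⟨f₁, hf₁, hf₁c⟩, f₂, hf₂, hf₂W⟩ := hcon
  obtain ⟨e, σ, hσG, hσ⟩ := exists_equiv_zmod hα G
  apply hG
  apply isSolvable_of_affine G e
  let W' : Submodule K (ZMod p → K) := W.comap (LinearMap.funLeft K K e)
  have hW'mem : ∀ f, f ∈ W' ↔ (fun x => f (e x)) ∈ W := fun f => Iff.rfl
  let H : Set (Equiv.Perm (ZMod p)) := {h | ∃ g ∈ G, h = (e.symm.trans g).trans e}
  have main := affine_of_invariant W' H ?_ ?_ ?_ ?_ ?_ ?_
  · intro g hg
    obtain ⟨s, t, hst⟩ := main ((e.symm.trans g).trans e) ⟨g, hg, rfl⟩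
    refine ⟨s, t, fun x => ?_⟩
    have := hst (e x)
    simpa using this
  · rintro h ⟨g, hg, rfl⟩
    exact ⟨g⁻¹, G.inv_mem hg, rfl⟩
  · rintro h ⟨g, hg, rfl⟩ f hf
    rw [hW'mem] at hf ⊢
    have h1 := hW g hg _ hf
    simpa using h1
  · intro f hf
    rw [hW'mem] at hf ⊢
    have h1 := hW σ hσG _ hf
    simpa [hσ] using h1
  · intro f hf
    rw [hW'mem] at hf
    have h1 := h₂ _ hf
    rwa [Equiv.sum_comp e f] at h1
  · refine ⟨fun x => f₁ (e.symm x), ?_, ?_⟩
    · rw [hW'mem]
      simpa using hf₁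
    · by_contra hall
      push Not at hall
      apply hf₁c (f₁ (e.symm 0))
      ext x
      have := hall (e x)
      simpa using this
  · refine ⟨fun x => f₂ (e.symm x), ?_, ?_⟩
    · rw [← hf₂]
      exact Equiv.sum_comp e.symm f₂
    · rw [hW'mem]
      simpa using hf₂W

end Cfsg.Agent.PermutationGroups.PrimeDegreeHeart
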