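import Cfsg.Agent.PermutationGroups.PermChar
set_option linter.all false

/-!
# Decomposition of characters into irreducible characters (Maschke) and row orthogonality
-/

set_option autoImplicit false

namespace Cfsg.Agent.PermutationGroups.IrrSum
open Cfsg Representation PermChar Module

variable {G : Type*} [Group G]

open scoped Classical in
theorem classInner_irr [Fintype G] {χ ψ : G → ℂ} (hχ : IsIrrCharacter G χ)
    (hψ : IsIrrCharacter G ψ) : classInner χ ψ = if χ = ψ then 1 else 0 := by
  obtain ⟨n, ρ, hρ, rfl⟩ := hχ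
  obtain ⟨k, σ, hσ, rfl⟩ := hψ
  have : (Nat.card G : ℂ) ≠ 0 := by exact_mod_cast Nat.card_pos.ne'
  let _ : Invertible (Nat.card G : ℂ) := invertibleOfNonzero this
  have hformula : ∀ {n k : ℕ} (ρ : Representation ℂ G (Fin n → ℂ))
      (σ : Representation ℂ G (Fin k → ℂ)) [ρ.IsIrreducible] [σ.IsIrreducible],
      classInner ρ.character σ.character = if Nonempty (Equiv σ ρ) then 1 else 0 := by
    intro n k ρ σ _ _
    rw [← char_orthonormal ρ σ]
    change _ * _ = _
    congr 1
    refine Finset.sum_congr rfl (fun g _ => ?_)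
    rw [char_inv_eq_conj]
  by_cases h : ρ.character = σ.character
  · rw [if_pos h, ← h, hformula, if_pos ⟨Representation.Equiv.refl ρ⟩]
  · rw [if_neg h, hformula, if_neg]
    rintro ⟨E⟩
    exact h (char_iso E).symm

/-- A complement decomposition gives a sum of characters. -/
theorem character_eq_add_of_isCompl {V : Type*} [AddCommGroup V] [Module ℂ V]
    [FiniteDimensional ℂ V] (ρ : Representation ℂ G V) (U U' : Subrepresentation ρ)
    (h : IsCompl U.toSubmodule U'.toSubmodule) :
    ρ.character = U.toRepresentation.character + U'.toRepresentation.character := by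
  funext g
  let N : Bool → Submodule ℂ V := fun b => cond b U.toSubmodule U'.toSubmodule
  have hN : DirectSum.IsInternal N := by
    apply DirectSum.isInternal_submodule_of_iSupIndep_of_iSup_eq_top
    · rw [iSupIndep_pair (i := true) (j := false) (by simp) (by simp)]
      exact h.disjoint
    · rw [iSup_bool_eq]
      exact h.sup_eq_top
  have hf : ∀ b, Set.MapsTo (ρ g) (N b) (N b) := by
    rintro (_ | _)
    · intro v hv; exact U'.apply_mem_toSubmodule g hv
    · intro v hv; exact U.apply_mem_toSubmodule g hv
  have := LinearMap.trace_eq_sum_trace_restrict hN hf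
  rw [Fintype.sum_bool] at this
  exact this

theorem exists_sum_irr_aux [Finite G] (d : ℕ) : ∀ (n : ℕ), n ≤ d →
    ∀ (ρ : Representation ℂ G (Fin n → ℂ)),
    ∃ m : IrrCharacter G →₀ ℕ, ρ.character = m.sum (fun ψ n => n • (ψ : G → ℂ)) := by
  induction d with
  | zero =>
    intro n hn ρ
    obtain rfl : n = 0 := by omega
    refine ⟨0, ?_⟩
    funext g
    have h : ρ g = 0 := LinearMap.ext fun v => Subsingleton.elim _ _
    rw [Representation.character, h, map_zero]
    simp
  | succ d ih =>
    intro n hn ρ
    by_cases hirr : ρ.IsIrreducible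
    · refine ⟨Finsupp.single ⟨ρ.character, n, ρ, hirr, rfl⟩ 1, ?_⟩
      rw [Finsupp.sum_single_index (by simp)]
      simp
    by_cases hn0 : n = 0
    · exact ih n (by omega) ρ
    have hnt : (⊥ : Subrepresentation ρ) ≠ ⊤ := by
      intro h
      have h1 : (Pi.single ⟨0, by omega⟩ 1 : Fin n → ℂ) ∈ (⊤ : Subrepresentation ρ) := trivial
      rw [← h] at h1
      have h2 : (Pi.single ⟨0, by omega⟩ 1 : Fin n → ℂ) = 0 := h1
      have := congrFun h2 ⟨0, by omega⟩
      simp at this
    obtain ⟨U, hU⟩ : ∃ U : Subrepresentation ρ, U ≠ ⊥ ∧ U ≠ ⊤ := by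
      by_contra hcon
      push Not at hcon
      exact hirr { exists_pair_ne := ⟨⊥, ⊤, hnt⟩, eq_bot_or_eq_top := fun A => by
                    by_cases h : A = ⊥
                    · exact Or.inl h
                    · exact Or.inr (hcon A h) }
    have : NeZero (Nat.card G : ℂ) := ⟨by exact_mod_cast Nat.card_pos.ne'⟩
    obtain ⟨W, hW⟩ := exists_isCompl (Subrepresentation.asSubmodule U)
    let U' : Subrepresentation ρ := Subrepresentation.subrepresentationSubmoduleOrderIso.symm W
    have hUU' : IsCompl U U' := by
      have := (Subrepresentation.subrepresentationSubmoduleOrderIso (ρ := ρ)).symm.isCompl hW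
      exact this
    have hcompl : IsCompl U.toSubmodule U'.toSubmodule := by
      constructor
      · rw [disjoint_iff]
        exact congrArg Subrepresentation.toSubmodule hUU'.inf_eq_bot
      · rw [codisjoint_iff]
        exact congrArg Subrepresentation.toSubmodule hUU'.sup_eq_top
    have hdim := Submodule.finrank_add_eq_of_isCompl hcompl
    rw [finrank_fin_fun] at hdim
    have hU0 : finrank ℂ U.toSubmodule ≠ 0 := by
      intro h
      rw [Submodule.finrank_eq_zero] at h
      exact hU.1 (Subrepresentation.toSubmodule_injective h)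
    have hU1 : finrank ℂ U'.toSubmodule ≠ 0 := by
      intro h
      rw [Submodule.finrank_eq_zero] at h
      apply hU.2
      have h2 := hcompl.sup_eq_top
      rw [h, sup_bot_eq] at h2
      exact Subrepresentation.toSubmodule_injective h2
    obtain ⟨σ, ⟨E⟩⟩ := exists_coord U.toRepresentation
    obtain ⟨σ', ⟨E'⟩⟩ := exists_coord U'.toRepresentation
    obtain ⟨m, hm⟩ := ih _ (by omega) σ
    obtain ⟨m', hm'⟩ := ih _ (by omega) σ'
    refine ⟨m + m', ?_⟩
    rw [character_eq_add_of_isCompl ρ U U' hcompl, char_iso E, char_iso E', hm, hm',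
      Finsupp.sum_add_index' (by simp) (by intro a b c; rw [add_smul])]

/-- Maschke: every character is a sum of irreducible characters. -/
theorem exists_sum_irr [Finite G] {χ : G → ℂ} (hχ : IsCharacter G χ) :
    ∃ m : IrrCharacter G →₀ ℕ, χ = m.sum (fun ψ n => n • (ψ : G → ℂ)) := by
  obtain ⟨n, ρ, rfl⟩ := hχ
  exact exists_sum_irr_aux n n le_rfl ρ

end Cfsg.Agent.PermutationGroups.IrrSum
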